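import Mathlib
import Cfsg.Agent.Lib.TwoGrp.FusReal
import Cfsg.Agent.Lib.Fusion.KNorm
import Cfsg.Agent.Lib.Fusion.Ind
import Cfsg.Agent.Lib.GHB.Defs

/-!
# Fusion systems with a weakly closed generalized quaternion subgroup: the data

See `plans/WQ.md`. `G` is a finite 2-group, `F` a saturated fusion system on all of `G`,
`R = ⟨a, b⟩` is generalized quaternion with `a` of order `2 ^ (j + 3)`, `i` is the power of `a` of
order 4 and `z` the involution.
-/

set_option autoImplicit false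

namespace CfsgLib.WQ

open Subgroup Cfsg CfsgLib.Fusion CfsgLib.TwoGrp

universe u

variable {G : Type u} [Group G]

/-- the centralizer of an element -/
abbrev Cn (x : G) : Subgroup G := centralizer {x}

/-- the centralizer of a subgroup -/
abbrev TT (R : Subgroup G) : Subgroup G := centralizer (R : Set G)

theorem mem_Cn {x g : G} : g ∈ Cn x ↔ g * x = x * g := mem_centralizer_singleton_iff

theorem self_mem_Cn (x : G) : x ∈ Cn x := mem_Cn.2 rfl

theorem mem_TT {R : Subgroup G} {g : G} : g ∈ TT R ↔ ∀ r ∈ R, r * g = g * r := mem_centralizer_iff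

/-- `R` is a normal generalized quaternion subgroup of the 2-group `G`. -/
structure Qd (R : Subgroup G) (j : ℕ) (a b i z : G) : Prop where
  two : IsPGroup 2 G
  quat : IsQuat R (2 ^ (j + 2)) a b
  nrm : R.Normal
  hi : i = a ^ 2 ^ (j + 1)
  hz : z = a ^ 2 ^ (j + 2)

/-- `x` acts on `R` as `i` does. -/
def TyA (a b z x : G) : Prop := x * a = a * x ∧ x * b * x⁻¹ = z * b

/-- `x` centralizes only the centre of `R`. -/
def TyC (R : Subgroup G) (z x : G) : Prop := ∀ r ∈ R, x * r = r * x → r = 1 ∨ r = z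

/-- `x` and `y` are conjugate in `F`. -/
def Cj (F : FusionSystem (⊤ : Subgroup G)) (x y : G) : Prop := ∃ P f, Mor F P f ∧ x ∈ P ∧ f x = y

/-- The hypotheses of the theorem. -/
structure Hyp (F : FusionSystem (⊤ : Subgroup G)) (R : Subgroup G) (j : ℕ) (a b i z : G) : Prop
    extends Qd R j a b i z where
  sat : F.IsSaturated 2
  wc : ∀ f, Mor F R f → ∀ r ∈ R, f r ∈ R
  sc : ∀ y ∈ TT R, orderOf y = 2 → ∀ P f, Mor F P f → y ∈ P → f y = y → ∀ r ∈ P, r ∈ R → f r ∈ R
  hyp : F.hyperfocalSubgroup 2 = ⊤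
  nz : ∃ x, x ≠ z ∧ Cj F x z

/-- The part of the conjugate of `R` that belongs to the conjugate `x` of `z`. -/
def RX (F : FusionSystem (⊤ : Subgroup G)) (R : Subgroup G) (z x : G) : Subgroup G where
  carrier := {g | g ∈ Cn x ∧ ∀ φ, Mor F (Cn x) φ → φ x = z → φ g ∈ R}
  one_mem' := ⟨one_mem _, fun φ h _ => by rw [h.map_one]; exact one_mem _⟩
  mul_mem' := fun hg hk => ⟨mul_mem hg.1 hk.1, fun φ h e => by
    rw [h.map_mul hg.1 hk.1]; exact mul_mem (hg.2 φ h e) (hk.2 φ h e)⟩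
  inv_mem' := fun hg => ⟨inv_mem hg.1, fun φ h e => by
    rw [h.map_inv hg.1]; exact inv_mem (hg.2 φ h e)⟩

theorem RX_le (F : FusionSystem (⊤ : Subgroup G)) (R : Subgroup G) (z x : G) : RX F R z x ≤ Cn x :=
  fun _ h => h.1

/-- `x ≠ z` is conjugate to `z` and the four-group `⟨x, z⟩` is fully centralized. -/
structure Ext (F : FusionSystem (⊤ : Subgroup G)) (z x : G) : Prop where
  ne : x ≠ z
  cj : Cj F x z
  fc : F.IsFullyCentralized (closure {x, z})

/-- `θ` is an automorphism of odd order of `C(x)` with `z ↦ x ↦ x z ↦ z`. -/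
structure Th (F : FusionSystem (⊤ : Subgroup G)) (z x : G) (θ : MulAut (Cn x)) : Prop where
  mem : θ ∈ F.autGroup (Cn x)
  odd : Odd (orderOf θ)
  hz : extAut θ z = x
  hx : extAut θ x = x * z

theorem Th.mor {F : FusionSystem (⊤ : Subgroup G)} {z x : G} {θ : MulAut (Cn x)} (h : Th F z x θ) :
    Mor F (Cn x) (extAut θ) := (mem_autGroup le_top).1 h.mem

/-- `E` contains all morphisms of `F` that fix `z`. -/
def FzLe (F : FusionSystem (⊤ : Subgroup G)) (z : G) (E : FusionSystem (⊤ : Subgroup G)) : Prop :=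
  ∀ P f, Mor F P f → z ∈ P → f z = z → Mor E P f

/-- The data of case A. -/
structure CA (F : FusionSystem (⊤ : Subgroup G)) (R : Subgroup G) (j : ℕ) (a b i z x c : G)
    (θ : MulAut (Cn x)) : Prop where
  hyp : Hyp F R j a b i z
  ext : Ext F z x
  tyA : TyA a b z x
  RX_eq : RX F R z x = zpowers c
  ord : orderOf c = 2 ^ (j + 3)
  ca : c * a = a * c
  cb : c * b * c⁻¹ = a * b
  cx : c ^ 2 ^ (j + 2) = x
  th : Th F z x θ

/-- the homocyclic subgroup of case A -/
abbrev AA (a c : G) : Subgroup G := zpowers a ⊔ zpowers c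

/-- The hypotheses of case C. -/
structure CC (F : FusionSystem (⊤ : Subgroup G)) (R : Subgroup G) (j : ℕ) (a b i z : G) : Prop where
  hyp : Hyp F R j a b i z
  all : ∀ x, x ≠ z → Cj F x z → TyC R z x

/-- `F` is of type `G₂`. -/
structure G2T (F : FusionSystem (⊤ : Subgroup G)) (R : Subgroup G) (j : ℕ) (x y s d : G) : Prop where
  big : GHB.Big ⊤ (j + 3) 0 x y s d
  R_eq : R = closure {x * y, d * s * x ^ 2 ^ (j + 2)}
  th : ∃ θ, Mor F (closure {x, y, d}) θ ∧ θ x = y ∧ θ y = (x * y)⁻¹ ∧ θ d = d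

/-- `γ` extends to a morphism on `Q C(Q)` that is the identity on `C(Q)`. -/
def RotMor (F : FusionSystem (⊤ : Subgroup G)) (Q : Subgroup G) (γ : MulAut Q) : Prop :=
  ∃ g, Mor F (Q ⊔ TT Q) g ∧ (∀ q ∈ Q, g q = extAut γ q) ∧ ∀ c ∈ TT Q, g c = c

variable {F : FusionSystem (⊤ : Subgroup G)} {x y w : G}

theorem Cj.refl (F : FusionSystem (⊤ : Subgroup G)) (x : G) : Cj F x x :=
  ⟨⊤, _, Mor.id F le_rfl, mem_top x, rfl⟩

theorem cj_of_mor {P : Subgroup G} {f : G → G} (hf : Mor F P f) (hx : x ∈ P) : Cj F x (f x) :=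
  ⟨P, f, hf, hx, rfl⟩

theorem cj_conj (F : FusionSystem (⊤ : Subgroup G)) (s x : G) : Cj F x (s * x * s⁻¹) :=
  cj_of_mor (Mor.conj F le_rfl (mem_top s)) (mem_top x)

theorem Cj.symm (h : Cj F x y) : Cj F y x := by
  obtain ⟨P, f, hf, hx, rfl⟩ := h
  obtain ⟨g, hg, e, -⟩ := hf.exists_inv
  exact ⟨_, g, hg, mem_img_of_mem f hx, e x hx⟩

theorem Cj.exists_zpowers (h : Cj F x y) :
    ∃ f, Mor F (zpowers x) f ∧ f x = y ∧ img (zpowers x) f = zpowers y := by
  obtain ⟨P, f, hf, hx, rfl⟩ := h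
  have h1 := hf.mono (zpowers_le.2 hx)
  exact ⟨f, h1, rfl, h1.hom.img_zpowers⟩

theorem Cj.trans (h : Cj F x y) (h' : Cj F y w) : Cj F x w := by
  obtain ⟨f, hf, rfl, e⟩ := h.exists_zpowers
  obtain ⟨g, hg, rfl, -⟩ := h'.exists_zpowers
  exact ⟨_, _, hf.comp' hg fun v hv => e ▸ mem_img_of_mem f hv, mem_zpowers x, rfl⟩

theorem Cj.orderOf_eq (h : Cj F x y) : orderOf y = orderOf x := by
  obtain ⟨P, f, hf, hx, rfl⟩ := h
  exact hf.orderOf_eq hx

end CfsgLib.WQ
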