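import Mathlib
import Cfsg.Agent.Lib.WQ.Defs

/-! Package AUT: the action of `G` on the quaternion subgroup `R`. See `plans/WQ.md`. -/

set_option autoImplicit false
set_option linter.unusedSectionVars false

namespace CfsgLib.WQ

open Subgroup Cfsg CfsgLib.Fusion CfsgLib.TwoGrp CfsgLib.QDFus

universe u

variable {G : Type u} [Group G] [Finite G]
variable {R : Subgroup G} {j : ℕ} {a b i z : G}

namespace Qd

variable (h : Qd R j a b i z)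
include h

omit [Finite G] h in
theorem dvd_of_odd {n : ℕ} {u v : ℤ} (hv : Odd v) (k : (2 ^ n : ℤ) ∣ u * v) : (2 ^ n : ℤ) ∣ u :=
  (Int.isCoprime_two_left.2 hv).pow_left.dvd_of_dvd_mul_right k

omit [Finite G] h in
theorem dvd_odd {u v : ℤ} (hv : Odd v) (k : (8 * 2 ^ j : ℤ) ∣ u * v) : (8 * 2 ^ j : ℤ) ∣ u := by
  rw [show (8 * 2 ^ j : ℤ) = 2 ^ (j + 3) by ring] at k ⊢
  exact dvd_of_odd hv k

omit [Finite G] h in
theorem dvc {n u v : ℤ} (k : n ∣ u) (e : v = u) : n ∣ v := e ▸ k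

omit [Finite G] h in
theorem d8 {u : ℤ} (k : (8 * 2 ^ j : ℤ) ∣ u) : (8 : ℤ) ∣ u := (dvd_mul_right _ _).trans k

omit [Finite G] h in
theorem even_of {u : ℤ} (k : (8 * 2 ^ j : ℤ) ∣ 4 * 2 ^ j * u) : Even u := by
  rw [show (8 * 2 ^ j : ℤ) = 4 * 2 ^ j * 2 by ring, mul_dvd_mul_iff_left (by positivity)] at k
  exact even_iff_two_dvd.2 k

omit [Finite G] h in
theorem half {u : ℤ} (k : (8 * 2 ^ j : ℤ) ∣ 2 * u) : ∃ c, u = 4 * 2 ^ j * c := by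
  obtain ⟨c, e⟩ := k
  exact ⟨c, by linarith⟩

theorem ord_a : orderOf a = 2 ^ (j + 3) := by rw [h.quat.ord]; ring

theorem a_zpow_eq {u v : ℤ} : a ^ u = a ^ v ↔ (2 ^ (j + 3) : ℤ) ∣ u - v := by rw [zpow_eq_zpow_iff_dvd, h.ord_a]; push_cast; rfl

theorem ze {u v : ℤ} : a ^ u = a ^ v ↔ (8 * 2 ^ j : ℤ) ∣ u - v := by
  rw [h.a_zpow_eq, show (2 ^ (j + 3) : ℤ) = 8 * 2 ^ j by ring]

theorem ze0 {u : ℤ} : a ^ u = 1 ↔ (8 * 2 ^ j : ℤ) ∣ u := by rw [← zpow_zero a, h.ze, sub_zero]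

theorem z_eq : z = a ^ (4 * 2 ^ j : ℤ) := by rw [h.hz, ← zpow_natCast]; congr 1; push_cast; ring

theorem i_eq : i = a ^ (2 * 2 ^ j : ℤ) := by rw [h.hi, ← zpow_natCast]; congr 1; push_cast; ring

theorem a_mem : a ∈ R := (h.quat.mem a).2 ⟨1, .inl (zpow_one a).symm⟩

theorem b_mem : b ∈ R := (h.quat.mem b).2 ⟨0, .inr (by simp)⟩

theorem i_mem : i ∈ R := h.hi ▸ pow_mem h.a_mem _

theorem z_mem : z ∈ R := h.hz ▸ pow_mem h.a_mem _

theorem zz : z * z = 1 := by rw [h.z_eq, ← zpow_add, h.ze0]; exact ⟨1, by ring⟩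

theorem z_ne : z ≠ 1 := by
  rw [h.z_eq, Ne, h.ze0]
  exact fun k => by simpa using even_of (u := 1) (by rwa [mul_one])

theorem ord_z : orderOf z = 2 := orderOf_eq_prime (by rw [sq, h.zz]) h.z_ne

theorem ii : i * i = z := by rw [h.z_eq, h.i_eq, ← zpow_add]; congr 1; ring

theorem bb : b * b = z := h.quat.bb.trans h.hz.symm

theorem i_ne_inv : i ≠ i⁻¹ := fun e => h.z_ne (by rw [← h.ii]; exact mul_eq_one_iff_eq_inv.2 e)

theorem b_zpow (u : ℤ) : b * a ^ u * b⁻¹ = a ^ (-u) := by rw [← conj_zpow, h.quat.conj, inv_zpow']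

theorem bi : b * i * b⁻¹ = i⁻¹ := by rw [h.i_eq, h.b_zpow, zpow_neg]

theorem ib : i * b * i⁻¹ = z * b := by
  calc _ = i * (b * i * b⁻¹)⁻¹ * b := by group
    _ = _ := by rw [h.bi, inv_inv, h.ii]

theorem sq_out (u : ℤ) : a ^ u * b * (a ^ u * b) = z := by
  calc _ = a ^ u * (b * a ^ u * b⁻¹) * (b * b) := by group
    _ = z := by rw [h.b_zpow, h.bb]; group

theorem z_zpow (c : ℤ) : a ^ (4 * 2 ^ j * c) = 1 ∨ a ^ (4 * 2 ^ j * c) = z := by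
  rw [h.z_eq, h.ze, h.ze0]
  rcases Int.even_or_odd' c with ⟨d, rfl | rfl⟩
  exacts [.inl ⟨d, by ring⟩, .inr ⟨d, by ring⟩]

theorem invol {r : G} (hr : r ∈ R) (h2 : r * r = 1) : r = 1 ∨ r = z := by
  obtain ⟨u, rfl | rfl⟩ := (h.quat.mem r).1 hr
  · rw [← zpow_add, h.ze0, ← two_mul] at h2
    obtain ⟨c, rfl⟩ := half h2
    exact h.z_zpow c
  · exact absurd ((h.sq_out u).symm.trans h2) h.z_ne

theorem z_comm (g : G) : g * z = z * g := mul_inv_eq_iff_eq_mul.1 ((h.invol (h.nrm.conj_mem z h.z_mem g) (by rw [conj_mul, h.zz, mul_one, mul_inv_cancel])).resolve_left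
    (by simpa using h.z_ne))

theorem z_memT : z ∈ TT R := mem_TT.2 fun r _ => h.z_comm r

theorem z_mem_Cn (x : G) : z ∈ Cn x := mem_Cn.2 (h.z_comm x).symm

theorem T_normal : (TT R).Normal := have := h.nrm; normal_centralizer

theorem a_ne_inv : a ≠ a⁻¹ := fun e => by
  have := d8 (h.ze.1 ((zpow_one a).trans (e.trans (zpow_neg_one a).symm)))
  omega

theorem inf_T {r : G} (hr : r ∈ R) (hT : r ∈ TT R) : r = 1 ∨ r = z := by
  obtain ⟨u, rfl | rfl⟩ := (h.quat.mem r).1 hr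
  · refine h.invol hr (mul_eq_one_iff_eq_inv.2 ?_)
    rw [← zpow_neg, ← h.b_zpow, mem_TT.1 hT b h.b_mem, mul_inv_cancel_right]
  · have := mem_TT.1 hT a h.a_mem
    rw [← mul_assoc, ← (Commute.zpow_self a u).eq, mul_assoc, mul_assoc, mul_right_inj] at this
    exact absurd (by rw [← h.quat.conj, ← this, mul_inv_cancel_right]) h.a_ne_inv

theorem memT_iff {g : G} : g ∈ TT R ↔ g * a = a * g ∧ g * b = b * g := by
  refine ⟨fun k => ⟨(mem_TT.1 k a h.a_mem).symm, (mem_TT.1 k b h.b_mem).symm⟩, fun ⟨k, k'⟩ => mem_TT.2 fun r hr => ?_⟩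
  obtain ⟨u, rfl | rfl⟩ := (h.quat.mem r).1 hr
  exacts [(Commute.zpow_right k u).symm, ((Commute.zpow_right k u).mul_right k').symm]

/-- an injective endomorphism of `R` -/
theorem hom_act {f : G → G} (hf : IsHomOn R f) (hi : Set.InjOn f R) (hm : ∀ r ∈ R, f r ∈ R) :
    ∃ l m : ℤ, Odd l ∧ f a = a ^ l ∧ f b = a ^ m * b := by
  have ha := h.a_mem
  have k : ∀ u : ℤ, f a ^ u = 1 → (8 * 2 ^ j : ℤ) ∣ u := fun u e =>
    h.ze0.1 (hi (zpow_mem ha u) (one_mem _) (by rw [hf.map_zpow ha, e, hf.map_one]))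
  obtain ⟨l, e | e⟩ := (h.quat.mem _).1 (hm a ha)
  · have ol : Odd l := Int.not_even_iff_odd.1 fun ⟨c, hc⟩ => by
      simpa using even_of (u := 1) (k _ (by rw [e, ← zpow_mul, h.ze0, hc]; exact ⟨c, by ring⟩))
    obtain ⟨m, e' | e'⟩ := (h.quat.mem _).1 (hm b h.b_mem)
    · refine absurd (hi ha (inv_mem ha) ?_) h.a_ne_inv
      rw [← h.quat.conj, hf.map_conj h.b_mem ha, e, e']; group
    · exact ⟨l, m, ol, e, e'⟩
  · have := d8 (k (2 * 2) (by rw [zpow_mul, zpow_two, zpow_two, e, h.sq_out, h.zz]))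
    omega

theorem act (g : G) : ∃ l m : ℤ, Odd l ∧ g * a * g⁻¹ = a ^ l ∧ g * b * g⁻¹ = a ^ m * b := h.hom_act (isHomOn_conj R g) (fun _ _ _ _ e => conj_injective e) fun r hr => h.nrm.conj_mem r hr g

end Qd

/-- `g` acts on `R` with the parameters `l`, `m` -/
def Ac (a b g : G) (l m : ℤ) : Prop := g * a * g⁻¹ = a ^ l ∧ g * b * g⁻¹ = a ^ m * b

section

variable {g g' : G} {l m l' m' : ℤ}

theorem Ac.zpow (k : Ac a b g l m) (u : ℤ) : g * a ^ u * g⁻¹ = a ^ (l * u) := by rw [← conj_zpow, k.1, zpow_mul]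

theorem Ac.out (k : Ac a b g l m) (u : ℤ) : g * (a ^ u * b) * g⁻¹ = a ^ (l * u + m) * b := by
  rw [← conj_mul, k.zpow, k.2, zpow_add, mul_assoc]

theorem Ac.mul (k : Ac a b g l m) (k' : Ac a b g' l' m') : Ac a b (g * g') (l * l') (l * m' + m) :=
  ⟨by rw [← k.zpow, ← k'.1]; group, by rw [← k.out, ← k'.2]; group⟩

theorem ac_one : Ac a b 1 1 0 := ⟨by simp, by simp⟩

theorem TyA.ac {x : G} (h : Qd R j a b i z) (k : TyA a b z x) : Ac a b x 1 (4 * 2 ^ j) :=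
  ⟨by rw [k.1, mul_inv_cancel_right, zpow_one], by rw [k.2, h.z_eq]⟩

namespace Qd

variable (h : Qd R j a b i z)
include h

theorem uniq (k : Ac a b g l m) (k' : Ac a b g l' m') : (8 * 2 ^ j : ℤ) ∣ l - l' ∧ (8 * 2 ^ j : ℤ) ∣ m - m' :=
  ⟨h.ze.1 (k.1.symm.trans k'.1), h.ze.1 (mul_right_cancel (k.2.symm.trans k'.2))⟩

theorem congr (k : Ac a b g l m) (e : (8 * 2 ^ j : ℤ) ∣ l - l') (e' : (8 * 2 ^ j : ℤ) ∣ m - m') : Ac a b g l' m' :=
  ⟨k.1.trans (h.ze.2 e), by rw [k.2, h.ze.2 e']⟩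

theorem ac_T : g ∈ TT R ↔ Ac a b g 1 0 := by
  rw [h.memT_iff, Ac, zpow_one, zpow_zero, one_mul, mul_inv_eq_iff_eq_mul, mul_inv_eq_iff_eq_mul]

theorem memT_of (k : Ac a b g l m) (e : (8 * 2 ^ j : ℤ) ∣ l - 1) (e' : (8 * 2 ^ j : ℤ) ∣ m) : g ∈ TT R :=
  h.ac_T.2 (h.congr k e (by rwa [sub_zero]))

theorem eqT (k : Ac a b g l m) (k' : Ac a b g' l m) : g'⁻¹ * g ∈ TT R := h.ac_T.2
  ⟨by rw [show g'⁻¹ * g * a * _ = g'⁻¹ * (g * a * g⁻¹) * g' by group, k.1, ← k'.1]; group,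
    by rw [show g'⁻¹ * g * b * _ = g'⁻¹ * (g * b * g⁻¹) * g' by group, k.2, ← k'.2]; group⟩

theorem eqT' (k : Ac a b g l m) (k' : Ac a b g' l m) : g * g'⁻¹ ∈ TT R := by
  simpa [mul_assoc] using h.T_normal.conj_mem _ (h.eqT k k') g'

theorem ac_a (u : ℤ) : Ac a b (a ^ u) 1 (2 * u) := ⟨by group, by
  calc _ = a ^ u * (b * a ^ (-u) * b⁻¹) * b := by group
    _ = _ := by rw [h.b_zpow]; group⟩

theorem ac_ab (u : ℤ) : Ac a b (a ^ u * b) (-1) (2 * u) := by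
  simpa using (h.ac_a u).mul (show Ac a b b (-1) 0 from ⟨by rw [h.quat.conj, zpow_neg_one], by simp⟩)

theorem comm_iff (k : Ac a b g l m) (u : ℤ) : g * a ^ u = a ^ u * g ↔ (8 * 2 ^ j : ℤ) ∣ (l - 1) * u := by
  rw [← mul_inv_eq_iff_eq_mul, k.zpow, h.ze, sub_mul, one_mul]

theorem comm_iff' (k : Ac a b g l m) (u : ℤ) :
    g * (a ^ u * b) = a ^ u * b * g ↔ (8 * 2 ^ j : ℤ) ∣ (l - 1) * u + m := by
  rw [← mul_inv_eq_iff_eq_mul, k.out, mul_left_inj, h.ze, show l * u + m - u = (l - 1) * u + m by ring]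

theorem ab_mem (u : ℤ) : a ^ u * b ∈ R := mul_mem (zpow_mem h.a_mem u) h.b_mem

end Qd

end

namespace Qd

variable (h : Qd R j a b i z)
include h

theorem mem_RT_iff {g : G} : g ∈ R ⊔ TT R ↔
    (g * a * g⁻¹ = a ∨ g * a * g⁻¹ = a⁻¹) ∧ ∃ m : ℤ, g * b * g⁻¹ = a ^ (2 * m) * b := by
  have := h.T_normal
  constructor
  · intro k
    obtain ⟨r, hr, t, ht, rfl⟩ := mem_sup_of_normal_right.1 k
    obtain ⟨u, rfl | rfl⟩ := (h.quat.mem r).1 hr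
    · have := (h.ac_a u).mul (h.ac_T.1 ht)
      exact ⟨.inl (by simpa using this.1), u, by simpa using this.2⟩
    · have := (h.ac_ab u).mul (h.ac_T.1 ht)
      exact ⟨.inr (by simpa using this.1), u, by simpa using this.2⟩
  · rintro ⟨k | k, m, k'⟩
    · exact mul_inv_cancel_left (a ^ m) g ▸ mul_mem_sup (zpow_mem h.a_mem m)
        (h.eqT ⟨k.trans (zpow_one a).symm, k'⟩ (h.ac_a m))
    · exact mul_inv_cancel_left (a ^ m * b) g ▸ mul_mem_sup (h.ab_mem m)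
        (h.eqT ⟨k.trans (zpow_neg_one a).symm, k'⟩ (h.ac_ab m))

/-- `Out(R)` is abelian. -/
theorem out_comm {P : Subgroup G} {f : G → G} (hf : IsHomOn P f) (hi : Set.InjOn f P) (hR : R ≤ P)
    (hm : ∀ r ∈ R, f r ∈ R) {x : G} (hx : x ∈ P) : x⁻¹ * f x ∈ R ⊔ TT R := by
  have ha := hR h.a_mem
  have hb := hR h.b_mem
  obtain ⟨_, m, ⟨l, rfl⟩, e, e'⟩ := h.hom_act (hf.mono hR) (hi.mono hR) hm
  obtain ⟨_, μ, ⟨p, rfl⟩, k⟩ := h.act x
  obtain ⟨_, μ', ⟨p', rfl⟩, k'⟩ := h.act (f x)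
  obtain ⟨_, μ'', ⟨p'', rfl⟩, k''⟩ := h.act (x⁻¹ * f x)
  have e1 := hf.map_conj hx ha
  have e2 := hf.map_conj hx hb
  rw [k.1, hf.map_zpow ha, e, Ac.zpow k', ← zpow_mul, h.ze] at e1
  rw [k.2, hf.map_mul (zpow_mem ha _) hb, hf.map_zpow ha, e, e', Ac.out k', ← zpow_mul, ← mul_assoc, ← zpow_add,
    mul_left_inj, h.ze] at e2
  obtain ⟨e3, e4⟩ := h.uniq (Ac.mul k k'') (by rw [mul_inv_cancel_left]; exact k')
  have e5 : (8 * 2 ^ j : ℤ) ∣ 2 * p + 1 - (2 * p' + 1) := dvd_odd (odd_two_mul_add_one l) (by convert e1 using 1; ring)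
  obtain ⟨c, hc⟩ := d8 e2
  obtain ⟨d, hd⟩ := d8 e4
  refine h.mem_RT_iff.2 ⟨.inl (by
    rw [k''.1, ← zpow_one a, ← zpow_mul, one_mul, h.ze]
    exact dvd_odd (odd_two_mul_add_one p) (dvc (e3.sub e5) (by ring))),
    4 * d - p * μ'' - 4 * c + l * μ - p' * m, ?_⟩
  rw [k''.2]
  congr 2
  linarith

theorem conj_mem_RT (s x : G) : x⁻¹ * (s * x * s⁻¹) ∈ R ⊔ TT R := h.out_comm (isHomOn_conj ⊤ s) (fun _ _ _ _ e => conj_injective e) le_top (fun r hr => h.nrm.conj_mem r hr s) (mem_top x)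

theorem i_cases (g : G) : g * i * g⁻¹ = i ∨ g * i * g⁻¹ = i⁻¹ := by
  obtain ⟨_, m, ⟨l, rfl⟩, k⟩ := h.act g
  rw [h.i_eq, Ac.zpow k, ← zpow_neg, h.ze, h.ze]
  rcases Int.even_or_odd' l with ⟨d, rfl | rfl⟩
  exacts [.inl ⟨d, by ring⟩, .inr ⟨d + 1, by ring⟩]

theorem not_sq {x : G} (k : x * i * x⁻¹ = i⁻¹) : ¬IsSquare x := by
  rintro ⟨g, rfl⟩
  rw [show g * g * i * (g * g)⁻¹ = g * (g * i * g⁻¹) * g⁻¹ by group] at k
  rcases h.i_cases g with e | e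
  · rw [e, e] at k; exact h.i_ne_inv k
  · rw [e, ← conj_inv, e, inv_inv] at k; exact h.i_ne_inv k

theorem inv_i {x : G} {l m : ℤ} (k : Ac a b x l m) (e : (4 : ℤ) ∣ l + 1) : x * i * x⁻¹ = i⁻¹ := by
  obtain ⟨c, e⟩ := e
  rw [h.i_eq, k.zpow, ← zpow_neg, h.ze]
  exact ⟨c, by linear_combination 2 * 2 ^ j * e⟩

theorem types' {x : G} (hx : x * x = 1) : x * a = a * x ∨ (∃ m, Odd m ∧ Ac a b x (-1) m) ∨
    (x * i * x⁻¹ = i⁻¹ ∧ ∃ r ∈ R, x * r = r * x ∧ r * r = z) ∨ ∃ c, Ac a b x (4 * 2 ^ j + 1) (4 * 2 ^ j * c) := by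
  obtain ⟨_, m, ⟨l, rfl⟩, k⟩ := h.act x
  obtain ⟨⟨c, e1⟩, e2⟩ := h.uniq (Ac.mul k k) (hx ▸ ac_one)
  have e3 : (2 ^ (j + 1) : ℤ) ∣ l * (l + 1) := ⟨c, by rw [pow_succ]; linarith⟩
  rcases Int.even_or_odd l with o | o
  · obtain ⟨c, rfl⟩ := dvd_of_odd o.add_one e3
    rcases Int.even_or_odd' c with ⟨d, rfl | rfl⟩
    · exact .inl (mul_inv_eq_iff_eq_mul.1 (k.1.trans ((h.ze.2 ⟨d, by ring⟩).trans (zpow_one a))))
    · obtain ⟨c, rfl⟩ := half (dvd_odd (u := 2 * m) (odd_two_mul_add_one (2 ^ j * (2 * d + 1)))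
        (by convert e2 using 1; ring))
      exact .inr (.inr (.inr ⟨c, h.congr k ⟨d, by ring⟩ (by simp)⟩))
  · obtain ⟨c, e⟩ := dvd_of_odd o (mul_comm l _ ▸ e3)
    obtain rfl := eq_sub_of_add_eq e
    refine .inr ?_
    have k1 := h.inv_i k ⟨2 ^ j * c, by ring⟩
    rcases Int.even_or_odd' c with ⟨d, rfl | rfl⟩
    · have k2 : Ac a b x (-1) m := h.congr k ⟨d, by ring⟩ (by simp)
      rcases Int.even_or_odd' m with ⟨n, rfl | rfl⟩
      · exact .inr (.inl ⟨k1, _, h.ab_mem n, (h.comm_iff' k2 n).2 ⟨0, by ring⟩, h.sq_out n⟩)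
      · exact .inl ⟨_, odd_two_mul_add_one n, k2⟩
    · obtain ⟨n, rfl⟩ := (Int.even_mul.1 (even_of (u := (2 * d + 1) * m) (by convert e2 using 1; ring))).resolve_left
        (by simp)
      exact .inr (.inl ⟨k1, _, h.ab_mem ((1 - 2 * 2 ^ j) * n), (h.comm_iff' (h.congr k (l' := 4 * 2 ^ j - 1)
        (m' := n + n) ⟨d, by ring⟩ (by simp)) _).2 ⟨(1 - 2 ^ j) * n, by ring⟩, h.sq_out _⟩)

theorem tyA_of' {x : G} (hx : x * x = 1) (ha : x * a = a * x) : x ∈ TT R ∨ TyA a b z x := by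
  obtain ⟨l, m, -, -, k⟩ := h.act x
  have k1 : Ac a b x 1 m := ⟨by rw [ha, mul_inv_cancel_right, zpow_one], k⟩
  obtain ⟨c, rfl⟩ := half (u := m) (by convert (h.uniq (k1.mul k1) (hx ▸ ac_one)).2 using 1; ring)
  exact (h.z_zpow c).imp (fun e => h.memT_of k1 (by simp) (h.ze0.1 e)) fun e => ⟨ha, by rw [k, e]⟩

theorem tyC_of_ac {x : G} {m : ℤ} (hm : Odd m) (k : Ac a b x (-1) m) : TyC R z x := fun r hr e => by
  obtain ⟨u, rfl | rfl⟩ := (h.quat.mem r).1 hr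
  · obtain ⟨c, rfl⟩ := half (u := u) (dvc ((h.comm_iff k u).1 e).neg_right (by ring))
    exact h.z_zpow c
  · have := d8 ((h.comm_iff' k u).1 e)
    obtain ⟨n, rfl⟩ := hm
    omega

/-- The types of involutions acting on `R`. -/
theorem types {x : G} (hx : x * x = 1) (hT : x ∉ TT R) : TyA a b z x ∨ TyC R z x ∨
    (¬ IsSquare x ∧ ∃ r ∈ R, x * r = r * x ∧ r * r = z) ∨
    ((∃ r ∈ R, ∃ r' ∈ R, x * r = r * x ∧ x * r' = r' * x ∧ r * r' ≠ r' * r) ∧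
      ∀ g, (∀ r ∈ R, x * r = r * x → g * r = r * g) → g ∈ TT R ∨ g * x ∈ TT R) := by
  rcases h.types' hx with k | ⟨m, hm, k⟩ | ⟨k, k'⟩ | ⟨c, k⟩
  · exact .inl ((h.tyA_of' hx k).resolve_left hT)
  · exact .inr (.inl (h.tyC_of_ac hm k))
  · exact .inr (.inr (.inl ⟨h.not_sq k, k'⟩))
  have c1 := (h.comm_iff k 2).2 ⟨1, by ring⟩
  have c2 := (h.comm_iff' k c).2 ⟨c, by ring⟩
  refine .inr (.inr (.inr ⟨⟨_, zpow_mem h.a_mem 2, _, h.ab_mem c, c1, c2, fun e => ?_⟩, fun g hg => ?_⟩))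
  · have := d8 ((h.comm_iff (h.ac_ab c) 2).1 e.symm)
    omega
  obtain ⟨l, m, -, k'⟩ := h.act g
  obtain ⟨d, e⟩ := half (mul_comm (l - 1) 2 ▸ (h.comm_iff k' 2).1 (hg _ (zpow_mem h.a_mem 2) c1))
  obtain ⟨n, e'⟩ := (h.comm_iff' k' c).1 (hg _ (h.ab_mem c) c2)
  obtain rfl := eq_add_of_sub_eq e
  obtain rfl := eq_sub_of_add_eq' e'
  rcases Int.even_or_odd' d with ⟨d, rfl | rfl⟩
  · exact .inl (h.memT_of k' ⟨d, by ring⟩ ⟨n - d * c, by ring⟩)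
  · exact .inr (h.memT_of (Ac.mul k' k) ⟨d + 1 + 2 * 2 ^ j * (2 * d + 1), by ring⟩
      ⟨n - d * c + 2 * 2 ^ j * (2 * d + 1) * c, by ring⟩)

theorem not_tyC {x r : G} (hr : r ∈ R) (c : x * r = r * x) (e : r * r ≠ 1) : ¬TyC R z x := fun k =>
  (k r hr c).elim (fun f => e (by rw [f, mul_one])) fun f => e (by rw [f, h.zz])

theorem tyC_ac {x : G} (hx : x * x = 1) (hC : TyC R z x) : ∃ m, Odd m ∧ Ac a b x (-1) m := by
  rcases h.types' hx with k | k | ⟨-, r, hr, c, e⟩ | ⟨c, k⟩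
  · exact absurd hC (h.not_tyC h.a_mem k fun e => h.a_ne_inv (mul_eq_one_iff_eq_inv.1 e))
  · exact k
  · exact absurd hC (h.not_tyC hr c (e ▸ h.z_ne))
  · exact absurd hC (h.not_tyC h.i_mem (h.i_eq ▸ (h.comm_iff k _).2 ⟨2 ^ j, by ring⟩) (h.ii ▸ h.z_ne))

theorem tyC_act {x : G} (hx : x * x = 1) (hC : TyC R z x) :
    x * a * x⁻¹ = a⁻¹ ∧ ∃ m : ℤ, Odd m ∧ x * b * x⁻¹ = a ^ m * b := let ⟨m, hm, k⟩ := h.tyC_ac hx hC; ⟨k.1.trans (zpow_neg_one a), m, hm, k.2⟩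

theorem tyC_of_act {x : G} (h1 : x * a * x⁻¹ = a⁻¹) {m : ℤ} (hm : Odd m)
    (h2 : x * b * x⁻¹ = a ^ m * b) : TyC R z x := h.tyC_of_ac hm ⟨h1.trans (zpow_neg_one a).symm, h2⟩

theorem not_tyC_of_act {x : G} (h1 : x * a * x⁻¹ = a⁻¹) {m : ℤ} (h2 : x * b * x⁻¹ = a ^ (2 * m) * b) :
    ∃ r ∈ R, x * r = r * x ∧ r * r = z := ⟨_, h.ab_mem m, (h.comm_iff' ⟨h1.trans (zpow_neg_one a).symm, h2⟩ m).2 ⟨0, by ring⟩, h.sq_out m⟩

theorem tyC_not_sq {x : G} (hx : x * x = 1) (hC : TyC R z x) : ¬ IsSquare x := let ⟨_, _, k⟩ := h.tyC_ac hx hC; h.not_sq (h.inv_i k (by simp))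

theorem tyC_i {x : G} (hx : x * x = 1) (hC : TyC R z x) :
    x * i * x⁻¹ = i⁻¹ ∧ i * x * i⁻¹ = x * z := by
  obtain ⟨_, _, k⟩ := h.tyC_ac hx hC
  have e := h.inv_i k (by simp)
  refine ⟨e, ?_⟩
  rw [← inv_eq_of_mul_eq_one_right h.zz, ← h.ii, mul_inv_rev, ← mul_assoc]
  nth_rewrite 2 [← e]
  rw [← mul_assoc, ← mul_assoc, hx, one_mul, inv_eq_of_mul_eq_one_right hx]

theorem tyC_mul {x x' : G} (hx : x * x = 1) (hC : TyC R z x) (hx' : x' * x' = 1) (hC' : TyC R z x') :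
    x * x' ∈ R ⊔ TT R := by
  obtain ⟨_, ⟨m, rfl⟩, k⟩ := h.tyC_ac hx hC
  obtain ⟨_, ⟨m', rfl⟩, k'⟩ := h.tyC_ac hx' hC'
  exact h.mem_RT_iff.2 ⟨.inl (by simpa using (k.mul k').1), m - m', by rw [(k.mul k').2]; congr 2; ring⟩

theorem tyC_notMem {x : G} (hx : x * x = 1) (hC : TyC R z x) : x ∉ R ⊔ TT R := fun e => by
  obtain ⟨_, ⟨m, rfl⟩, k⟩ := h.tyC_ac hx hC
  obtain ⟨-, m', k'⟩ := h.mem_RT_iff.1 e
  have := d8 (h.uniq k ⟨k.1, k'⟩).2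
  omega

theorem tyC_conj {x : G} (hC : TyC R z x) (s : G) : TyC R z (s * x * s⁻¹) := fun r hr e => by
  have e1 : r = s * (s⁻¹ * r * s⁻¹⁻¹) * s⁻¹ := by group
  refine (hC _ (h.nrm.conj_mem r hr s⁻¹) ?_).imp (fun k => by rw [e1, k]; simp) fun k => by
    rw [e1, k, h.z_comm, mul_inv_cancel_right]
  calc _ = s⁻¹ * (s * x * s⁻¹ * r) * s := by group
    _ = _ := by rw [e]; group

theorem rel_C {x g : G} {l m μ : ℤ} (k : Ac a b x (-1) μ) (k' : Ac a b g l m) (hg : g ∈ Cn x) :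
    (8 * 2 ^ j : ℤ) ∣ (l - 1) * μ + 2 * m := by
  convert (h.uniq (k'.mul k) (mem_Cn.1 hg ▸ k.mul k')).2 using 1; ring

/-- Elements commuting with an involution of type C commute modulo `C(R)`. -/
theorem comm_memT_C {x g g' : G} (hx : x * x = 1) (hC : TyC R z x) (hg : g ∈ Cn x) (hg' : g' ∈ Cn x) :
    g * g' * g⁻¹ * g'⁻¹ ∈ TT R := by
  obtain ⟨μ, -, k⟩ := h.tyC_ac hx hC
  obtain ⟨_, m, ⟨l, rfl⟩, k1⟩ := h.act g
  obtain ⟨_, m', ⟨l', rfl⟩, k2⟩ := h.act g'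
  obtain ⟨c, e⟩ := h.rel_C k k1 hg
  obtain ⟨c', e'⟩ := h.rel_C k k2 hg'
  rw [mul_assoc, ← mul_inv_rev]
  exact h.eqT' (Ac.mul k1 k2) (h.congr (Ac.mul k2 k1) ⟨0, by ring⟩
    ⟨l' * c - l * c', by linear_combination l' * e - l * e'⟩)

theorem tyA_of_commC {x e : G} (hx : x * x = 1) (hC : TyC R z x) (he : e * e = 1) (hex : e ∈ Cn x)
    (hei : e * i = i * e) : e ∈ TT R ∨ TyA a b z e := by
  have n : e * i * e⁻¹ ≠ i⁻¹ := fun k => h.i_ne_inv (by rwa [hei, mul_inv_cancel_right] at k)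
  rcases h.types' he with k | ⟨m, -, k⟩ | ⟨k, -⟩ | ⟨c, k⟩
  · exact h.tyA_of' he k
  · exact absurd (h.inv_i k (by simp)) n
  · exact absurd k n
  · obtain ⟨μ, o, k'⟩ := h.tyC_ac hx hC
    exact absurd (even_of (dvc ((h.rel_C k' k hex).sub (dvd_mul_right _ c)) (by ring)))
      (Int.not_even_iff_odd.2 o)

theorem not_tyC_of_comm {x : G} (ha : x * a = a * x) : ¬ TyC R z x := h.not_tyC h.a_mem ha fun e => h.a_ne_inv (mul_eq_one_iff_eq_inv.1 e)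

theorem tyA_cent {x : G} (hA : TyA a b z x) {r : G} (hr : r ∈ R) :
    x * r = r * x ↔ r ∈ zpowers a := by
  refine ⟨fun e => ?_, by rintro ⟨u, rfl⟩; exact Commute.zpow_right hA.1 u⟩
  obtain ⟨u, rfl | rfl⟩ := (h.quat.mem r).1 hr
  · exact zpow_mem_zpowers a u
  · simpa using even_of (u := 1) (by simpa using (h.comm_iff' (hA.ac h) u).1 e)

theorem tyA_of {x : G} (hx : x * x = 1) (ha : x * a = a * x) : x ∈ TT R ∨ TyA a b z x := h.tyA_of' hx ha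

theorem tyA_mul {x x' : G} (hA : TyA a b z x) (hA' : TyA a b z x') : x * x' ∈ TT R := h.memT_of ((hA.ac h).mul (hA'.ac h)) (by simp) ⟨1, by ring⟩

theorem tyA_conj {x : G} (hA : TyA a b z x) (s : G) : TyA a b z (s * x * s⁻¹) := by
  obtain ⟨_, m, ⟨l, rfl⟩, k⟩ := h.act s
  obtain ⟨l', m', -, k'⟩ := h.act (s * x * s⁻¹)
  obtain ⟨e1, n, e2⟩ := h.uniq (Ac.mul k' k) (by rw [inv_mul_cancel_right]; exact Ac.mul k (hA.ac h))
  obtain ⟨c, e3⟩ := dvd_odd (u := l' - 1) (odd_two_mul_add_one l) (by convert e1 using 1; ring)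
  have k2 := h.congr k' (l' := 1) (m' := 4 * 2 ^ j) ⟨c, e3⟩ ⟨n + l - c * m, by linear_combination e2 - m * e3⟩
  exact ⟨mul_inv_eq_iff_eq_mul.1 (k2.1.trans (zpow_one a)), by rw [k2.2, h.z_eq]⟩

theorem tyA_b {x : G} (hA : TyA a b z x) : b * x * b⁻¹ = x * z := by
  calc _ = z * (z * b) * x * b⁻¹ := by rw [← mul_assoc z, h.zz, one_mul]
    _ = _ := by rw [← hA.2, h.z_comm]; group

theorem comm_memT {g g' : G} (hg : g * a = a * g) (hg' : g' * a = a * g') :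
    g * g' * g⁻¹ * g'⁻¹ ∈ TT R := by
  obtain ⟨-, m, -, -, k⟩ := h.act g
  obtain ⟨-, m', -, -, k'⟩ := h.act g'
  have k1 : Ac a b g 1 m := ⟨by rw [hg, mul_inv_cancel_right, zpow_one], k⟩
  have k2 : Ac a b g' 1 m' := ⟨by rw [hg', mul_inv_cancel_right, zpow_one], k'⟩
  rw [mul_assoc, ← mul_inv_rev]
  exact h.eqT' (k1.mul k2) (h.congr (k2.mul k1) (by simp) ⟨0, by ring⟩)

omit h in
theorem pow_act' {g : G} (hg : g * a = a * g) {m : ℤ} (hb : g * b * g⁻¹ = a ^ m * b) (n : ℤ) :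
    g ^ n * b * (g ^ n)⁻¹ = a ^ (n * m) * b := by
  have st : ∀ n : ℤ, g ^ (n + 1) * b * (g ^ (n + 1))⁻¹ = a ^ m * (g ^ n * b * (g ^ n)⁻¹) := fun n => by
    calc _ = g ^ n * (g * b * g⁻¹) * (g ^ n)⁻¹ := by group
      _ = _ := by rw [hb, ← mul_assoc, (Commute.zpow_zpow hg n m).eq]; group
  induction n using Int.induction_on with
  | zero => simp
  | succ n ih => rw [st, ih]; group
  | pred n ih =>
    refine mul_left_cancel (a := a ^ m) ?_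
    rw [← st, sub_add_cancel, ih]; group

theorem pow_memT {g : G} (hg : g * a = a * g) : g ^ 2 ^ (j + 3) ∈ TT R := by
  obtain ⟨-, m, -, -, k⟩ := h.act g
  have e := pow_act' hg k (2 ^ (j + 3) : ℕ)
  rw [h.ze0.2 ⟨m, by push_cast; ring⟩, one_mul, zpow_natCast] at e
  exact h.memT_iff.2 ⟨Commute.pow_left hg _, mul_inv_eq_iff_eq_mul.1 e⟩

theorem pow_act {g : G} (hg : g * a = a * g) {m : ℤ} (hb : g * b * g⁻¹ = a ^ m * b) (n : ℤ) :
    g ^ n * b * (g ^ n)⁻¹ = a ^ (n * m) * b := pow_act' hg hb n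

theorem isPGroup_mulAut : IsPGroup 2 (MulAut R) := by
  have := finite_mulAut R
  refine (isPGroup_of_coprime_eq_one (A := ⊤) fun α _ o => ?_).of_equiv topEquiv
  obtain ⟨l, -, -, e, -⟩ := h.hom_act (isHomOn_extAut α) (injOn_extAut α R) fun _ => extAut_mem α
  refine aut_eq_one_of_zpowers (h.two.to_subgroup R) (c := ⟨a, h.a_mem⟩) (b := ⟨b, h.b_mem⟩) (fun g => ?_)
    (Nat.coprime_two_right.1 o) ⟨l, Subtype.ext (e.symm.trans (extAut_apply α h.a_mem))⟩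
  exact ((h.quat.mem g).1 g.2).imp fun u => Or.imp Subtype.ext Subtype.ext

end Qd

/-- In a finite 2-group an element with `g * g ≠ 1` has a power of order 4. -/
theorem exists_pow_four (hG : IsPGroup 2 G) {g : G} (hg : g * g ≠ 1) :
    ∃ n : ℕ, g ^ n * g ^ n ≠ 1 ∧ g ^ n * g ^ n * (g ^ n * g ^ n) = 1 := by
  obtain ⟨k, hk⟩ := hG g
  induction k generalizing g with
  | zero => simp_all
  | succ k ih =>
    by_cases e : g * g * (g * g) = 1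
    · exact ⟨1, by rwa [pow_one], by rwa [pow_one]⟩
    · obtain ⟨n, hn⟩ := ih e (by rw [← sq, ← pow_mul, ← pow_succ', hk])
      exact ⟨2 * n, by rwa [pow_mul, sq]⟩

theorem exists_central_mod (hG : IsPGroup 2 G) {N M : Subgroup G} [N.Normal] [M.Normal]
    (h : ¬ M ≤ N) : ∃ m ∈ M, m ∉ N ∧ m * m ∈ N ∧ ∀ g, g * m * g⁻¹ * m⁻¹ ∈ N := by
  have hQ := hG.to_quotient N
  obtain ⟨_, ⟨⟨m, hm, rfl⟩, hc⟩, h1⟩ := (bot_or_exists_ne_one _).resolve_left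
    (LAE.inf_centralizer_ne_bot (hQ.to_subgroup (M.map (QuotientGroup.mk' N))) (hQ.to_subgroup ⊤)
      (by have := (‹M.Normal›).map _ (QuotientGroup.mk'_surjective N); exact le_normalizer_of_normal)
      (by rwa [Ne, Subgroup.map_eq_bot_iff, QuotientGroup.ker_mk']))
  obtain ⟨k, hk⟩ := hG m
  induction k generalizing m with
  | zero => simp_all
  | succ k ih =>
    by_cases e : m * m ∈ N
    · refine ⟨m, hm, fun f => h1 ((QuotientGroup.eq_one_iff m).2 f), e, fun g => (QuotientGroup.eq_one_iff _).1 ?_⟩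
      simp only [QuotientGroup.mk_mul, QuotientGroup.mk_inv]
      rw [mul_inv_eq_one, mul_inv_eq_iff_eq_mul]
      exact hc _ (mem_top _)
    · exact ih (m * m) (M.mul_mem hm hm) (fun f => e ((QuotientGroup.eq_one_iff _).1 f))
        (map_mul (QuotientGroup.mk' N) m m ▸ Subgroup.mul_mem _ hc hc) (by rw [← sq, ← pow_mul, ← pow_succ', hk])

/-- A unit modulo `2 ^ n` of odd order is `1`. -/
theorem dvd_sub_one_of_odd_pow {n k : ℕ} {e : ℤ} (hk : Odd k) (h : (2 ^ n : ℤ) ∣ e ^ k - 1) :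
    (2 ^ n : ℤ) ∣ e - 1 := by
  obtain ⟨k, rfl⟩ := hk
  rw [← mul_geom_sum] at h
  refine Qd.dvd_of_odd ?_ h
  clear h
  induction k with
  | zero => simp
  | succ k ih =>
    rw [show 2 * (k + 1) + 1 = 2 * k + 1 + 1 + 1 by ring, Finset.sum_range_succ, Finset.sum_range_succ, add_assoc]
    refine ih.add_even ?_
    rw [show e ^ (2 * k + 1) + e ^ (2 * k + 1 + 1) = e ^ (2 * k) * (e * (e + 1)) by ring]
    exact (Int.even_mul_succ_self e).mul_left _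

end CfsgLib.WQ
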