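import Mathlib
import Cfsg.Agent.Lib.WQ.Aut
import Cfsg.Agent.Lib.Fusion.Top

/-! Package BAS: first consequences of the closure hypotheses, the groups `RX`. See `plans/WQ.md`. -/

set_option autoImplicit false
set_option linter.unusedSectionVars false
set_option Elab.async false

namespace CfsgLib.WQ

open Subgroup Cfsg CfsgLib.Fusion CfsgLib.TwoGrp CfsgLib.QDFus

universe u

variable {G : Type u} [Group G] [Finite G]
variable {F : FusionSystem (⊤ : Subgroup G)} {R : Subgroup G} {j : ℕ} {a b i z : G}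

theorem centIn_pair (x y : G) : FusionSystem.centralizerIn ⊤ (closure {x, y}) = Cn x ⊓ Cn y := by
  rw [centralizerIn_top, centralizer_closure]
  ext g
  simp only [mem_centralizer_iff, Set.mem_insert_iff, Set.mem_singleton_iff, forall_eq_or_imp, forall_eq, mem_inf]

theorem centIn_zpowers (x : G) : FusionSystem.centralizerIn ⊤ (zpowers x) = Cn x := by
  rw [centralizerIn_top, zpowers_eq_closure, centralizer_closure]

theorem pair_le {P : Subgroup G} {x y : G} (hx : x ∈ P) (hy : y ∈ P) : closure {x, y} ≤ P :=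
  (closure_le _).2 (Set.insert_subset hx (Set.singleton_subset_iff.2 hy))

theorem img_pair {P : Subgroup G} {f : G → G} {x y : G} (hf : Mor F P f) (hx : x ∈ P) (hy : y ∈ P) :
    img (closure {x, y}) f = closure {f x, f y} := by
  rw [(hf.hom.mono (pair_le hx hy)).img_closure, Set.image_pair]

theorem mor_Cn {P : Subgroup G} {f : G → G} {x g : G} (hf : Mor F P f) (hx : x ∈ P) (hg : g ∈ P) :
    f g ∈ Cn (f x) ↔ g ∈ Cn x := by
  rw [mem_Cn, mem_Cn, ← hf.map_mul hg hx, ← hf.map_mul hx hg]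
  exact ⟨hf.inj (mul_mem hg hx) (mul_mem hx hg), congrArg f⟩

namespace Hyp

variable (h : Hyp F R j a b i z) {P : Subgroup G} {f φ ψ : G → G} {x y g : G}
include h

theorem twoT : IsPGroup 2 (⊤ : Subgroup G) := isPGroup_top h.two

theorem to_fc (hc : Cj F x y) (hy : F.IsFullyCentralized (zpowers y)) : ∃ ρ, Mor F (Cn x) ρ ∧ ρ x = y := by
  obtain ⟨f, hf, e, hi⟩ := hc.exists_zpowers
  obtain ⟨g, hg, e'⟩ := sat_extend_centralizer h.twoT h.sat hf (hi ▸ hy)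
  exact ⟨g, hg.mono (centIn_zpowers x ▸ le_sup_right), (e' x (mem_zpowers x)).trans e⟩

theorem fc_z : F.IsFullyCentralized (zpowers z) :=
  fullyCentralized_of_le_centralizer le_top fun g _ => by
    rw [zpowers_eq_closure, centralizer_closure]; exact mem_Cn.2 (h.z_comm g)

theorem cj_sq (hx : Cj F x z) : x * x = 1 := by
  rw [← sq, ← h.ord_z, hx.orderOf_eq, pow_orderOf_eq_one]

theorem cj_ne (hx : Cj F x z) : x ≠ 1 := fun e => by
  have := hx.orderOf_eq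
  rw [h.ord_z, e, orderOf_one] at this
  omega

theorem exists_phi (hx : Cj F x z) : ∃ φ, Mor F (Cn x) φ ∧ φ x = z := h.to_fc hx h.fc_z

theorem mem_R_of_le (hf : Mor F P f) (hR : R ≤ P) {r : G} (hr : r ∈ R) : f r ∈ R := h.wc f (hf.mono hR) r hr

theorem eq_z_of_mem (hf : Mor F P f) (hz : z ∈ P) (hR : f z ∈ R) : f z = z :=
  (h.invol hR (by rw [← hf.map_mul hz hz, h.zz, hf.map_one])).resolve_left fun e => h.z_ne (hf.eq_one hz e)

theorem fix_z_of_le (hf : Mor F P f) (hR : R ≤ P) : f z = z :=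
  h.eq_z_of_mem hf (hR h.z_mem) (h.mem_R_of_le hf hR h.z_mem)

theorem mem_R_of_fix (hf : Mor F P f) (hz : z ∈ P) (e : f z = z) {r : G} (hr : r ∈ P) :
    f r ∈ R ↔ r ∈ R := by
  refine ⟨fun hR => ?_, h.sc z h.z_memT h.ord_z P f hf hz e r hr⟩
  obtain ⟨g, hg, e', -⟩ := hf.exists_inv
  have := h.sc z h.z_memT h.ord_z _ g hg (e ▸ mem_img_of_mem f hz) (by conv_lhs => rw [← e, e' z hz]) _
    (mem_img_of_mem f hr) hR
  rwa [e' r hr] at this

theorem R_le_Cn (hT : x ∈ TT R) : R ≤ Cn x := fun r hr => mem_Cn.2 (mem_TT.1 hT r hr)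

theorem h1 (hx : Cj F x z) (hT : x ∈ TT R) : x = z := by
  obtain ⟨φ, hφ, e⟩ := h.exists_phi hx
  exact hφ.inj (self_mem_Cn x) (h.z_mem_Cn x) (e.trans (h.fix_z_of_le hφ (h.R_le_Cn hT)).symm)

theorem h3 (hy : y ∈ TT R) (h2 : orderOf y = 2) (hf : Mor F P f) (hyP : y ∈ P) (hz : z ∈ P) :
    ∃ ρ, Mor F (Cn (f y)) ρ ∧ ρ (f z) = z := by
  obtain ⟨Q, hQ, hc⟩ := exists_fullyCentralized F (le_top : zpowers y ≤ ⊤)
  obtain ⟨k, hk, rfl⟩ := isConj_iff.1 hQ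
  rw [hk.hom.img_zpowers] at hc
  have c1 := cj_of_mor hk (mem_zpowers y)
  obtain ⟨ρ₀, h0, e0⟩ := h.to_fc c1 hc
  obtain ⟨ρ, h1, e1⟩ := h.to_fc ((cj_of_mor hf hyP).symm.trans c1) hc
  have hR := h.R_le_Cn hy
  have hT : k y ∈ TT R := mem_TT.2 fun r hr => by
    obtain ⟨r', hr', rfl⟩ := (h0.mono hR).mem_img.1
      (((h0.mono hR).img_eq_self fun r hr => h.mem_R_of_le h0 hR hr).ge hr)
    exact mem_Cn.1 (e0 ▸ (mor_Cn h0 (self_mem_Cn y) (hR hr')).2 (hR hr'))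
  obtain ⟨σ, hσ, s1, -, s2, -⟩ := (h0.mono (inf_le_right : P ⊓ Cn y ≤ _)).exists_inv
  have hm := (hσ.comp' (hf.mono inf_le_left) s2).comp' h1 fun v hv => (mor_Cn hf hyP (s2 v hv).1).2 (s2 v hv).2
  have y1 : y ∈ P ⊓ Cn y := ⟨hyP, self_mem_Cn y⟩
  have z1 : z ∈ P ⊓ Cn y := ⟨hz, h.z_mem_Cn y⟩
  have ez := h.fix_z_of_le h0 hR
  have z2 : z ∈ img (P ⊓ Cn y) ρ₀ := ez ▸ mem_img_of_mem ρ₀ z1
  have := h.eq_z_of_mem hm z2 (h.sc _ hT (c1.orderOf_eq.trans h2) _ _ hm (e0 ▸ mem_img_of_mem ρ₀ y1)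
    (by rw [← e0, s1 y y1, e1, e0]) z z2 h.z_mem)
  rw [show σ z = z by conv_lhs => rw [← ez, s1 z z1]] at this
  exact ⟨ρ, h1, this⟩

theorem hstar (hy : y ∈ TT R) (h2 : orderOf y = 2) (hf : Mor F P f) (hyP : y ∈ P) (hfy : f y ∈ TT R)
    (hx : x ∈ P) (e : f x = z) : x = z := by
  obtain ⟨g, hg, e', -⟩ := hf.exists_inv
  obtain ⟨ρ, hρ, e1⟩ := h.h3 hfy ((hf.orderOf_eq hyP).trans h2) hg (mem_img_of_mem f hyP) (e ▸ mem_img_of_mem f hx)
  rw [e' y hyP] at hρ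
  rw [show g z = x by rw [← e, e' x hx]] at e1
  exact hρ.inj ((mor_Cn hf hyP hx).1 (e ▸ h.z_mem_Cn _)) (h.z_mem_Cn y)
    (e1.trans (h.fix_z_of_le hρ (h.R_le_Cn hy)).symm)

theorem two_maps (hφ : Mor F P φ) (hψ : Mor F P ψ) (hx : x ∈ P) (e : φ x = z) (e' : ψ x = z) (hg : g ∈ P)
    (hR : φ g ∈ R) : ψ g ∈ R := by
  obtain ⟨σ, hσ, s1, -, s2, -⟩ := hφ.exists_inv
  have := (h.mem_R_of_fix (hσ.comp' hψ s2) (e ▸ mem_img_of_mem φ hx) (by
    conv_lhs => rw [← e, s1 x hx, e']) (mem_img_of_mem φ hg)).2 hR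
  rwa [s1 g hg] at this

theorem mem_RX (hφ : Mor F P φ) (hx : x ∈ P) (e : φ x = z) (hg : g ∈ P) :
    g ∈ RX F R z x ↔ φ g ∈ R := by
  have h1 : g ∈ Cn x := (mor_Cn hφ hx hg).1 (mem_Cn.2 (by rw [e]; exact h.z_comm _))
  have h2 := hφ.mono (inf_le_left : P ⊓ Cn x ≤ _)
  refine ⟨fun hR => ?_, fun hR => ⟨h1, fun ψ hψ e' => h.two_maps h2 (hψ.mono inf_le_right) ⟨hx, self_mem_Cn x⟩ e e'
    ⟨hg, h1⟩ hR⟩⟩
  obtain ⟨ψ, hψ, e'⟩ := h.exists_phi (e ▸ cj_of_mor hφ hx)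
  exact h.two_maps (hψ.mono inf_le_right) h2 ⟨hx, self_mem_Cn x⟩ e' e ⟨hg, h1⟩ (hR.2 ψ hψ e')

theorem RX_equiv (hc : Cj F x z) (hψ : Mor F P ψ) (hx : x ∈ P) (hg : g ∈ P) :
    ψ g ∈ RX F R z (ψ x) ↔ g ∈ RX F R z x := by
  obtain ⟨φ, hφ, e⟩ := h.exists_phi ((cj_of_mor hψ hx).symm.trans hc)
  have key : g ∈ Cn x → (ψ g ∈ RX F R z (ψ x) ↔ g ∈ RX F R z x) := fun h1 => by
    rw [h.mem_RX hφ (self_mem_Cn _) e ((mor_Cn hψ hx hg).2 h1),
      h.mem_RX ((hψ.mono (inf_le_left : P ⊓ Cn x ≤ _)).comp' hφ fun v hv => (mor_Cn hψ hx hv.1).2 hv.2)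
        ⟨hx, self_mem_Cn x⟩ e ⟨hg, h1⟩]
  exact ⟨fun h1 => (key ((mor_Cn hψ hx hg).1 h1.1)).1 h1, fun h1 => (key h1.1).2 h1⟩

theorem RX_z : RX F R z z = R :=
  Subgroup.ext fun g => h.mem_RX (Mor.id F le_rfl) (mem_top z) rfl (mem_top g)

theorem RX_conj (hc : Cj F x z) (hg : g ∈ RX F R z x) (s : G) :
    s * g * s⁻¹ ∈ RX F R z (s * x * s⁻¹) :=
  (h.RX_equiv hc (Mor.conj F le_rfl (mem_top s)) (mem_top x) (mem_top g)).2 hg

theorem RX_self (hc : Cj F x z) : x ∈ RX F R z x :=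
  ⟨self_mem_Cn x, fun _ _ e => e ▸ h.z_mem⟩

theorem RX_invol (hc : Cj F x z) (hg : g ∈ RX F R z x) (h2 : g * g = 1) : g = 1 ∨ g = x := by
  obtain ⟨φ, hφ, e⟩ := h.exists_phi hc
  exact (h.invol (hg.2 φ hφ e) (by rw [← hφ.map_mul hg.1 hg.1, h2, hφ.map_one])).imp (hφ.eq_one hg.1)
    fun e' => hφ.inj hg.1 (self_mem_Cn x) (e'.trans e.symm)

theorem RX_sq' (hc : Cj F x z) (hg : g ∈ RX F R z x) (h2 : g * g ≠ 1) : ∃ n : ℕ, x = g ^ n * g ^ n := by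
  obtain ⟨n, h3, h4⟩ := exists_pow_four h.two h2
  exact ⟨n, ((h.RX_invol hc (mul_mem (pow_mem hg n) (pow_mem hg n)) h4).resolve_left h3).symm⟩

theorem RX_mem (hc : Cj F x z) (hg : g ∈ RX F R z x) (h1 : g ≠ 1) {K : Subgroup G} (hK : g ∈ K) : x ∈ K := by
  by_cases h2 : g * g = 1
  · exact (h.RX_invol hc hg h2).resolve_left h1 ▸ hK
  · obtain ⟨n, e⟩ := h.RX_sq' hc hg h2
    exact e ▸ mul_mem (pow_mem hK n) (pow_mem hK n)

theorem RX_inf_R (hne : x ≠ z) (hc : Cj F x z) (hg : g ∈ RX F R z x) (hR : g ∈ R) : g = 1 :=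
  by_contra fun h1 => (h.invol (h.RX_mem hc hg h1 hR) (h.cj_sq hc)).elim (h.cj_ne hc) hne

theorem RX_inf_T (hne : x ≠ z) (hc : Cj F x z) (hg : g ∈ RX F R z x) (hT : g ∈ TT R) : g = 1 :=
  by_contra fun h1 => hne (h.h1 hc (h.RX_mem hc hg h1 hT))

theorem RX_comm (hne : x ≠ z) (hc : Cj F x z) (hg : g ∈ RX F R z x) {r : G} (hr : r ∈ R)
    (hxr : x * r = r * x) : g * r = r * g := by
  have h1 := h.RX_conj hc hg r
  rw [← hxr, mul_inv_cancel_right] at h1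
  have h2 := h.RX_inf_R hne hc (mul_mem (inv_mem hg) h1) (by
    have := mul_mem (h.nrm.conj_mem' r hr g) (inv_mem hr)
    rwa [mul_assoc, mul_assoc, ← mul_assoc r] at this)
  rw [inv_mul_eq_one, eq_mul_inv_iff_mul_eq] at h2
  exact h2

theorem RX_sq (hc : Cj F x z) (hg : g ∈ RX F R z x) (h1 : g ≠ 1) (h2 : g ≠ x) : IsSquare x := by
  obtain ⟨n, e⟩ := h.RX_sq' hc hg fun e => (h.RX_invol hc hg e).elim h1 h2
  exact ⟨_, e⟩

theorem Cn_z : Cn z = ⊤ := eq_top_iff.2 fun g _ => mem_Cn.2 (h.z_comm g)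

theorem centIn_U (x : G) : FusionSystem.centralizerIn ⊤ (closure {x, z}) = Cn x := by
  rw [centIn_pair, h.Cn_z, inf_top_eq]

theorem U_le (x : G) : closure {x, z} ≤ Cn x := pair_le (self_mem_Cn x) (h.z_mem_Cn x)

theorem exists_ext (hne : x ≠ z) (hc : Cj F x z) :
    ∃ ρ, Mor F (Cn x) ρ ∧ ρ z = z ∧ Ext F z (ρ x) := by
  obtain ⟨Q, hQ, hfc⟩ := exists_fullyCentralized F (le_top : closure {x, z} ≤ ⊤)
  obtain ⟨k, hk, rfl⟩ := isConj_iff.1 hQ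
  obtain ⟨ψ, hψ, e⟩ := sat_extend_centralizer h.twoT h.sat hk hfc
  rw [h.centIn_U, sup_eq_right.2 (h.U_le x)] at hψ
  have hx := self_mem_Cn x
  have hz := h.z_mem_Cn x
  rw [← img_congr e, img_pair hψ hx hz] at hfc
  obtain ⟨φ, hφ, e'⟩ := h.exists_phi (cj_of_mor hψ hz).symm
  have hm : ∀ v ∈ Cn x, ψ v ∈ Cn (ψ z) := fun v hv => (mor_Cn hψ hz hv).2 (h.Cn_z.ge (mem_top v))
  have hρ := hψ.comp' hφ hm
  refine ⟨_, hρ, e', fun e => hne (hρ.inj hx hz (e.trans e'.symm)), (cj_of_mor hρ hx).symm.trans hc, ?_⟩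
  have := hφ.fullyCentralized_img (pair_le (hm x hx) (hm z hz)) (by rw [centIn_pair]; exact inf_le_right) hfc
  rwa [img_pair hφ (hm x hx) (hm z hz), e'] at this

theorem partner (hx : Ext F z x) (hφ : Mor F (Cn x) φ) (e : φ x = z) :
    Ext F z (φ z) ∧ img (Cn x) φ = Cn (φ z) := by
  have h1 := self_mem_Cn x
  have h2 := h.z_mem_Cn x
  have h3 := hφ.fullyCentralized_img (h.U_le x) (h.centIn_U x).le hx.fc
  have h4 := hφ.img_centralizerIn_eq (h.U_le x) (h.centIn_U x).le hx.fc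
  rw [img_pair hφ h1 h2, e, Set.pair_comm z] at h3 h4
  rw [h.centIn_U, h.centIn_U] at h4
  exact ⟨⟨fun e' => hx.ne (hφ.inj h1 h2 (e.trans e'.symm)), (cj_of_mor hφ h2).symm, h3⟩, h4⟩

theorem ext_conj (hx : Ext F z x) (s : G) : Ext F z (s * x * s⁻¹) := by
  have hs := Mor.conj F le_rfl (mem_top s)
  have e : s * z * s⁻¹ = z := mul_inv_eq_iff_eq_mul.2 (h.z_comm s)
  have := hs.fullyCentralized_img le_top le_top hx.fc
  rw [img_pair hs (mem_top x) (mem_top z), e] at this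
  exact ⟨fun e' => hx.ne (hs.inj (mem_top x) (mem_top z) (e'.trans e.symm)), (cj_conj F s x).symm.trans hx.cj, this⟩

theorem mem_U (hc : Cj F x z) : g ∈ closure ({x, z} : Set G) ↔ g = 1 ∨ g = z ∨ g = x ∨ g = x * z := by
  have hx : x ∈ closure ({x, z} : Set G) := subset_closure (by simp)
  have hz : z ∈ closure ({x, z} : Set G) := subset_closure (by simp)
  refine ⟨fun hg => ?_, by rintro (rfl | rfl | rfl | rfl); exacts [one_mem _, hz, hx, mul_mem hx hz]⟩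
  have xx := h.cj_sq hc
  have zz := h.zz
  have key : ∀ s ∈ ({x, z} : Set G), ∀ g, g = 1 ∨ g = z ∨ g = x ∨ g = x * z →
      s * g = 1 ∨ s * g = z ∨ s * g = x ∨ s * g = x * z := by
    have zx := (h.z_comm x).symm
    have : x * z * z = x := by rw [mul_assoc, zz, mul_one]
    rintro s (e | e) g (e' | e' | e' | e') <;> rw [e, e'] <;> simp [xx, zz, ← mul_assoc, zx, this]
  refine closure_induction_left (Or.inl rfl) (fun s hs g _ => key s hs g) (fun s hs g _ hg => ?_) hg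
  rw [show s⁻¹ = s from inv_eq_of_mul_eq_one_right (by rcases hs with rfl | rfl <;> assumption)]
  exact key s hs g hg

theorem Cn_mul_z (x : G) : Cn (x * z) = Cn x := by
  ext g
  rw [mem_Cn, mem_Cn, ← mul_assoc, mul_assoc x, ← h.z_comm g, ← mul_assoc, mul_left_inj]

end Hyp

end CfsgLib.WQ
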