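import Mathlib
import Cfsg.Agent.Lib.WQ.Defs
import Cfsg.Agent.Lib.GHB.WreA
import Cfsg.Agent.Lib.W2.M12a

/-! Package BIG: the Sylow 2-subgroup of `G₂(q)` in coordinates. See `plans/WQ.md`. -/

set_option autoImplicit false
set_option linter.unusedSectionVars false

namespace CfsgLib.WQ

open Subgroup Cfsg CfsgLib.Fusion CfsgLib.TwoGrp CfsgLib.QDFus

universe u

variable {G : Type u} [Group G] [Finite G]
variable {j : ℕ} {x y s d : G}

/-- the first quaternion subgroup -/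
abbrev Q1 (j : ℕ) (x y s d : G) : Subgroup G := closure {x * y, d * s * x ^ 2 ^ (j + 2)}

theorem isQuat_closure {t e : G} {n : ℕ} (ho : orderOf t = 2 * n) (ee : e * e = t ^ n)
    (hc : e * t * e⁻¹ = t⁻¹) (hn : e ∉ zpowers t) : IsQuat (closure {t, e}) n t e := by
  have h1 : ∀ i : ℤ, e * t ^ i = t ^ (-i) * e := fun i => by
    rw [← mul_inv_eq_iff_eq_mul, ← conj_zpow, hc, inv_zpow']
  have ht : t ∈ closure ({t, e} : Set G) := subset_closure (.inl rfl)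
  refine ⟨ho, ee, hc, hn, fun g => ⟨fun hg => ?_, ?_⟩⟩
  · induction hg using closure_induction with
    | mem g hg =>
      rcases hg with rfl | rfl
      exacts [⟨1, .inl (zpow_one _).symm⟩, ⟨0, .inr (by rw [zpow_zero, one_mul])⟩]
    | one => exact ⟨0, .inl (zpow_zero _).symm⟩
    | mul a b _ _ ha hb =>
      obtain ⟨i, rfl | rfl⟩ := ha <;> obtain ⟨k, rfl | rfl⟩ := hb
      · exact ⟨i + k, .inl (zpow_add _ _ _).symm⟩
      · exact ⟨i + k, .inr (by rw [zpow_add, mul_assoc])⟩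
      · exact ⟨i - k, .inr (by rw [mul_assoc, h1]; group)⟩
      · exact ⟨i - k + n, .inl (by
          rw [mul_assoc, ← mul_assoc e, h1, mul_assoc, ee, ← zpow_natCast]; group)⟩
    | inv a _ ha =>
      obtain ⟨i, rfl | rfl⟩ := ha
      · exact ⟨-i, .inl (zpow_neg _ _).symm⟩
      · refine ⟨i + n, .inr (inv_eq_of_mul_eq_one_right ?_)⟩
        rw [mul_assoc, ← mul_assoc e, h1, mul_assoc, ee, ← zpow_natCast]
        group
  · rintro ⟨i, rfl | rfl⟩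
    exacts [zpow_mem ht i, mul_mem (zpow_mem ht i) (subset_closure (.inr rfl))]

theorem norm_of_gens {a b g : G} (h1 : g * a * g⁻¹ ∈ closure ({a, b} : Set G))
    (h2 : g * b * g⁻¹ ∈ closure ({a, b} : Set G)) :
    g ∈ normalizer ((closure ({a, b} : Set G) : Subgroup G) : Set G) := by
  have : closure ({a, b} : Set G) ≤ (closure ({a, b} : Set G)).comap (MulAut.conj g).toMonoidHom := by
    rw [closure_le]
    rintro _ (rfl | rfl)
    exacts [h1, h2]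
  exact mem_normalizer_of_conj_mem fun v hv => this hv

namespace Bg

open GHB

variable (h : GHB.Big (⊤ : Subgroup G) (j + 3) 0 x y s d)
include h

omit h in
theorem par (j : ℕ) : Par (j + 3) 0 := .inl ⟨rfl, by omega⟩

omit h in
theorem ar (j : ℕ) : Ar (j + 3) 0 (2 ^ (j + 1)) := (par j).ar

theorem sW (i k : ℤ) : s * W x y i k = W x y k i * s := mul_inv_eq_iff_eq_mul.1 (h.s_W i k)

theorem dW (i k : ℤ) : d * W x y i k = W x y (-i) (-k) * d := by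
  have := mul_inv_eq_iff_eq_mul.1 (h.d_W i k)
  simpa using this

theorem sW' (i k : ℤ) (g : G) : s * (W x y i k * g) = W x y k i * (s * g) := by
  rw [← mul_assoc, sW h, mul_assoc]

theorem dW' (i k : ℤ) (g : G) : d * (W x y i k * g) = W x y (-i) (-k) * (d * g) := by
  rw [← mul_assoc, dW h, mul_assoc]

theorem WW' (i k i' k' : ℤ) (g : G) : W x y i k * (W x y i' k' * g) = W x y (i + i') (k + k') * g := by
  rw [← mul_assoc, h.W_mul]

theorem ss' (g : G) : s * (s * g) = g := by rw [← mul_assoc, h.ss, one_mul]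

theorem dd' (g : G) : d * (d * g) = g := by rw [← mul_assoc, h.dd, one_mul]

theorem sd' (g : G) : s * (d * g) = d * (s * g) := by rw [← mul_assoc, h.sd, mul_assoc]

/-- the rules for the normal form of a word -/
theorem N : (∀ a b : G, (a * b)⁻¹ = b⁻¹ * a⁻¹) ∧ (∀ a b c : G, a * b * c = a * (b * c)) ∧ s⁻¹ = s ∧
    d⁻¹ = d ∧ (∀ i k, (W x y i k)⁻¹ = W x y (-i) (-k)) ∧
    (∀ i k i' k', W x y i k * W x y i' k' = W x y (i + i') (k + k')) ∧
    (∀ i k, s * W x y i k = W x y k i * s) ∧ (∀ i k, d * W x y i k = W x y (-i) (-k) * d) ∧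
    (∀ i k g, s * (W x y i k * g) = W x y k i * (s * g)) ∧
    (∀ i k g, d * (W x y i k * g) = W x y (-i) (-k) * (d * g)) ∧
    (∀ i k i' k' g, W x y i k * (W x y i' k' * g) = W x y (i + i') (k + k') * g) ∧
    (∀ g, s * (s * g) = g) ∧ (∀ g, d * (d * g) = g) ∧ (∀ g, s * (d * g) = d * (s * g)) ∧ s * s = 1 ∧
    d * d = 1 ∧ s * d = d * s ∧ (∀ a : G, a * 1 = a) ∧ (∀ i : ℤ, - -i = i) ∧ -(0 : ℤ) = 0 ∧
    (∀ i : ℤ, i + 0 = i) ∧ (∀ i : ℤ, 0 + i = i) ∧ ∀ a b c : G, b * a = c * a ↔ b = c :=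
  ⟨mul_inv_rev, mul_assoc, h.s_inv, h.d_inv, h.W_inv, h.W_mul, sW h, dW h, sW' h, dW' h, WW' h, ss' h,
    dd' h, sd' h, h.ss, h.dd, h.sd, mul_one, neg_neg, neg_zero, add_zero, zero_add,
    fun a _ _ => mul_left_inj a⟩

theorem eu : x ^ 2 ^ (j + 2) = W x y (2 * 2 ^ (j + 1)) 0 := h.u_eq (ar j)

theorem ez : (x * y) ^ 2 ^ (j + 2) = W x y (2 * 2 ^ (j + 1)) (2 * 2 ^ (j + 1)) := h.z_eq (ar j)

theorem et : x * y⁻¹ = W x y 1 (-1) := by rw [W, zpow_one, zpow_neg_one]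

theorem We {i k i' k' : ℤ} : W x y i k = W x y i' k' ↔
    4 * 2 ^ (j + 1) ∣ i - i' ∧ 4 * 2 ^ (j + 1) ∣ k - k' := h.W_eq (ar j)

theorem mem_of_eq {i k : ℤ} {e g : G} (hg : g ∈ zpowers x ⊔ zpowers y) (e1 : W x y i k * e = g) :
    e ∈ zpowers x ⊔ zpowers y := by
  rw [eq_inv_mul_of_mul_eq e1]
  exact mul_mem (inv_mem (W_mem x y i k)) hg

omit h in
theorem nd {c : ℤ} (h0 : 0 < c) (h1 : c ≤ 4) : ¬ (4 * 2 ^ (j + 1) : ℤ) ∣ c := fun e => by
  have h2 := Int.le_of_dvd h0 e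
  have h3 : (0 : ℤ) < 2 ^ j := by positivity
  rw [pow_succ] at h2
  omega

theorem ord_W (k : ℤ) : orderOf (W x y 1 k) = 2 ^ (j + 3) := by
  refine orderOf_eq_prime_pow ?_ ?_
  · rw [h.W_pow, ← W_zero x y, We h]
    refine fun e => (ar j).nd2 ?_
    convert e.1 using 1
    push_cast; ring
  · exact h.A_pow (W_mem x y 1 k)

theorem T_pow : (x * y⁻¹) ^ 2 ^ (j + 2) = (x * y) ^ 2 ^ (j + 2) := by
  rw [ez h, et h, h.W_pow, We h]
  exact ⟨⟨0, by push_cast; ring⟩, ⟨-1, by push_cast; ring⟩⟩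

theorem u_ne : x ^ 2 ^ (j + 2) ≠ (x * y) ^ 2 ^ (j + 2) := by
  rw [eu h, ez h, Ne, We h]
  exact fun e => (ar j).nd2 (by simpa using e.2)

theorem ord_x : orderOf x = 2 ^ (j + 3) := h.ord_x (ar j)

theorem x_act₁ (l : ℤ) : x ^ l * (d * s * x ^ 2 ^ (j + 2)) * (x ^ l)⁻¹ =
    (x * y) ^ l * (d * s * x ^ 2 ^ (j + 2)) := by
  rw [eu h, W_x x y l, h.a_eq, h.W_zpow]
  simp only [N h]
  congr 1 <;> ring

theorem x_act₂ (l : ℤ) : x ^ l * (s * x ^ 2 ^ (j + 2)) * (x ^ l)⁻¹ =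
    (x * y⁻¹) ^ l * (s * x ^ 2 ^ (j + 2)) := by
  rw [eu h, W_x x y l, et h, h.W_zpow]
  simp only [N h]
  congr 1 <;> ring

theorem quat : IsQuat (Q1 j x y s d) (2 ^ (j + 2)) (x * y) (d * s * x ^ 2 ^ (j + 2)) := by
  refine isQuat_closure (by rw [h.a_eq, ord_W h]; ring) ?_ ?_ fun e => h.ds_not (ar j) ?_
  · rw [ez h, eu h]
    simp only [N h]
    rw [We h]
    exact ⟨⟨0, by ring⟩, ⟨-1, by ring⟩⟩
  · rw [eu h, h.a_eq]
    simp only [N h]
    congr 1; ring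
  · have := mul_mem (h.a_le (ar j) e) (inv_mem (W_mem x y (2 * 2 ^ (j + 1)) 0))
    rwa [eu h, mul_inv_cancel_right] at this

theorem mem_Q1 {g : G} : g ∈ Q1 j x y s d ↔ ∃ i k : ℤ, (g = W x y i i) ∨
    (g = W x y i k * (d * s) ∧ 4 * 2 ^ (j + 1) ∣ i - k - 2 * 2 ^ (j + 1)) := by
  rw [(quat h).mem, eu h, h.a_eq]
  refine ⟨?_, ?_⟩
  · rintro ⟨i, rfl | rfl⟩ <;> rw [h.W_zpow, one_mul]
    · exact ⟨i, 0, .inl rfl⟩
    · exact ⟨i, i - 2 * 2 ^ (j + 1), .inr ⟨by simp only [N h]; rfl, 0, by ring⟩⟩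
  · rintro ⟨i, k, rfl | ⟨rfl, c, e⟩⟩ <;> refine ⟨i, ?_⟩ <;> rw [h.W_zpow, one_mul]
    · exact .inl rfl
    · refine .inr ?_
      simp only [N h, We h]
      exact ⟨⟨0, by ring⟩, -c, by linear_combination -e⟩

theorem qd : Qd (Q1 j x y s d) j (x * y) (d * s * x ^ 2 ^ (j + 2)) ((x * y) ^ 2 ^ (j + 1))
    ((x * y) ^ 2 ^ (j + 2)) := by
  refine ⟨IsPGroup.of_card (n := 2 * (j + 4)) ?_, quat h, ⟨fun v hv g => ?_⟩, rfl, rfl⟩
  · rw [← card_top, h.card (par j), pow_mul]; norm_num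
  rw [mem_Q1 h] at hv ⊢
  obtain ⟨p, q, rfl | rfl | rfl | rfl⟩ := h.nfW (mem_top g) <;>
    obtain ⟨i, k, rfl | ⟨rfl, c, e⟩⟩ := hv <;> simp only [N h]
  · exact ⟨i, 0, .inl (by congr 1 <;> ring)⟩
  · exact ⟨_, _, .inr ⟨rfl, c, by linear_combination e⟩⟩
  · exact ⟨i, 0, .inl (by congr 1 <;> ring)⟩
  · exact ⟨_, _, .inr ⟨rfl, -c - 1, by linear_combination -e⟩⟩
  · exact ⟨-i, 0, .inl (by congr 1 <;> ring)⟩
  · exact ⟨_, _, .inr ⟨rfl, -c - 1, by linear_combination -e⟩⟩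
  · exact ⟨-i, 0, .inl (by congr 1 <;> ring)⟩
  · exact ⟨_, _, .inr ⟨rfl, c, by linear_combination e⟩⟩

theorem T_quat : IsQuat (TT (Q1 j x y s d)) (2 ^ (j + 2)) (x * y⁻¹) (s * x ^ 2 ^ (j + 2)) := by
  refine ⟨by rw [et h, ord_W h]; ring, ?_, ?_, fun e => h.s_not (ar j) ?_, fun g => ?_⟩
  · rw [T_pow h, ez h, eu h]
    simp only [N h]
  · rw [eu h, et h]
    simp only [N h]
    congr 1; ring
  · have h1 : zpowers (x * y⁻¹) ≤ zpowers x ⊔ zpowers y := zpowers_le.2 (et h ▸ W_mem x y 1 (-1))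
    have := mul_mem (h1 e) (inv_mem (W_mem x y (2 * 2 ^ (j + 1)) 0))
    rwa [eu h, mul_inv_cancel_right] at this
  rw [TT, Q1, centralizer_closure, mem_centralizer_iff]
  simp only [Set.mem_insert_iff, Set.mem_singleton_iff, forall_eq_or_imp, forall_eq]
  rw [eu h, et h, h.a_eq]
  refine ⟨fun ⟨e1, e2⟩ => ?_, ?_⟩
  · obtain ⟨p, q, rfl | rfl | rfl | rfl⟩ := h.nfW (mem_top g) <;> simp only [N h, We h] at e1 e2
    · obtain ⟨c, e⟩ := e2.1
      exact ⟨p, .inl (by rw [h.W_zpow, We h]; exact ⟨⟨0, by ring⟩, -c, by linear_combination -e⟩)⟩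
    · obtain ⟨c, e⟩ := e2.1
      refine ⟨p, .inr ?_⟩
      simp only [h.W_zpow, N h, We h]
      exact ⟨⟨0, by ring⟩, -c, by linear_combination -e⟩
    all_goals exact absurd (by convert e1.1 using 1; ring) (nd (j := j) two_pos (by norm_num))
  · rintro ⟨i, rfl | rfl⟩ <;> simp only [h.W_zpow, N h, We h]
    · exact ⟨⟨⟨0, by ring⟩, 0, by ring⟩, ⟨0, by ring⟩, 0, by ring⟩
    · exact ⟨⟨⟨0, by ring⟩, 0, by ring⟩, ⟨0, by ring⟩, -1, by ring⟩

theorem A_normal : (zpowers x ⊔ zpowers y).Normal :=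
  normalizer_eq_top_iff.1 (top_le_iff.1 h.S_norm_A)

theorem mem_cl {e g : G} (he : e * e = 1) : g ∈ closure ({x, y, e} : Set G) ↔
    g ∈ zpowers x ⊔ zpowers y ∨ g * e ∈ zpowers x ⊔ zpowers y := by
  have := A_normal h
  have e1 : closure ({x, y, e} : Set G) = zpowers x ⊔ zpowers y ⊔ zpowers e := by
    rw [zpowers_eq_closure, zpowers_eq_closure, zpowers_eq_closure, ← Subgroup.closure_union,
      ← Subgroup.closure_union,
      Set.union_assoc]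
    rfl
  rw [e1]
  refine ⟨fun hg => ?_, ?_⟩
  · obtain ⟨α, hα, _, ⟨n, rfl⟩, rfl⟩ := mem_sup_of_normal_left.1 hg
    have h2 : ∀ m : ℤ, e ^ (2 * m) = 1 := fun m => by rw [zpow_mul, zpow_two, he, one_zpow]
    rcases Int.even_or_odd' n with ⟨m, rfl | rfl⟩
    · exact .inl (by simpa only [h2, mul_one] using hα)
    · exact .inr (by simpa only [zpow_add_one, h2, one_mul, mul_assoc, he, mul_one] using hα)
  · rintro (hg | hg)
    · exact mem_sup_left hg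
    · simpa using mul_mem (mem_sup_left hg : _ ∈ _ ⊔ zpowers e) (inv_mem (mem_sup_right (mem_zpowers e)))

theorem not_s (i k : ℤ) : W x y i k * s ∉ zpowers x ⊔ zpowers y := fun e =>
  h.s_not (ar j) (mem_of_eq h e rfl)

theorem not_d (i k : ℤ) : W x y i k * d ∉ zpowers x ⊔ zpowers y := fun e =>
  h.d_not (ar j) (mem_of_eq h e rfl)

theorem not_ds (i k : ℤ) : W x y i k * (d * s) ∉ zpowers x ⊔ zpowers y := fun e =>
  h.ds_not (ar j) (mem_of_eq h e rfl)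

theorem Cn_eq : Cn (x ^ 2 ^ (j + 2)) = closure {x, y, d} := by
  ext g
  rw [mem_cl h h.dd, mem_Cn, eu h]
  have h2 := (ar j).nd2
  obtain ⟨p, q, rfl | rfl | rfl | rfl⟩ := h.nfW (mem_top g) <;>
    simp only [N h, We h, W_mem, not_s h, not_d h, not_ds h, or_false, or_true, iff_true,
      iff_false]
  · exact ⟨⟨0, by ring⟩, 0, by ring⟩
  · exact fun e => h2 (by convert e.2 using 1; ring)
  · exact ⟨⟨-1, by ring⟩, 0, by ring⟩
  · exact fun e => h2 ((show -(p - (2 * 2 ^ (j + 1) + p)) = 2 * 2 ^ (j + 1) by ring) ▸ e.1.neg_right)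

theorem U_normal : (closure ({x ^ 2 ^ (j + 2), (x * y) ^ 2 ^ (j + 2)} : Set G)).Normal := by
  refine normalizer_eq_top_iff.1 (top_le_iff.1 fun g _ => norm_of_gens ?_ ?_)
  · have h1 : x ^ 2 ^ (j + 2) ∈ closure ({x ^ 2 ^ (j + 2), (x * y) ^ 2 ^ (j + 2)} : Set G) :=
      subset_closure (.inl rfl)
    have h2 := mul_mem h1 (subset_closure (.inr rfl))
    rw [eu h, ez h] at h1 h2 ⊢
    obtain ⟨p, q, rfl | rfl | rfl | rfl⟩ := h.nfW (mem_top g) <;> simp only [N h] at h2 ⊢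
    · convert h1 using 2 <;> ring
    · convert h2 using 1; rw [We h]; exact ⟨⟨-1, by ring⟩, 0, by ring⟩
    · convert h1 using 1; rw [We h]; exact ⟨⟨-1, by ring⟩, 0, by ring⟩
    · convert h2 using 1; rw [We h]; exact ⟨⟨-1, by ring⟩, -1, by ring⟩
  · rw [ez h, h.z_cent (ar j) (mem_top g)]
    exact subset_closure (.inr rfl)

theorem tyA : TyA (x * y) (d * s * x ^ 2 ^ (j + 2)) ((x * y) ^ 2 ^ (j + 2)) (x ^ 2 ^ (j + 2)) := by
  rw [TyA, ez h, eu h, h.a_eq]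
  simp only [N h, We h]
  exact ⟨⟨⟨0, by ring⟩, 0, by ring⟩, ⟨0, by ring⟩, 0, by ring⟩

theorem inf_C {g : G} (h1 : g ∈ Q1 j x y s d) (h2 : g ∈ closure ({x, y, d} : Set G)) :
    g ∈ zpowers (x * y) := by
  obtain ⟨i, k, rfl | ⟨rfl, -⟩⟩ := (mem_Q1 h).1 h1
  · exact h.W_diag i
  · rw [mem_cl h h.dd] at h2
    simp only [N h, not_s h, not_ds h, or_false] at h2

/-- The three subgroups of index 2 above `⟨x, y⟩`. -/
theorem idx (e : G) (he : e = s ∨ e = d * s) : closure ({x, y, e} : Set G) ≠ ⊤ ∧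
    (∀ g g' : G, g⁻¹ * (g' * g * g'⁻¹) ∈ closure ({x, y, e} : Set G)) := by
  have h1 : e * e = 1 := by
    rcases he with rfl | rfl
    exacts [h.ss, h.dsds]
  refine ⟨fun e1 => ?_, fun g g' => (mem_cl h h1).2 (.inl ?_)⟩
  · rcases (mem_cl h h1).1 (e1.ge (mem_top d)) with e2 | e2
    · exact h.d_not (ar j) e2
    · rcases he with rfl | rfl
      exacts [h.ds_not (ar j) e2, h.s_not (ar j) (dd' h s ▸ e2)]
  · obtain ⟨p, q, rfl | rfl | rfl | rfl⟩ := h.nfW (mem_top g) <;>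
      obtain ⟨p', q', rfl | rfl | rfl | rfl⟩ := h.nfW (mem_top g') <;> simp only [N h, W_mem]

theorem R_le : Q1 j x y s d ≤ closure {x, y, d * s} := fun g hg => by
  rw [mem_cl h h.dsds]
  obtain ⟨i, k, rfl | ⟨rfl, -⟩⟩ := (mem_Q1 h).1 hg <;> simp only [N h, W_mem, true_or, or_true]

theorem T_le : TT (Q1 j x y s d) ≤ closure {x, y, s} := fun g hg => by
  rw [mem_cl h h.ss]
  obtain ⟨i, rfl | rfl⟩ := ((T_quat h).mem g).1 hg <;>
    simp only [eu h, et h, h.W_zpow, N h, W_mem, true_or, or_true]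

/-- The involution of a quaternion subgroup of the same order as `Q1` is central. -/
theorem wc_aux {a b : G} (ha : orderOf a = 2 ^ (j + 3)) (hb : b * a * b⁻¹ = a⁻¹)
    (hbb : b * b = a ^ 2 ^ (j + 2)) : a ^ 2 ^ (j + 2) = (x * y) ^ 2 ^ (j + 2) := by
  have h1 : a ^ 2 ^ (j + 2) ≠ 1 := pow_ne_one_of_lt_orderOf (by positivity)
    (ha ▸ Nat.pow_lt_pow_right one_lt_two (by omega))
  have h2 : a ^ 2 ^ (j + 2) * a ^ 2 ^ (j + 2) = 1 := by
    rw [← pow_add, ← two_mul, ← pow_succ', ← ha, pow_orderOf_eq_one]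
  rw [ez h]
  by_cases hA : a ∈ zpowers x ⊔ zpowers y
  swap
  · exact (h.pow_out (ar j) (mem_top a) hA (by omega) h2).resolve_left h1
  rw [← hbb] at h1 h2 ⊢
  obtain ⟨p, q, rfl | rfl | rfl | rfl⟩ := h.nfW (mem_top b)
  · rw [h.A_comm (W_mem x y p q) hA, mul_inv_cancel_right] at hb
    have h3 : orderOf a ∣ 2 := by
      rw [orderOf_dvd_iff_pow_eq_one, pow_two]
      nth_rewrite 1 [hb]
      exact inv_mul_cancel _
    have h4 := Nat.le_of_dvd two_pos h3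
    have h5 : 0 < 2 ^ j := by positivity
    rw [ha, pow_add] at h4
    omega
  · rw [h.sq_s (ar j)] at h1 h2 ⊢
    exact (h.inv_a (ar j) (h.W_diag _) h2).resolve_left h1
  · rw [h.sq_d (ar j), zero_mul, zero_mul, W_zero] at h1
    exact absurd rfl h1
  · rw [h.sq_ds (ar j)] at h1 h2 ⊢
    exact (h.inv_c (ar j) (zpow_mem_zpowers _ _) h2).resolve_left h1

theorem exists_equiv : ∃ φ : W2.TM (ZMod (2 ^ (j + 3))) ≃* G, φ ⟨1, 0, false, false⟩ = x ∧
    φ ⟨0, 1, false, false⟩ = y ∧ φ ⟨0, 0, true, false⟩ = s ∧ φ ⟨0, 0, false, true⟩ = d := by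
  have h4 : 2 ^ 2 ≤ 2 ^ (j + 3) := Nat.pow_le_pow_right two_pos (by omega)
  have : Fact (1 < 2 ^ (j + 3)) := ⟨by omega⟩
  obtain ⟨φ, hφ, e⟩ := W2.exists_hom (N := 2 ^ (j + 3)) (x := x) (y := y) (r := s) (w := d) (by omega)
    h.xy (fun i k => by rw [h.ind]; push_cast; rfl) h.ss h.dd h.sd h.sx (by simpa using h.dx)
  refine ⟨MulEquiv.ofBijective φ ((Nat.bijective_iff_injective_and_card φ).2 ⟨hφ, ?_⟩), ?_, ?_, ?_, ?_⟩
  · rw [← card_top (G := G), h.card (par j), W2.TM.card_eq, Nat.card_zmod, ← pow_mul,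
      show (4 : ℕ) = 2 ^ 2 by norm_num, ← pow_mul]
    ring
  all_goals simp [e, ZMod.cast_eq_val, ZMod.val_one]

theorem exists_aut {x' y' s' d' : G} (h' : GHB.Big (⊤ : Subgroup G) (j + 3) 0 x' y' s' d') :
    ∃ σ : MulAut G, σ x = x' ∧ σ y = y' ∧ σ s = s' ∧ σ d = d' := by
  obtain ⟨φ, rfl, rfl, rfl, rfl⟩ := exists_equiv h
  obtain ⟨ψ, rfl, rfl, rfl, rfl⟩ := exists_equiv h'
  exact ⟨φ.symm.trans ψ, by simp, by simp, by simp, by simp⟩

end Bg

end CfsgLib.WQ
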