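import Mathlib
import Cfsg.Agent.Lib.WQ.Bas
import Cfsg.Agent.Lib.Fusion.OpRes

/-! Package PAIR: extremal conjugates of `z` are of type A or C. See `plans/WQ.md`. -/

set_option autoImplicit false
set_option linter.unusedSectionVars false

namespace CfsgLib.WQ

open Subgroup Cfsg CfsgLib.Fusion CfsgLib.TwoGrp CfsgLib.QDFus

universe u

variable {G : Type u} [Group G] [Finite G]
variable {F : FusionSystem (⊤ : Subgroup G)} {R : Subgroup G} {j : ℕ} {a b i z : G}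

/-- `φ : C(x) ≅ C(x')` with inverse `ψ` and `x ↦ z ↦ x'`. -/
structure PairD (F : FusionSystem (⊤ : Subgroup G)) (z x x' : G) (φ ψ : G → G) : Prop where
  ext : Ext F z x
  ext' : Ext F z x'
  mor : Mor F (Cn x) φ
  mor' : Mor F (Cn x') ψ
  fx : φ x = z
  fz : φ z = x'
  gx : ψ x' = z
  gz : ψ z = x
  mem : ∀ g ∈ Cn x, φ g ∈ Cn x'
  mem' : ∀ g ∈ Cn x', ψ g ∈ Cn x
  gf : ∀ g ∈ Cn x, ψ (φ g) = g
  fg : ∀ g ∈ Cn x', φ (ψ g) = g

theorem PairD.symm {x x' : G} {φ ψ : G → G} (p : PairD F z x x' φ ψ) : PairD F z x' x ψ φ :=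
  ⟨p.ext', p.ext, p.mor', p.mor, p.gx, p.gz, p.fx, p.fz, p.mem', p.mem, p.fg, p.gf⟩

namespace Hyp

variable (h : Hyp F R j a b i z) {x : G}
include h

theorem exists_pairD (hx : Ext F z x) : ∃ x' φ ψ, PairD F z x x' φ ψ := by
  obtain ⟨φ, hφ, e⟩ := h.exists_phi hx.cj
  obtain ⟨h1, h2⟩ := h.partner hx hφ e
  obtain ⟨ψ, hψ, e1, e2, e3, -⟩ := hφ.exists_inv' h2
  refine ⟨φ z, φ, ψ, hx, h1, hφ, hψ, e, rfl, e1 z (h.z_mem_Cn x), ?_,
    fun g hg => h2 ▸ mem_img_of_mem φ hg, e3, e1, e2⟩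
  rw [← e]
  exact e1 x (self_mem_Cn x)

section Pair

variable {x' : G} {φ ψ : G → G} (p : PairD F z x x' φ ψ)
include p

theorem pair_mem {r : G} (hr : r ∈ R) (hc : x' * r = r * x') : ψ r ∈ RX F R z x := by
  have h1 : r ∈ Cn x' := mem_Cn.2 hc.symm
  rw [h.mem_RX p.mor (self_mem_Cn x) p.fx (p.mem' r h1), p.fg r h1]
  exact hr

theorem pair_sq (hC : ¬ TyC R z x') : IsSquare x := by
  simp only [TyC, not_forall, not_or] at hC
  obtain ⟨r, hr, hc, h1, h2⟩ := hC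
  have h3 := p.fg r (mem_Cn.2 hc.symm)
  refine h.RX_sq p.ext.cj (h.pair_mem p hr hc) (fun e => h1 ?_) fun e => h2 ?_
  · rw [← h3, e, p.mor.map_one]
  · rw [← h3, e, p.fx]

theorem pair_comm {r r' : G} (hr : r ∈ R) (hr' : r' ∈ R) (hc : x' * r = r * x')
    (hc' : x' * r' = r' * x') : r * r' = r' * r := by
  by_contra hne
  have m := mem_Cn.2 hc.symm
  have m' := mem_Cn.2 hc'.symm
  have hg := h.pair_mem p hr hc
  have hg' := h.pair_mem p hr' hc'
  have hn : ψ r * ψ r' ≠ ψ r' * ψ r := fun e => hne (p.mor'.inj (mul_mem m m') (mul_mem m' m) (by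
    rw [p.mor'.map_mul m m', p.mor'.map_mul m' m, e]))
  have hsq : IsSquare x := h.pair_sq p fun hC => by
    rcases hC r hr hc with rfl | rfl
    · exact hne (by simp)
    · exact hne (h.z_comm r').symm
  have hx2 := h.cj_sq p.ext.cj
  rcases h.types hx2 (fun hT => p.ext.ne (h.h1 p.ext.cj hT)) with hA | hC | h3 | ⟨-, h4⟩
  · have h1 := h.comm_memT (h.RX_comm p.ext.ne p.ext.cj hg h.a_mem hA.1)
      (h.RX_comm p.ext.ne p.ext.cj hg' h.a_mem hA.1)
    have h2 := h.RX_inf_T p.ext.ne p.ext.cj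
      (mul_mem (mul_mem (mul_mem hg hg') (inv_mem hg)) (inv_mem hg')) h1
    exact hn (by rwa [mul_inv_eq_one, mul_inv_eq_iff_eq_mul] at h2)
  · exact h.tyC_not_sq hx2 hC hsq
  · exact h3.1 hsq
  · rcases h4 (ψ r) fun s hs e => h.RX_comm p.ext.ne p.ext.cj hg hs e with h5 | h5
    · exact hn (by rw [h.RX_inf_T p.ext.ne p.ext.cj hg h5]; simp)
    · have h6 := h.RX_inf_T p.ext.ne p.ext.cj (mul_mem hg (h.RX_self p.ext.cj)) h5
      have h7 : ψ r = x := by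
        rw [eq_inv_of_mul_eq_one_left h6, inv_eq_of_mul_eq_one_left hx2]
      exact hn (by rw [h7]; exact (mem_Cn.1 (p.mem' r' m')).symm)

theorem pair_tyA (hC : ¬ TyC R z x) : TyA a b z x' := by
  have hsq : IsSquare x' := h.pair_sq p.symm hC
  have hx2 := h.cj_sq p.ext'.cj
  rcases h.types hx2 (fun hT => p.ext'.ne (h.h1 p.ext'.cj hT)) with
    hA | hC | h3 | ⟨⟨r, hr, r', hr', e, e', hn⟩, -⟩
  · exact hA
  · exact absurd hsq (h.tyC_not_sq hx2 hC)
  · exact absurd hsq h3.1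
  · exact absurd (h.pair_comm p hr hr' e e') hn

end Pair

theorem pair (hx : Ext F z x) : TyA a b z x ∨ TyC R z x := by
  obtain ⟨x', φ, ψ, p⟩ := h.exists_pairD hx
  by_cases hC : TyC R z x
  · exact Or.inr hC
  · exact Or.inl (h.pair_tyA p.symm (h.not_tyC_of_comm (h.pair_tyA p hC).1))

theorem pairA (hx : Ext F z x) (hA : TyA a b z x) : ∃ c, RX F R z x = zpowers c ∧
    orderOf c = 2 ^ (j + 3) ∧ c * a = a * c ∧ c * b * c⁻¹ = a * b ∧ c ^ 2 ^ (j + 2) = x := by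
  obtain ⟨x', φ, ψ, p⟩ := h.exists_pairD hx
  have hA' := h.pair_tyA p (h.not_tyC_of_comm hA.1)
  have ma : a ∈ Cn x' := mem_Cn.2 hA'.1.symm
  have hc := h.pair_mem p h.a_mem hA'.1
  set c := ψ a with hcdef
  have h1 : RX F R z x = zpowers c := by
    refine le_antisymm (fun g hg => ?_) (zpowers_le.2 hc)
    have m := RX_le F R z x hg
    obtain ⟨k, hk⟩ := (h.tyA_cent hA' ((h.mem_RX p.mor (self_mem_Cn x) p.fx m).1 hg)).1
      (mem_Cn.1 (p.mem g m)).symm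
    refine ⟨k, ?_⟩
    change c ^ k = g
    rw [hcdef, ← p.mor'.hom.map_zpow ma, show a ^ k = φ g from hk, p.gf g m]
  have h2 : orderOf c = 2 ^ (j + 3) := (p.mor'.orderOf_eq ma).trans h.ord_a
  have h3 : c * a = a * c := h.RX_comm hx.ne hx.cj hc h.a_mem hA.1
  have h4 : c ^ 2 ^ (j + 2) = x := by rw [hcdef, ← p.mor'.hom.map_pow ma, ← h.hz, p.gz]
  obtain ⟨-, μ, -, -, hb⟩ := h.act c
  have hμ : Odd μ := by
    have h5 := h.pow_act h3 hb ((2 ^ (j + 2) : ℕ) : ℤ)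
    rw [zpow_natCast, h4, hA.2, mul_left_inj, h.hz, ← zpow_natCast, h.a_zpow_eq] at h5
    obtain ⟨k, hk⟩ := h5
    push_cast at hk
    refine ⟨-k, mul_left_cancel₀ (a := (2 : ℤ) ^ (j + 2)) (by positivity) ?_⟩
    rw [pow_succ] at hk
    linear_combination -hk
  obtain ⟨u, v, huv⟩ : IsCoprime μ (2 ^ (j + 3) : ℤ) := (Int.isCoprime_two_right.2 hμ).pow_right
  have h5 : (c ^ u) ^ μ = c := by
    rw [← zpow_mul, show u * μ = 1 + 2 ^ (j + 3) * (-v) by linear_combination huv, zpow_add, zpow_one,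
      zpow_mul, show (2 ^ (j + 3) : ℤ) = ((orderOf c : ℕ) : ℤ) by rw [h2]; push_cast; rfl,
      zpow_natCast, pow_orderOf_eq_one, one_zpow, mul_one]
  have h6 : zpowers (c ^ u) = zpowers c :=
    le_antisymm (zpowers_le.2 ⟨u, rfl⟩) (zpowers_le.2 ⟨μ, h5⟩)
  refine ⟨c ^ u, h1.trans h6.symm, ?_, ((Commute.zpow_left h3 u).eq), ?_, ?_⟩
  · rw [← Nat.card_zpowers, h6, Nat.card_zpowers, h2]
  · rw [h.pow_act h3 hb u, mul_left_inj]
    conv_rhs => rw [← zpow_one a]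
    exact h.a_zpow_eq.2 ⟨-v, by linear_combination huv⟩
  · have hu : Odd u := by
      have : Odd (u * μ) := ⟨-v * 2 ^ (j + 2), by rw [pow_succ] at huv; linear_combination huv⟩
      exact (Int.odd_mul.1 this).1
    obtain ⟨k, rfl⟩ := hu
    rw [← zpow_natCast, ← zpow_mul, mul_comm, zpow_mul, zpow_natCast, h4, zpow_add, zpow_one,
      zpow_mul, zpow_two, h.cj_sq hx.cj, one_zpow, one_mul]

theorem exists_conj_xz (hx : Ext F z x) : ∃ s, s * x * s⁻¹ = x * z := by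
  rcases h.pair hx with hA | hC
  · exact ⟨b, h.tyA_b hA⟩
  · exact ⟨i, (h.tyC_i (h.cj_sq hx.cj) hC).2⟩

theorem exists_theta (hx : Ext F z x) : ∃ θ, Th F z x θ := by
  have : Fact (Nat.Prime 2) := ⟨Nat.prime_two⟩
  obtain ⟨x', φ, ψ, p⟩ := h.exists_pairD hx
  obtain ⟨s, hs⟩ := h.exists_conj_xz hx
  obtain ⟨s', hs'⟩ := h.exists_conj_xz p.ext'
  have hz : ∀ g : G, g * z * g⁻¹ = z := fun g => by rw [h.z_comm g, mul_inv_cancel_right]
  have mx := self_mem_Cn x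
  have mz := h.z_mem_Cn x
  have mx' := self_mem_Cn x'
  have mz' := h.z_mem_Cn x'
  have x2 := h.cj_sq hx.cj
  have xzx : x * z * x = z := by rw [h.z_comm x, mul_assoc, x2, mul_one]
  set U : Subgroup G := closure {x, z} with hU
  have ux : x ∈ U := subset_closure (by simp)
  have uz : z ∈ U := subset_closure (by simp)
  have hUC : U ≤ Cn x := (closure_le _).2 (by
    rintro g (rfl | rfl)
    · exact mx
    · exact mz)
  have m1 : Mor F U fun g => s' * φ g * s'⁻¹ := (p.mor.mono hUC).conj_left (mem_top s')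
  have m2 : Mor F U fun g => ψ (s' * φ g * s'⁻¹) := m1.comp' p.mor' (m1.hom.mem_of_closure (by
    rintro g (rfl | rfl)
    · rw [p.fx, hz]; exact mz'
    · rw [p.fz, hs']; exact mul_mem mx' mz'))
  have m3 : Mor F U fun g => s * ψ (s' * φ g * s'⁻¹) * s⁻¹ := m2.conj_left (mem_top s)
  have e1 : s * ψ (s' * φ z * s'⁻¹) * s⁻¹ = x := by
    rw [p.fz, hs', p.mor'.map_mul mx' mz', p.gx, p.gz, ← h.z_comm x, ← hs]
    have : s * (s * x * s⁻¹) * s⁻¹ = s * (x * z) * s⁻¹ := by rw [hs]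
    rw [this, show s * (x * z) * s⁻¹ = (s * x * s⁻¹) * (s * z * s⁻¹) by group, hs, hz, mul_assoc,
      h.zz, mul_one]
  have e2 : s * ψ (s' * φ x * s'⁻¹) * s⁻¹ = x * z := by rw [p.fx, hz, p.gz, hs]
  obtain ⟨α, hα, eα⟩ := m3.exists_aut_of_mem (m3.hom.mem_of_closure (by
    rintro g (rfl | rfl)
    · rw [e2]; exact mul_mem ux uz
    · rw [e1]; exact ux))
  have a1 : extAut α z = x := (eα z uz).trans e1
  have a2 : extAut α x = x * z := (eα x ux).trans e2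
  have a3 : extAut α (x * z) = z := by rw [(isHomOn_extAut α).map_mul ux uz, a1, a2, xzx]
  have hα3 : α ^ 3 = 1 := by
    refine aut_eq_one ((isHomOn_extAut (α ^ 3)).eqOn_closure (isHomOn_id _) ?_)
    rintro g (rfl | rfl)
    · rw [pow_three, extAut_mul_apply, extAut_mul_apply, a2, a3, a1]
    · rw [pow_three, extAut_mul_apply, extAut_mul_apply, a1, a2, a3]
  have hex := exists_coprime_extension (p := 2) (h.two.to_subgroup ⊤) h.sat hx.fc hα
    (Nat.Coprime.coprime_dvd_left (orderOf_dvd_of_pow_eq_one hα3) (by norm_num))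
  have e : U ⊔ FusionSystem.centralizerIn ⊤ U = Cn x := by
    refine le_antisymm (sup_le hUC fun g hg => mem_Cn.2 (hg.2 x ux).symm) fun g hg =>
      mem_sup_right ⟨mem_top g, ?_⟩
    rw [hU, centralizer_closure]
    rintro w (rfl | rfl)
    · exact (mem_Cn.1 hg).symm
    · exact (h.z_comm g).symm
  rw [e] at hex
  obtain ⟨θ, h1, h2, h3⟩ := hex
  exact ⟨θ, h1, Nat.coprime_two_right.1 h2, (h3 z uz).trans a1, (h3 x ux).trans a2⟩

theorem th_xz {θ : MulAut (Cn x)} (hc : Cj F x z) (hθ : Th F z x θ) : extAut θ (x * z) = z := by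
  rw [(isHomOn_extAut θ).map_mul (self_mem_Cn x) (h.z_mem_Cn x), hθ.hx, hθ.hz, h.z_comm x,
    mul_assoc, h.cj_sq hc, mul_one]

theorem cases : (∃ x c θ, CA F R j a b i z x c θ) ∨ CC F R j a b i z := by
  by_cases hA : ∃ x, Ext F z x ∧ TyA a b z x
  · obtain ⟨x, hx, hA⟩ := hA
    obtain ⟨c, h1, h2, h3, h4, h5⟩ := h.pairA hx hA
    obtain ⟨θ, hθ⟩ := h.exists_theta hx
    exact Or.inl ⟨x, c, θ, h, hx, hA, h1, h2, h3, h4, h5, hθ⟩
  · refine Or.inr ⟨h, fun x hne hc r hr e => ?_⟩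
    obtain ⟨ρ, hρ, ez, hx⟩ := h.exists_ext hne hc
    have hC := (h.pair hx).resolve_left fun h' => hA ⟨_, hx, h'⟩
    have m := mem_Cn.2 e.symm
    have mx := self_mem_Cn x
    rcases hC (ρ r) ((h.mem_R_of_fix hρ (h.z_mem_Cn x) ez m).2 hr)
      (by rw [← hρ.map_mul mx m, ← hρ.map_mul m mx, e]) with h1 | h1
    · exact Or.inl (hρ.eq_one m h1)
    · exact Or.inr (hρ.inj m (h.z_mem_Cn x) (h1.trans ez.symm))

end Hyp

end CfsgLib.WQ
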