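import Mathlib
import Cfsg.Agent.Lib.WQ.Pair

/-! Package CA1: the structure of `G` in case A. See `plans/WQ.md`. -/

set_option autoImplicit false
set_option linter.unusedSectionVars false

namespace CfsgLib.WQ

open Subgroup Cfsg CfsgLib.Fusion CfsgLib.TwoGrp CfsgLib.QDFus

universe u

variable {G : Type u} [Group G] [Finite G]
variable {F : FusionSystem (⊤ : Subgroup G)} {R : Subgroup G} {j : ℕ} {a b i z x c : G}
  {θ : MulAut (Cn x)}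

namespace CA

variable (h : CA F R j a b i z x c θ) {g : G}
include h

theorem xx : x * x = 1 := h.hyp.cj_sq h.ext.cj

theorem az : a ^ (2 ^ (j + 2) : ℤ) = z := by rw [h.hyp.hz, ← zpow_natCast]; push_cast; rfl

theorem cz : c ^ (2 ^ (j + 2) : ℤ) = x := by rw [← h.cx, ← zpow_natCast]; push_cast; rfl

theorem cj_xz : Cj F (x * z) z := (h.hyp.tyA_b h.tyA ▸ cj_conj F b x).symm.trans h.ext.cj

omit h in
theorem zpow_invol {y : G} (hy : y * y = 1) (n : ℤ) : y ^ n = 1 ∨ y ^ n = y := by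
  have e : y ^ (2 : ℤ) = 1 := by rw [zpow_two, hy]
  rcases Int.even_or_odd' n with ⟨k, rfl | rfl⟩ <;> simp [zpow_add, zpow_mul, e]

theorem aA : a ∈ AA a c := mem_sup_left (mem_zpowers a)

theorem cA : c ∈ AA a c := mem_sup_right (mem_zpowers c)

theorem tA : c * c * a⁻¹ ∈ AA a c := mul_mem (mul_mem h.cA h.cA) (inv_mem h.aA)

theorem a_mem : a ∈ Cn x := mem_Cn.2 h.tyA.1.symm

theorem c_mem : c ∈ Cn x := RX_le F R z x (h.RX_eq ▸ mem_zpowers c)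

theorem A_le : AA a c ≤ Cn x := sup_le (zpowers_le.2 h.a_mem) (zpowers_le.2 h.c_mem)

theorem b_notMem : b ∉ Cn x := fun e => h.hyp.z_ne (by
  have := h.tyA.2
  rwa [← mem_Cn.1 e, mul_inv_cancel_right, eq_comm, mul_eq_right] at this)

theorem bc : b * c * b⁻¹ = c * a⁻¹ := by
  calc b * c * b⁻¹ = (c * b * c⁻¹ * b⁻¹)⁻¹ * c := by group
    _ = c * a⁻¹ := by rw [h.cb, mul_inv_cancel_right]; exact (Commute.inv_right h.ca).symm.eq

theorem ind {u v : ℤ} : a ^ u * c ^ v = 1 ↔ (2 ^ (j + 3) : ℤ) ∣ u ∧ (2 ^ (j + 3) : ℤ) ∣ v := by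
  have e1 : ∀ v : ℤ, c ^ v = 1 ↔ (2 ^ (j + 3) : ℤ) ∣ v := fun v => by
    rw [← orderOf_dvd_iff_zpow_eq_one, h.ord]; push_cast; rfl
  have e2 : a ^ u = 1 ↔ (2 ^ (j + 3) : ℤ) ∣ u := by rw [← zpow_zero a, h.hyp.a_zpow_eq, sub_zero]
  refine ⟨fun e => ?_, fun e => by rw [e2.2 e.1, (e1 v).2 e.2, one_mul]⟩
  have e3 : c ^ v = 1 := h.hyp.RX_inf_R h.ext.ne h.ext.cj (h.RX_eq ▸ zpow_mem_zpowers c v)
    (eq_inv_of_mul_eq_one_right e ▸ inv_mem (zpow_mem h.hyp.a_mem u))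
  rw [e3, mul_one] at e
  exact ⟨e2.1 e, (e1 v).1 e3⟩

theorem eq_iff {u v u' v' : ℤ} : a ^ u * c ^ v = a ^ u' * c ^ v' ↔
    (2 ^ (j + 3) : ℤ) ∣ u - u' ∧ (2 ^ (j + 3) : ℤ) ∣ v - v' := by
  have k : Commute (c ^ (v - v')) (a ^ u') := (Commute.zpow_zpow h.ca _ _)
  rw [← h.ind, ← mul_left_inj (a ^ u' * c ^ v') (c := 1), one_mul, mul_assoc, ← mul_assoc (c ^ _), k.eq, mul_assoc, ← mul_assoc,
    ← zpow_add, ← zpow_add, sub_add_cancel, sub_add_cancel]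

theorem mul_eq (u v u' v' : ℤ) : a ^ u * c ^ v * (a ^ u' * c ^ v') = a ^ (u + u') * c ^ (v + v') := by
  rw [zpow_add, zpow_add]
  exact (Commute.zpow_zpow h.ca v u').mul_mul_mul_comm _ _

theorem zpow_eq (u v l : ℤ) : (a ^ u * c ^ v) ^ l = a ^ (u * l) * c ^ (v * l) := by
  rw [zpow_mul, zpow_mul]
  exact (Commute.zpow_zpow h.ca v u).symm.mul_zpow l

theorem mem_A : g ∈ AA a c ↔ ∃ u v : ℤ, g = a ^ u * c ^ v := by
  refine ⟨fun hg => ?_, fun ⟨u, v, e⟩ => e ▸ mul_mem (mem_sup_left (zpow_mem_zpowers a u))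
    (mem_sup_right (zpow_mem_zpowers c v))⟩
  let K : Subgroup G :=
    { carrier := {g | ∃ u v : ℤ, g = a ^ u * c ^ v}
      one_mem' := ⟨0, 0, by simp⟩
      mul_mem' := fun ⟨u, v, e⟩ ⟨u', v', e'⟩ => ⟨u + u', v + v', by rw [e, e', h.mul_eq]⟩
      inv_mem' := fun ⟨u, v, e⟩ => ⟨u * -1, v * -1, by rw [e, ← zpow_neg_one, h.zpow_eq]⟩ }
  exact (sup_le (zpowers_le.2 ⟨1, 0, by simp⟩) (zpowers_le.2 ⟨0, 1, by simp⟩) : AA a c ≤ K) hg

theorem A_comm {g' : G} (hg : g ∈ AA a c) (hg' : g' ∈ AA a c) : g * g' = g' * g := by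
  obtain ⟨u, v, rfl⟩ := h.mem_A.1 hg
  obtain ⟨u', v', rfl⟩ := h.mem_A.1 hg'
  rw [h.mul_eq, h.mul_eq, add_comm u, add_comm v]

theorem A_invol (hg : g ∈ AA a c) (h2 : g * g = 1) : g = 1 ∨ g = z ∨ g = x ∨ g = x * z := by
  obtain ⟨u, v, rfl⟩ := h.mem_A.1 hg
  rw [h.mul_eq, h.ind, pow_succ, ← mul_two, ← mul_two, mul_dvd_mul_iff_right two_ne_zero,
    mul_dvd_mul_iff_right two_ne_zero] at h2
  obtain ⟨⟨u, rfl⟩, v, rfl⟩ := h2
  rw [zpow_mul, zpow_mul, h.az, h.cz]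
  rcases zpow_invol h.hyp.zz u with e | e <;> rcases zpow_invol h.xx v with e' | e' <;>
    simp [e, e', h.hyp.z_comm x]

theorem A_act_b (u v : ℤ) : a ^ u * c ^ v * b * (a ^ u * c ^ v)⁻¹ = a ^ (2 * u + v) * b := by
  calc _ = a ^ u * (c ^ v * b * (c ^ v)⁻¹) * a ^ (-u) := by group
    _ = a ^ u * a ^ v * (b * a ^ (-u) * b⁻¹) * b := by
      rw [h.hyp.pow_act h.ca (m := 1) (by rw [h.cb, zpow_one]) v]; group
    _ = _ := by rw [h.hyp.b_zpow]; group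

theorem b_act_A (u v : ℤ) : b * (a ^ u * c ^ v) * b⁻¹ = a ^ (-u - v) * c ^ v := by
  calc _ = b * a ^ u * b⁻¹ * (b * c * b⁻¹) ^ v := by rw [conj_zpow]; group
    _ = a ^ (-u) * c ^ (0 : ℤ) * (a ^ (-1 : ℤ) * c ^ (1 : ℤ)) ^ v := by
      rw [h.hyp.b_zpow, h.bc, (Commute.inv_right h.ca).eq]; simp
    _ = _ := by rw [h.zpow_eq, h.mul_eq]; congr 2 <;> ring

theorem A_zpow (hg : g ∈ AA a c) {l l' : ℤ} (e : (2 ^ (j + 3) : ℤ) ∣ l - l') : g ^ l = g ^ l' := by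
  obtain ⟨u, v, rfl⟩ := h.mem_A.1 hg
  rw [h.zpow_eq, h.zpow_eq, h.eq_iff, ← mul_sub, ← mul_sub]
  exact ⟨e.mul_left u, e.mul_left v⟩

theorem mem_xz : c * a⁻¹ ∈ RX F R z (x * z) := by
  rw [← h.bc, ← h.hyp.tyA_b h.tyA]
  exact h.hyp.RX_conj h.ext.cj (h.RX_eq ▸ mem_zpowers c) b

theorem RX_xz (hg : g ∈ RX F R z (x * z)) : ∃ n : ℤ, g = a ^ (-n) * c ^ n := by
  have := h.hyp.RX_conj h.cj_xz hg b⁻¹
  rw [← h.hyp.tyA_b h.tyA, show b⁻¹ * (b * x * b⁻¹) * b⁻¹⁻¹ = x by group, h.RX_eq] at this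
  obtain ⟨n, e⟩ := mem_zpowers_iff.1 this
  refine ⟨n, ?_⟩
  calc g = b * (a ^ (0 : ℤ) * c ^ n) * b⁻¹ := by rw [e]; group
    _ = _ := by rw [h.b_act_A]; simp

/-- `C(x)` acts on `A` by scalars. -/
theorem scalar (hg : g ∈ Cn x) : ∃ l : ℤ, Odd l ∧ ∀ α ∈ AA a c, g * α * g⁻¹ = α ^ l := by
  obtain ⟨l, -, hl, e1, -⟩ := h.hyp.act g
  have ex : g * x * g⁻¹ = x := by rw [mem_Cn.1 hg, mul_inv_cancel_right]
  have h1 := h.hyp.RX_conj h.ext.cj (h.RX_eq ▸ mem_zpowers c) g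
  have h2 := h.hyp.RX_conj h.cj_xz h.mem_xz g
  rw [ex, h.RX_eq] at h1
  rw [← conj_mul (a := x), ex, h.hyp.z_comm g, mul_inv_cancel_right] at h2
  obtain ⟨k, e2⟩ := mem_zpowers_iff.1 h1
  obtain ⟨n, e3⟩ := h.RX_xz h2
  rw [← conj_mul, ← conj_inv, e1, ← e2, ← zpow_neg, (Commute.zpow_zpow h.ca _ _).eq, h.eq_iff] at e3
  refine ⟨l, hl, fun α hα => ?_⟩
  obtain ⟨u, v, rfl⟩ := h.mem_A.1 hα
  rw [← conj_mul, ← conj_zpow, ← conj_zpow, e1, ← e2, ← zpow_mul, ← zpow_mul, h.zpow_eq, h.eq_iff]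
  exact ⟨by simp [mul_comm], ((dvd_add e3.1 e3.2).mul_right v).trans (dvd_of_eq (by ring))⟩

theorem cent_of_a (hg : g ∈ Cn x) (ha : g * a = a * g) : ∀ α ∈ AA a c, g * α = α * g := fun α hα => by
  obtain ⟨l, -, e⟩ := h.scalar hg
  have := e a h.aA
  rw [ha, mul_inv_cancel_right, ← zpow_one a, ← zpow_mul, one_mul, h.hyp.a_zpow_eq] at this
  rw [← mul_inv_eq_iff_eq_mul, e α hα, ← h.A_zpow hα this, zpow_one]

theorem inv_of_a (hg : g ∈ Cn x) (ha : g * a * g⁻¹ = a⁻¹) : ∀ α ∈ AA a c, g * α * g⁻¹ = α⁻¹ := fun α hα => by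
  obtain ⟨l, -, e⟩ := h.scalar hg
  have := e a h.aA
  rw [ha, ← zpow_neg_one, h.hyp.a_zpow_eq] at this
  rw [e α hα, ← h.A_zpow hα this, zpow_neg_one]

theorem th_ac : extAut θ a = c⁻¹ ∧ extAut θ c = a * c⁻¹ := by
  have hm := h.th.mor
  have hz := h.hyp.z_mem_Cn x
  have h1 := (h.hyp.RX_equiv (Cj.refl F z) hm hz h.a_mem).2 (h.hyp.RX_z.symm ▸ h.hyp.a_mem)
  have h2 := (h.hyp.RX_equiv h.ext.cj hm (self_mem_Cn x) h.c_mem).2 (h.RX_eq ▸ mem_zpowers c)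
  have h3 := (h.hyp.RX_equiv h.cj_xz hm (mul_mem (self_mem_Cn x) hz) (mul_mem h.c_mem (inv_mem h.a_mem))).2 h.mem_xz
  rw [h.th.hz, h.RX_eq] at h1
  rw [h.th.hx] at h2
  obtain ⟨e, e1⟩ := mem_zpowers_iff.1 h1
  obtain ⟨n, e2⟩ := h.RX_xz h2
  rw [h.hyp.th_xz h.ext.cj h.th, h.hyp.RX_z, hm.map_mul h.c_mem (inv_mem h.a_mem), hm.map_inv h.a_mem, ← e1, e2,
    mul_assoc, mul_mem_cancel_left (zpow_mem h.hyp.a_mem _)] at h3
  have e3 := mul_inv_eq_one.1 (h.hyp.RX_inf_R h.ext.ne h.ext.cj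
    (h.RX_eq ▸ mul_mem (zpow_mem_zpowers c n) (inv_mem (zpow_mem_zpowers c e))) h3)
  rw [← e3] at e1
  have k1 : ∀ u v : ℤ, extAut θ (a ^ u * c ^ v) = a ^ (-n * v) * c ^ (n * (u + v)) := fun u v => by
    rw [hm.map_mul (zpow_mem h.a_mem u) (zpow_mem h.c_mem v), hm.hom.map_zpow h.a_mem, hm.hom.map_zpow h.c_mem,
      ← e1, e2, h.zpow_eq, ← zpow_mul, ← one_mul (c ^ (n * u)), ← zpow_zero a, h.mul_eq, zero_add, mul_add]
  have k2 : ∀ k : ℕ, extAut (θ ^ (3 * k)) a = a ^ (-n) ^ (3 * k) * c ^ (0 : ℤ) := fun k => by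
    induction k with
    | zero => simp
    | succ k ih =>
      rw [mul_add, add_comm, pow_add, mul_one, pow_three, extAut_mul_apply, extAut_mul_apply, extAut_mul_apply, ih, k1,
        k1, k1]
      congr 2 <;> ring
  have k3 := k2 (orderOf θ)
  rw [mul_comm, pow_mul, pow_orderOf_eq_one, one_pow, extAut_one_apply, zpow_zero, mul_one, eq_comm] at k3
  have k4 := dvd_sub_one_of_odd_pow (h.th.odd.mul (by decide : Odd 3))
    (h.hyp.a_zpow_eq.1 (k3.trans (zpow_one a).symm))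
  have k5 : c ^ n = c⁻¹ := by rw [← zpow_neg_one]; exact h.A_zpow h.cA (k4.neg_right.trans (dvd_of_eq (by ring)))
  exact ⟨by rw [← e1, k5], by rw [e2, k5, h.A_zpow h.aA k4, zpow_one]⟩

theorem th_a : extAut θ a = c⁻¹ := h.th_ac.1

theorem th_c : extAut θ c = a * c⁻¹ := h.th_ac.2

theorem th_A (u v : ℤ) : extAut θ (a ^ u * c ^ v) = a ^ v * c ^ (-u - v) := by
  have hm := h.th.mor.hom
  rw [hm.map_mul (zpow_mem h.a_mem u) (zpow_mem h.c_mem v), hm.map_zpow h.a_mem, hm.map_zpow h.c_mem, h.th_a, h.th_c]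
  calc _ = a ^ (0 : ℤ) * c ^ (-u) * (a ^ (1 : ℤ) * c ^ (-1 : ℤ)) ^ v := by simp
    _ = _ := by rw [h.zpow_eq, h.mul_eq]; congr 2 <;> ring

theorem th_surj (hg : g ∈ AA a c) : ∃ α ∈ AA a c, extAut θ α = g := by
  obtain ⟨u, v, rfl⟩ := h.mem_A.1 hg
  exact ⟨_, h.mem_A.2 ⟨-u - v, u, rfl⟩, by rw [h.th_A]; congr 2; ring⟩

theorem th_mem_A (hg : g ∈ Cn x) : extAut θ g ∈ AA a c ↔ g ∈ AA a c := by
  refine ⟨fun e => ?_, fun e => ?_⟩
  · obtain ⟨α, hα, e'⟩ := h.th_surj e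
    exact (extAut θ).injective e' ▸ hα
  · obtain ⟨u, v, rfl⟩ := h.mem_A.1 e
    exact h.mem_A.2 ⟨_, _, h.th_A u v⟩

theorem th_fix (hg : g ∈ AA a c) (e : extAut θ g = g) : g = 1 := by
  obtain ⟨u, v, rfl⟩ := h.mem_A.1 hg
  rw [h.th_A, h.eq_iff] at e
  have k : IsCoprime (2 ^ (j + 3) : ℤ) 3 := (Int.isCoprime_iff_gcd_eq_one.2 rfl).pow_left
  have : (2 ^ (j + 3) : ℤ) ∣ v := k.dvd_of_dvd_mul_left (show 3 * v = v - u - (-u - v - v) by ring ▸ dvd_sub e.1 e.2)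
  exact h.ind.2 ⟨(dvd_sub this e.1).trans (dvd_of_eq (by ring)), this⟩

theorem t_eq : c * c * a⁻¹ = a ^ (-1 : ℤ) * c ^ (2 : ℤ) := by
  rw [zpow_neg_one, zpow_two]
  exact h.A_comm (mul_mem h.cA h.cA) (inv_mem h.aA)

theorem t_mem : c * c * a⁻¹ ∈ TT R := by
  refine h.hyp.memT_iff.2 ⟨h.A_comm h.tA h.aA, ?_⟩
  rw [← mul_inv_eq_iff_eq_mul, h.t_eq, h.A_act_b]; simp

theorem t_pow : (c * c * a⁻¹) ^ 2 ^ (j + 2) = z := by
  rw [← zpow_natCast, h.t_eq, h.zpow_eq, ← h.az, ← mul_one (a ^ (2 ^ (j + 2) : ℤ)), ← zpow_zero c, h.eq_iff]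
  push_cast
  exact ⟨⟨-1, by ring⟩, ⟨1, by ring⟩⟩

theorem th_comm (hg : g ∈ Cn x) (ha : g * a = a * g) : extAut θ g * a = a * extAut θ g := by
  obtain ⟨α, hα, e⟩ := h.th_surj h.aA
  have := congrArg (extAut θ) (h.cent_of_a hg ha α hα)
  rwa [h.th.mor.map_mul hg (h.A_le hα), h.th.mor.map_mul (h.A_le hα) hg, e] at this

theorem th2_mor : Mor F (Cn x) fun g => extAut θ (extAut θ g) := h.th.mor.comp' h.th.mor fun _ => extAut_mem θ

theorem CT_inv (hT : g ∈ TT R) (hg : g ∈ Cn x) (h2 : g * g = 1) : g = 1 ∨ g = z := by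
  have := Fact.mk Nat.prime_two
  have hm := h.th2_mor
  have hz := h.hyp.z_mem_Cn x
  have k : ∀ y ∈ TT R, y ∈ Cn x → y * y = 1 → extAut θ (extAut θ y) ∈ TT R → y = 1 := fun y hT hy h2 e => by
    by_contra hn
    exact h.ext.ne (h.hyp.hstar hT (orderOf_eq_prime (by rw [pow_two, h2]) hn) hm hy e (self_mem_Cn x)
      (by rw [h.th.hx, h.hyp.th_xz h.ext.cj h.th]))
  rcases h.hyp.tyA_of (by rw [← hm.map_mul hg hg, h2, hm.map_one])
    (h.th_comm (extAut_mem θ hg) (h.th_comm hg (h.hyp.memT_iff.1 hT).1)) with e | e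
  · exact .inl (k g hT hg h2 e)
  · refine .inr ((eq_inv_of_mul_eq_one_left (k _ (mul_mem hT h.hyp.z_memT) (mul_mem hg hz) ?_ ?_)).trans
      (inv_eq_of_mul_eq_one_left h.hyp.zz))
    · rw [(Commute.symm (h.hyp.z_comm g)).mul_mul_mul_comm, h2, h.hyp.zz, one_mul]
    · rw [hm.map_mul hg hz, h.th.hz, h.th.hx, ← mul_assoc]
      exact mul_mem (h.hyp.tyA_mul e h.tyA) h.hyp.z_memT

theorem CT_sq (hT : g ∈ TT R) (hg : g ∈ Cn x) (h2 : g * g ∈ zpowers (c * c * a⁻¹)) :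
    g ∈ zpowers (c * c * a⁻¹) := by
  have ha := (h.hyp.memT_iff.1 hT).1
  have k : Commute g (c * c * a⁻¹) := h.cent_of_a hg ha _ h.tA
  have hC := h.A_le h.tA
  have ht := h.t_mem
  have hp := h.t_pow
  generalize c * c * a⁻¹ = t at *
  obtain ⟨l, e⟩ := mem_zpowers_iff.1 h2
  rcases Int.even_or_odd' l with ⟨n, rfl | rfl⟩
  · refine (mul_mem_cancel_right (zpow_mem_zpowers t (-n))).1 ?_
    rcases h.CT_inv (mul_mem hT (zpow_mem ht (-n))) (mul_mem hg (zpow_mem hC (-n))) (by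
      rw [(k.zpow_right _).symm.mul_mul_mul_comm, ← e]; group) with e | e <;> rw [e]
    exacts [one_mem _, hp ▸ npow_mem_zpowers _ _]
  · have e1 : g ^ 2 ^ (j + 3) = z := by
      rw [pow_succ', pow_mul, pow_two, ← e, ← zpow_natCast, zpow_comm, zpow_natCast, hp, zpow_add, zpow_mul, zpow_two,
        h.hyp.zz, one_zpow, zpow_one, one_mul]
    have := h.hyp.pow_memT (h.th_comm (extAut_mem θ hg) (h.th_comm hg ha))
    rw [← h.th2_mor.hom.map_pow hg, e1, h.th.hz, h.th.hx] at this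
    exact (h.hyp.cj_ne h.ext.cj (mul_eq_right.1 (h.hyp.h1 h.cj_xz this))).elim

theorem CT (hT : g ∈ TT R) (hg : g ∈ Cn x) : g ∈ zpowers (c * c * a⁻¹) := by
  obtain ⟨k, e⟩ := h.hyp.two g
  have e' : g ^ 2 ^ k ∈ zpowers (c * c * a⁻¹) := e ▸ one_mem _
  clear e
  induction k with
  | zero => simpa using e'
  | succ k ih => exact ih (h.CT_sq (pow_mem hT _) (pow_mem hg _) (by rwa [pow_succ, pow_mul, pow_two] at e'))

theorem cent_A (ha : g * a = a * g) (hc : g * c = c * g) : g ∈ AA a c := by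
  obtain ⟨-, m, -, -, e⟩ := h.hyp.act g
  have hg : g ∈ Cn x := mem_Cn.2 (h.cx ▸ (Commute.pow_right hc _).eq)
  have h1 : g * c ^ (-m) ∈ TT R := by
    refine h.hyp.memT_iff.2 ⟨(Commute.mul_left ha (Commute.zpow_left h.ca _)).eq, ?_⟩
    rw [← mul_inv_eq_iff_eq_mul]
    calc _ = g * (c ^ (-m) * b * (c ^ (-m))⁻¹) * g⁻¹ := by group
      _ = g * a ^ (-m) * g⁻¹ * (g * b * g⁻¹) := by
        rw [h.hyp.pow_act h.ca (m := 1) (by rw [h.cb, zpow_one])]; group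
      _ = b := by rw [e, (Commute.zpow_right ha _).eq]; group
  have := zpowers_le.2 h.tA (h.CT h1 (mul_mem hg (zpow_mem h.c_mem _)))
  exact (mul_mem_cancel_right (zpow_mem h.cA _)).1 this

theorem sq_uniq {w y : G} (hw : w * x * w⁻¹ = x ∨ w * x * w⁻¹ = x * z) (e : w ^ 2 ^ (j + 2) = y)
    (hA : TyA a b z y) (h2 : y * y = 1) : y = 1 ∨ y = z ∨ y = x ∨ y = x * z := by
  have h1 : w * w ∈ Cn x := mem_Cn.2 (by
    rw [← mul_inv_eq_iff_eq_mul, show w * w * x * (w * w)⁻¹ = w * (w * x * w⁻¹) * w⁻¹ by group]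
    rcases hw with e | e <;> rw [e]
    · exact e
    · rw [← conj_mul, e, h.hyp.z_comm w, mul_inv_cancel_right, mul_assoc, h.hyp.zz, mul_one])
  have hy : y ∈ Cn x := by rw [← e, pow_succ', pow_mul, pow_two]; exact pow_mem h1 _
  exact h.A_invol (h.cent_A hA.1 (h.cent_of_a hy hA.1 c h.cA)) h2

theorem norm (g : G) : g * x * g⁻¹ = x ∨ g * x * g⁻¹ = x * z := by
  have := Fact.mk Nat.prime_two
  have zc := h.hyp.z_comm
  have k : ∀ g g' : G, (g * x * g⁻¹ = x ∨ g * x * g⁻¹ = x * z) → (g' * x * g'⁻¹ = x ∨ g' * x * g'⁻¹ = x * z) →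
      g * g' * x * (g * g')⁻¹ = x ∨ g * g' * x * (g * g')⁻¹ = x * z := fun g g' e e' => by
    rw [show g * g' * x * (g * g')⁻¹ = g * (g' * x * g'⁻¹) * g⁻¹ by group]
    rcases e' with e' | e' <;> rw [e']
    · exact e
    · rw [← conj_mul, zc g, mul_inv_cancel_right]
      exact e.symm.imp (fun e => by rw [e, mul_assoc, h.hyp.zz, mul_one]) fun e => by rw [e]
  let N : Subgroup G :=
    { carrier := {g | g * x * g⁻¹ = x ∨ g * x * g⁻¹ = x * z}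
      one_mem' := .inl (by simp)
      mul_mem' := k _ _
      inv_mem' := fun {g} e => by
        have : ∀ n : ℕ, g ^ n * x * (g ^ n)⁻¹ = x ∨ g ^ n * x * (g ^ n)⁻¹ = x * z := fun n => by
          induction n with
          | zero => simp
          | succ n ih => rw [pow_succ]; exact k _ _ ih e
        rw [inv_eq_of_mul_eq_one_right (by rw [← pow_succ', Nat.sub_add_cancel (orderOf_pos g), pow_orderOf_eq_one] :
          g * g ^ (orderOf g - 1) = 1)]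
        exact this _ }
  by_contra hn
  obtain ⟨s, -, hs, hs'⟩ := exists_mem_normalizer_notMem (h.hyp.two.to_subgroup ⊤)
    (lt_top_iff_ne_top.2 fun e => hn (e.ge (mem_top g) : g ∈ N))
  have hc : c ∈ N := .inl (by rw [mem_Cn.1 h.c_mem, mul_inv_cancel_right])
  rcases h.sq_uniq ((mem_normalizer_iff.1 hs c).1 hc) (by rw [conj_pow, h.cx]) (h.hyp.tyA_conj h.tyA s)
    (by rw [conj_mul, h.xx, mul_one, mul_inv_cancel]) with e | e | e
  · exact h.hyp.cj_ne h.ext.cj (conj_eq_one_iff.1 e)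
  · exact h.ext.ne (by rwa [mul_inv_eq_iff_eq_mul, ← zc, mul_right_inj] at e)
  · exact hs' e

theorem mem_or (g : G) : g ∈ Cn x ∨ g * b⁻¹ ∈ Cn x := by
  refine (h.norm g).imp (fun e => mem_Cn.2 (mul_inv_eq_iff_eq_mul.1 e)) fun e => mem_Cn.2 ?_
  have e' := h.hyp.tyA_b h.tyA
  rw [← mul_inv_eq_iff_eq_mul]
  calc _ = g * b⁻¹ * (x * z * z) * (g * b⁻¹)⁻¹ := by rw [mul_assoc x, h.hyp.zz, mul_one]
    _ = g * x * g⁻¹ * (g * b⁻¹ * z * (g * b⁻¹)⁻¹) := by rw [← e']; group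
    _ = x := by rw [e, h.hyp.z_comm (g * b⁻¹), mul_inv_cancel_right, mul_assoc, h.hyp.zz, mul_one]

theorem C_normal : (Cn x).Normal := ⟨fun n hn g => mem_Cn.2 (by
  have : n ∈ Cn (g⁻¹ * x * g⁻¹⁻¹) := by
    rcases h.norm g⁻¹ with e | e <;> rw [e]
    exacts [hn, (h.hyp.Cn_mul_z x).symm ▸ hn]
  calc _ = g * (n * (g⁻¹ * x * g⁻¹⁻¹)) * g⁻¹ := by group
    _ = _ := by rw [mem_Cn.1 this]; group)⟩

theorem A_normal : (AA a c).Normal := ⟨fun n hn g => by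
  have k : ∀ g ∈ Cn x, ∀ n ∈ AA a c, g * n * g⁻¹ ∈ AA a c := fun g hg n hn => by
    obtain ⟨l, -, e⟩ := h.scalar hg
    exact e n hn ▸ zpow_mem hn l
  rcases h.mem_or g with e | e
  · exact k g e n hn
  · obtain ⟨u, v, rfl⟩ := h.mem_A.1 hn
    convert k _ e _ (h.mem_A.2 ⟨_, _, h.b_act_A u v⟩) using 1
    group⟩

theorem uniq {x' : G} (hx' : Ext F z x') (hA : TyA a b z x') : x' = x ∨ x' = x * z := by
  obtain ⟨w, -, -, -, -, e⟩ := h.hyp.pairA hx' hA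
  exact ((h.sq_uniq (h.norm w) e hA (h.hyp.cj_sq hx'.cj)).resolve_left (h.hyp.cj_ne hx'.cj)).resolve_left hx'.ne

theorem mem_of_act {g' : G} (e : ∀ α ∈ AA a c, g * α * g⁻¹ = g' * α * g'⁻¹) : g⁻¹ * g' ∈ AA a c := by
  have k : ∀ α ∈ AA a c, g⁻¹ * g' * α = α * (g⁻¹ * g') := fun α hα => by
    calc _ = g⁻¹ * (g' * α * g'⁻¹) * g' := by group
      _ = _ := by rw [← e α hα]; group
  exact h.cent_A (k a h.aA) (k c h.cA)

theorem comm_mem {g' : G} (hg : g ∈ Cn x) (hg' : g' ∈ Cn x) : g * g' * g⁻¹ * g'⁻¹ ∈ AA a c := by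
  obtain ⟨l, -, e⟩ := h.scalar (inv_mem hg)
  obtain ⟨l', -, e'⟩ := h.scalar (inv_mem hg')
  convert h.mem_of_act (g := g'⁻¹ * g⁻¹) (g' := g⁻¹ * g'⁻¹) fun α hα => ?_ using 1
  · group
  calc _ = g'⁻¹ * (g⁻¹ * α * g⁻¹⁻¹) * g'⁻¹⁻¹ := by group
    _ = g⁻¹ * (g'⁻¹ * α * g'⁻¹⁻¹) * g⁻¹⁻¹ := by
      rw [e α hα, e' α hα, e _ (zpow_mem hα _), e' _ (zpow_mem hα _), ← zpow_mul, ← zpow_mul, mul_comm]
    _ = _ := by group

theorem th_mod (hg : g ∈ Cn x) : g⁻¹ * extAut θ g ∈ AA a c := by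
  obtain ⟨l, -, e⟩ := h.scalar hg
  refine h.mem_of_act fun α hα => ?_
  obtain ⟨β, hβ, rfl⟩ := h.th_surj hα
  rw [e _ hα, ← h.th.mor.map_conj hg (h.A_le hβ), e β hβ, h.th.mor.hom.map_zpow (h.A_le hβ)]

theorem exists_fix (hg : g ∈ Cn x) : ∃ α ∈ AA a c, extAut θ (g * α) = g * α := by
  have := Fact.mk Nat.prime_two
  obtain ⟨u, hu, e⟩ := exists_fixed_mul (h.hyp.two.to_subgroup _) (Nat.coprime_two_right.2 h.th.odd)
    (mem_stabMod.2 fun _ => h.th_mod) hg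
  exact ⟨u, hu.2, e⟩

theorem A_fix {η : G → G} (hη : Mor F (Cn x) η) (e : ∀ α ∈ AA a c, η α = α) :
    ∃ β ∈ AA a c, ∀ g ∈ Cn x, η g = β * g * β⁻¹ := by
  have := Fact.mk Nat.prime_two
  have := h.A_normal
  have hS := h.hyp.two.to_subgroup ⊤
  obtain ⟨β, hβ, -, k⟩ := sat_fix_centric hS h.hyp.sat (centric_of_fullyCentralized (sat_fullyCentralized hS h.hyp.sat
    (fullyNormalized_of_le_normalizer le_top (normalizer_eq_top _).ge)) fun g hg =>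
      h.cent_A (hg.2 a h.aA).symm (hg.2 c h.cA).symm) h.A_le hη e
  exact ⟨β, hβ, k⟩

end CA

end CfsgLib.WQ
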