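import Mathlib
import Cfsg.Agent.Lib.WQ.Bas

/-! Package GEN: generation of `F`, the centralizer system of `z`, focal bounds. See `plans/WQ.md`. -/

set_option autoImplicit false
set_option linter.unusedSectionVars false
set_option Elab.async false

namespace CfsgLib.WQ

open Subgroup Cfsg CfsgLib.Fusion CfsgLib.TwoGrp CfsgLib.QDFus

universe u

variable {G : Type u} [Group G] [Finite G]
variable {F : FusionSystem (⊤ : Subgroup G)} {R : Subgroup G} {j : ℕ} {a b i z : G}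

theorem exists_focSys (F : FusionSystem (⊤ : Subgroup G)) {N : Subgroup G}
    (hN : ∀ s x : G, x⁻¹ * (s * x * s⁻¹) ∈ N) : ∃ E : FusionSystem (⊤ : Subgroup G),
      ∀ P f, Mor E P f ↔ Mor F P f ∧ ∀ x ∈ P, x⁻¹ * f x ∈ N :=
  exists_fs_of_isMorPred
    { hom := fun h => h.1.hom
      le := fun h => h.1.le
      mem := fun h _ hx => h.1.mem hx
      inj := fun h => h.1.injOn
      congr := fun h e => ⟨h.1.congr e, fun x hx => e x hx ▸ h.2 x hx⟩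
      conj := fun hP hs => ⟨Mor.conj F hP hs, fun x _ => hN _ x⟩
      comp := fun hf hg hm => ⟨hf.1.comp hg.1 hm, fun x hx => by
        simpa [mul_assoc] using mul_mem (hf.2 x hx) (hg.2 _ (hm x hx))⟩
      inv := fun hf => by
        obtain ⟨g, hg, e, -⟩ := hf.1.exists_inv
        refine ⟨g, ⟨hg, fun y hy => ?_⟩, e⟩
        obtain ⟨x, hx, rfl⟩ := hf.1.mem_img.1 hy
        simpa [e x hx] using inv_mem (hf.2 x hx) }

namespace Hyp

variable (h : Hyp F R j a b i z) {P : Subgroup G} {f : G → G}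
include h

theorem eq_top_of_le {N : Subgroup G} {E : FusionSystem (⊤ : Subgroup G)}
    (hE : ∀ P f, Mor E P f → ∀ x ∈ P, x⁻¹ * f x ∈ N) (hle : F ≤ E) : N = ⊤ :=
  eq_top_iff.2 (h.hyp.ge.trans ((hyperfocal_le_focal F 2).trans
    (focal_le_iff.2 fun P f hf => hE P f (le_iff_mor.1 hle P f hf))))

/-- The centralizer system of `z` as a system on all of `G`. -/
theorem exists_Fz : ∃ Z : FusionSystem (⊤ : Subgroup G), Z.IsSaturated 2 ∧ Z.StronglyClosed R ∧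
    (∀ P f, Mor Z P f → Mor F P f) ∧ (∀ P f, Mor Z P f → z ∈ P → f z = z) ∧
    ∀ P f, Mor F P f → z ∈ P → f z = z → Mor Z P f := by
  have hT : ⊤ = kNormIn ⊤ (zpowers z) ⊥ := by rw [kNormIn_bot, centIn_zpowers, h.Cn_z]
  have tr : ∀ {S S' : Subgroup G} {M}, S' = S → IsMorPred S M → IsMorPred S' M := fun e k => e ▸ k
  obtain ⟨Z, hZ⟩ := exists_fs_of_isMorPred (tr hT (isMorPred_kMor F (le_top : zpowers z ≤ ⊤) ⊥))
  refine ⟨Z, kNorm_saturated h.twoT h.sat h.fc_z (by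
    rw [inf_bot_eq, inf_bot_eq]; exact sylIn_self IsPGroup.of_bot) hT hZ,
    stronglyClosed_iff.2 ⟨le_top, fun P f hf x hx hR => ?_⟩, fun P f hf => ((hZ P f).1 hf).mor, fun P f hf hz => ?_,
    fun P f hf hz e => (hZ P f).2 (kMor_bot_iff.2 (cMor_of hf (zpowers_le.2 hz) le_rfl
      (by rw [centIn_zpowers, h.Cn_z]; exact le_top) ?_))⟩
  · obtain ⟨-, g, hg, e, e'⟩ := kMor_bot_iff.1 ((hZ P f).1 hf)
    exact e x hx ▸ (h.mem_R_of_fix hg (mem_sup_right (mem_zpowers z)) (e' z (mem_zpowers z)) (mem_sup_left hx)).2 hR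
  · obtain ⟨-, g, hg, e, e'⟩ := kMor_bot_iff.1 ((hZ P f).1 hf)
    exact (e z hz).symm.trans (e' z (mem_zpowers z))
  · rintro _ ⟨n, rfl⟩
    exact (hf.hom.map_zpow hz n).trans (by rw [e])

theorem lift_z (hf : Mor F P f) (hz : z ∈ P) (e : f z = z) :
    ∃ g, Mor F (P ⊔ R) g ∧ ∀ x ∈ P, (g x)⁻¹ * f x ∈ R := by
  obtain ⟨Z, h1, h2, h3, -, h4⟩ := h.exists_Fz
  obtain ⟨g, hg, e'⟩ := (h4 P f hf hz e).exists_lift_mod h.twoT h1 h2
  exact ⟨g, h3 _ _ hg, e'⟩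

theorem foc_z (hf : Mor F P f) (hz : z ∈ P) (e : f z = z) {x : G} (hx : x ∈ P) :
    x⁻¹ * f x ∈ R ⊔ TT R := by
  obtain ⟨g, hg, e'⟩ := h.lift_z hf hz e
  simpa [mul_assoc] using mul_mem (h.out_comm hg.hom hg.injOn le_sup_right
    (fun r hr => h.mem_R_of_le hg le_sup_right hr) (mem_sup_left hx)) (mem_sup_left (e' x hx))

theorem gen {E : FusionSystem (⊤ : Subgroup G)} (hz : FzLe F z E)
    (hψ : ∀ x, x ≠ z → Cj F x z → ∃ ψ, Mor F (Cn x) ψ ∧ Mor E (Cn x) ψ ∧ ψ x = z) : F ≤ E := by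
  refine le_iff_mor.2 (isSubsystemOf_iff.1 (alperin_sub_cr h.twoT h.sat fun P hP _ _ α hα => ?_))
  have hα' := (mem_autGroup le_top).1 hα
  have hzP : z ∈ P := centric_centralizerIn_le hP (mem_centralizerIn'.2 ⟨mem_top z, fun x _ => h.z_comm x⟩)
  by_cases e : extAut α z = z
  · exact hz _ _ hα' hzP e
  obtain ⟨ψ, h1, h2, h3⟩ := hψ _ e (cj_of_mor hα' hzP).symm
  have hm : ∀ v ∈ P, extAut α v ∈ Cn (extAut α z) := fun v hv => (mor_Cn hα' hzP hv).2 (h.Cn_z.ge (mem_top v))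
  obtain ⟨g, hg, e', -⟩ := h2.exists_inv
  exact ((hz _ _ (hα'.comp' h1 hm) hzP h3).comp' hg fun v hv => mem_img_of_mem ψ (hm v hv)).congr
    fun v hv => e' _ (hm v hv)

theorem gen_ext {E : FusionSystem (⊤ : Subgroup G)} (hz : FzLe F z E)
    (hψ : ∀ x, Ext F z x → ∃ ψ, Mor F (Cn x) ψ ∧ Mor E (Cn x) ψ ∧ ψ x = z) : F ≤ E := by
  refine h.gen hz fun x hne hc => ?_
  obtain ⟨ρ, hρ, e, hx⟩ := h.exists_ext hne hc
  obtain ⟨ψ, h1, h2, h3⟩ := hψ _ hx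
  have hm : ∀ v ∈ Cn x, ρ v ∈ Cn (ρ x) := fun v hv => (mor_Cn hρ (self_mem_Cn x) hv).2 hv
  exact ⟨_, hρ.comp' h1 hm, (hz _ _ hρ (h.z_mem_Cn x) e).comp' h2 hm, h3⟩

end Hyp

end CfsgLib.WQ
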