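import Mathlib
import Cfsg.Agent.Lib.WQ.CA1
import Cfsg.Agent.Lib.WQ.Gen

/-! Package CA2: in case A, `F` is generated by `C_F(z)` and `θ`. See `plans/WQ.md`. -/

set_option autoImplicit false
set_option linter.unusedSectionVars false
set_option Elab.async false

namespace CfsgLib.WQ

open Subgroup Cfsg CfsgLib.Fusion CfsgLib.TwoGrp CfsgLib.QDFus

universe u

variable {G : Type u} [Group G] [Finite G]
variable {F : FusionSystem (⊤ : Subgroup G)} {R : Subgroup G} {j : ℕ} {a b i z x c : G}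
  {θ : MulAut (Cn x)}

/-- `w` is moved to `z` by a map of `F` and `E` defined on its centralizer. -/
def Good2 (F E : FusionSystem (⊤ : Subgroup G)) (z w : G) : Prop :=
  ∃ ψ, Mor F (Cn w) ψ ∧ Mor E (Cn w) ψ ∧ ψ w = z

theorem Good2.of_mor {E : FusionSystem (⊤ : Subgroup G)} {P : Subgroup G} {σ : G → G} {w : G} (h1 : Mor F P σ)
    (h2 : Mor E P σ) (hP : Cn w ≤ P) (h : Good2 F E z (σ w)) : Good2 F E z w := by
  obtain ⟨ψ, k1, k2, e⟩ := h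
  have hm : ∀ v ∈ Cn w, σ v ∈ Cn (σ w) := fun v hv => (mor_Cn h1 (hP (self_mem_Cn w)) (hP hv)).2 hv
  exact ⟨_, (h1.mono hP).comp' k1 hm, (h2.mono hP).comp' k2 hm, e⟩

theorem not_dvd_odd2 {n : ℤ} (h : (2 ^ (j + 3) : ℤ) ∣ n) (ho : Odd n) : False :=
  Int.not_even_iff_odd.2 ho (even_iff_two_dvd.2 ((dvd_pow_self 2 (by omega)).trans h))

namespace CA

variable (h : CA F R j a b i z x c θ) {w : G}
include h

theorem aA2 : a ∈ AA a c := mem_sup_left (mem_zpowers a)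

theorem tyC_mem (hw : w * w = 1) (hC : TyC R z w) : w ∈ Cn x := by
  refine (h.mem_or w).resolve_right fun hg => ?_
  obtain ⟨h1, m, hm, h2⟩ := h.hyp.tyC_act hw hC
  have h3 : b⁻¹ * a * b = a⁻¹ := by
    have := h.hyp.b_zpow (-1)
    rw [neg_neg, zpow_one, zpow_neg_one] at this
    conv_lhs => rw [← this]
    group
  have h4 : w * b⁻¹ * a = a * (w * b⁻¹) := by
    calc _ = w * (b⁻¹ * a * b) * w⁻¹ * (w * b⁻¹) := by group
      _ = (w * a * w⁻¹)⁻¹ * (w * b⁻¹) := by rw [h3]; group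
      _ = _ := by rw [h1, inv_inv]
  obtain ⟨u, v, e⟩ := h.mem_A.1 (h.cent_A h4 (h.cent_of_a hg h4 c (mem_sup_right (mem_zpowers c))))
  obtain rfl : w = a ^ u * c ^ v * b := by rw [← e, inv_mul_cancel_right]
  have h5 := h.A_act_b u v
  rw [show a ^ u * c ^ v * b * (a ^ u * c ^ v)⁻¹ = a ^ u * c ^ v * b * b * (a ^ u * c ^ v * b)⁻¹ by group, h2,
    mul_left_inj, h.hyp.a_zpow_eq] at h5
  have h6 : a ^ u * c ^ v * (b * (a ^ u * c ^ v) * b⁻¹) * (a ^ (2 ^ (j + 2) : ℤ) * c ^ (0 : ℤ)) = 1 := by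
    rw [← hw, zpow_zero, mul_one, show a ^ (2 ^ (j + 2) : ℤ) = b * b by rw [h.hyp.bb, h.hyp.hz]; norm_cast]
    group
  rw [h.b_act_A, h.mul_eq, h.mul_eq, h.ind] at h6
  refine not_dvd_odd2 (h5.sub h6.1) ?_
  obtain ⟨k, rfl⟩ := hm
  exact ⟨k - u - 2 ^ (j + 1), by ring⟩

theorem b_conj_C (hw : w * w = 1) {m : ℤ} (h2 : w * b * w⁻¹ = a ^ m * b) (h1 : w * a * w⁻¹ = a⁻¹) :
    b * w * b⁻¹ = w * a ^ m := by
  have e : w⁻¹ = w := inv_eq_of_mul_eq_one_right hw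
  calc _ = w⁻¹ * (w * b * w⁻¹) * b⁻¹ := by rw [mul_assoc w, inv_mul_cancel_left, e]
    _ = _ := by rw [h2, e]; group

theorem tyC_Cn_le (hw : w * w = 1) (hC : TyC R z w) : Cn w ≤ Cn x := by
  intro g hg
  refine (h.mem_or g).resolve_right fun hgb => ?_
  have hwx := h.tyC_mem hw hC
  obtain ⟨h1, m, hm, h2⟩ := h.hyp.tyC_act hw hC
  obtain ⟨α, hα, e0⟩ := h.exists_fix hwx
  obtain ⟨β, hβ, e1⟩ := h.exists_fix hgb
  have m0 := mul_mem hwx (h.A_le hα)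
  have m1 := mul_mem hgb (h.A_le hβ)
  have hθ := h.th.mor
  have h3 := h.th_fix (h.comm_mem m1 m0) (by
    rw [hθ.map_mul (mul_mem (mul_mem m1 m0) (inv_mem m1)) (inv_mem m0), hθ.map_conj m1 m0, hθ.map_inv m0, e0, e1])
  obtain ⟨l, hl, h4⟩ := h.scalar m1
  have h5 := h4 _ (mul_mem (mul_mem (mul_mem (inv_mem hα) hβ) (zpow_mem h.aA2 m)) hβ)
  have h6 : β⁻¹ * w = w * β := by
    rw [← h.inv_of_a hwx h1 β hβ, mul_assoc, inv_mul_cancel, mul_one]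
  have h7 : α⁻¹ = (α⁻¹ * β * a ^ m * β) ^ l := by
    rw [← h5]
    apply mul_left_cancel (a := w * α)
    calc w * α * α⁻¹ = g * w * g⁻¹ := by rw [mem_Cn.1 hg]; group
      _ = g * b⁻¹ * β * (β⁻¹ * (b * w * b⁻¹) * β) * (g * b⁻¹ * β)⁻¹ := by group
      _ = g * b⁻¹ * β * (w * α) * (g * b⁻¹ * β)⁻¹ * (w * α)⁻¹ * (w * α) *
          (g * b⁻¹ * β * (α⁻¹ * β * a ^ m * β) * (g * b⁻¹ * β)⁻¹) := by
        rw [h.b_conj_C hw h2 h1, ← mul_assoc β⁻¹, h6]; group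
      _ = _ := by rw [h3, one_mul]
  obtain ⟨u, v, e2⟩ := h.mem_A.1 (inv_mem hα)
  obtain ⟨p, q, rfl⟩ := h.mem_A.1 hβ
  rw [e2, show a ^ m = a ^ m * c ^ (0 : ℤ) by rw [zpow_zero, mul_one], h.mul_eq, h.mul_eq, h.mul_eq, h.zpow_eq,
    h.eq_iff] at h7
  refine not_dvd_odd2 h7.1 ?_
  obtain ⟨k, rfl⟩ := hm
  obtain ⟨n, rfl⟩ := hl
  exact ⟨-(u * n) - (p + k) * (2 * n + 1) - n - 1, by ring⟩

theorem act_mul {w₀ : G} {μ : ℤ} (h1 : w₀ * a * w₀⁻¹ = a⁻¹) (h2 : w₀ * b * w₀⁻¹ = a ^ μ * b) (u v : ℤ) :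
    w₀ * (a ^ u * c ^ v) * b * (w₀ * (a ^ u * c ^ v))⁻¹ = a ^ (μ - (2 * u + v)) * b := by
  calc _ = w₀ * (a ^ u * c ^ v * b * (a ^ u * c ^ v)⁻¹) * w₀⁻¹ := by group
    _ = (w₀ * a * w₀⁻¹) ^ (2 * u + v) * (w₀ * b * w₀⁻¹) := by rw [h.A_act_b, conj_zpow]; group
    _ = _ := by rw [h1, h2]; group

theorem act_mul_a {w₀ α : G} (hα : α ∈ AA a c) : w₀ * α * a * (w₀ * α)⁻¹ = w₀ * a * w₀⁻¹ := by
  rw [mul_assoc w₀, h.A_comm hα h.aA2]; group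

theorem gen {E : FusionSystem (⊤ : Subgroup G)} (hz : FzLe F z E) (hθ : Mor E (Cn x) (extAut θ)) :
    F ≤ E := by
  have hF := h.th.mor
  have g1 : Good2 F E z (x * z) := by
    rw [Good2, h.hyp.Cn_mul_z]
    exact ⟨_, hF, hθ, h.hyp.th_xz h.ext.cj h.th⟩
  have gA : ∀ w, Ext F z w → TyA a b z w → Good2 F E z w := fun w hw hA => by
    rcases h.uniq hw hA with rfl | rfl
    · exact Good2.of_mor hF hθ le_rfl (h.th.hx ▸ g1)
    · exact g1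
  have gC : ∀ w, Cj F w z → TyC R z w → ∀ w₀ ∈ Cn x, extAut θ w₀ = w₀ → ∀ u v : ℤ, w = w₀ * (a ^ u * c ^ v) → Odd u →
      Good2 F E z w := fun w hc hC w₀ h0 e0 u v e hu => by
    have hw := h.hyp.cj_sq hc
    obtain ⟨h1, m, hm, h2⟩ := h.hyp.tyC_act hw hC
    have hA : ∀ u v : ℤ, a ^ u * c ^ v ∈ AA a c := fun u v => h.mem_A.2 ⟨u, v, rfl⟩
    obtain ⟨-, μ, -, -, h3⟩ := h.hyp.act w₀
    rw [e, h.act_mul_a (hA u v)] at h1
    rw [e, h.act_mul h1 h3, mul_left_inj, h.hyp.a_zpow_eq] at h2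
    have h4 : extAut θ w = w₀ * (a ^ v * c ^ (-u - v)) := by rw [e, hF.map_mul h0 (h.A_le (hA u v)), e0, h.th_A]
    have h5 : extAut θ w * a * (extAut θ w)⁻¹ = a⁻¹ := by rw [h4, h.act_mul_a (hA _ _), h1]
    obtain ⟨n, hn⟩ : Even (μ - (2 * v + (-u - v))) := by
      obtain ⟨k, rfl⟩ := hm
      obtain ⟨l, rfl⟩ := hu
      obtain ⟨t, ht⟩ := (dvd_pow_self 2 (by omega : j + 3 ≠ 0)).trans h2
      exact ⟨t + k + 3 * l + 2, by linear_combination ht⟩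
    obtain ⟨r, hr, h6, h7⟩ := h.hyp.not_tyC_of_act h5 (m := n) (by rw [h4, h.act_mul h1 h3, hn, two_mul])
    refine Good2.of_mor hF hθ (h.tyC_Cn_le hw hC) ?_
    have hc' := (cj_of_mor hF (h.tyC_mem hw hC)).symm.trans hc
    obtain ⟨ρ, hρ, e1, hx⟩ := h.hyp.exists_ext (fun e => h.hyp.i_ne_inv (by
      rw [e, ← h.hyp.z_comm, mul_inv_cancel_right] at h5
      rw [h.hyp.hi, ← inv_pow, ← h5])) hc'
    have z1 := h.hyp.z_mem_Cn (extAut θ w)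
    have r1 : r ∈ Cn (extAut θ w) := mem_Cn.2 h6.symm
    refine Good2.of_mor hρ (hz _ _ hρ z1 e1) le_rfl (gA _ hx ((h.hyp.pair hx).resolve_right fun hC' => ?_))
    have h8 : ρ r * ρ r = z := by rw [← hρ.map_mul r1 r1, h7, e1]
    rcases hC' _ ((h.hyp.mem_R_of_fix hρ z1 e1 r1).2 hr) (mem_Cn.1 ((mor_Cn hρ (self_mem_Cn _) r1).2 r1)).symm with e | e
    · exact h.hyp.z_ne (by rw [← h8, e, one_mul])
    · exact h.hyp.z_ne (by rw [← h8, e, h.hyp.zz])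
  refine h.hyp.gen_ext hz fun w hw => (h.hyp.pair hw).elim (gA w hw) fun hC => ?_
  have hw2 := h.hyp.cj_sq hw.cj
  have hwx := h.tyC_mem hw2 hC
  obtain ⟨α, hα, e0⟩ := h.exists_fix hwx
  obtain ⟨u, v, e⟩ := h.mem_A.1 (inv_mem hα)
  have m0 := mul_mem hwx (h.A_le hα)
  rcases Int.even_or_odd u with hu | hu
  · obtain ⟨h1, m, hm, h2⟩ := h.hyp.tyC_act hw2 hC
    refine Good2.of_mor (Mor.conj F le_rfl (mem_top b)) (Mor.conj E le_rfl (mem_top b)) le_top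
      (gC _ ((cj_conj F b w).symm.trans hw.cj) (h.hyp.tyC_conj hC b) _ m0 e0 (u + m) (v + 0) ?_ (hu.add_odd hm))
    rw [h.b_conj_C hw2 h2 h1, ← h.mul_eq, ← e]
    group
  · exact gC w hw.cj hC _ m0 e0 u v (by rw [← e, mul_inv_cancel_right]) hu

theorem top : R ⊔ TT R ⊔ zpowers c = ⊤ := by
  obtain ⟨E, hE⟩ := exists_focSys F (N := R ⊔ TT R ⊔ zpowers c) fun s x => mem_sup_left (h.hyp.conj_mem_RT s x)
  exact h.hyp.eq_top_of_le (fun P f hf => ((hE P f).1 hf).2) (h.gen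
    (fun P f hf hz e => (hE P f).2 ⟨hf, fun _ hx => mem_sup_left (h.hyp.foc_z hf hz e hx)⟩)
    ((hE _ _).2 ⟨h.th.mor, fun _ hg => sup_le_sup_right ((zpowers_le.2 h.hyp.a_mem).trans le_sup_left) _ (h.th_mod hg)⟩))

end CA

end CfsgLib.WQ
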