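import Mathlib
import Cfsg.Agent.Lib.WQ.CA2

/-! Package CA3: in case A, `G` is wreathed or of type `G₂`. See `plans/WQ.md`. -/

set_option autoImplicit false
set_option linter.unusedSectionVars false

namespace CfsgLib.WQ

open Subgroup Cfsg CfsgLib.Fusion CfsgLib.TwoGrp CfsgLib.QDFus

universe u

variable {G : Type u} [Group G] [Finite G]
variable {F : FusionSystem (⊤ : Subgroup G)} {R : Subgroup G} {j : ℕ} {a b i z x c : G}
  {θ : MulAut (Cn x)}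

namespace CA

variable (h : CA F R j a b i z x c θ)
include h

theorem acA (u v : ℤ) : a ^ u * c ^ v ∈ AA a c := h.mem_A.2 ⟨u, v, rfl⟩

theorem x_eq : x = a ^ (0 : ℤ) * c ^ (2 ^ (j + 2) : ℤ) := by
  rw [zpow_zero, one_mul, ← h.cx, ← zpow_natCast]; norm_cast

theorem z_eq : z = a ^ (2 ^ (j + 2) : ℤ) * c ^ (0 : ℤ) := by
  rw [zpow_zero, mul_one, h.hyp.hz, ← zpow_natCast]; norm_cast

theorem xA : x ∈ AA a c := h.x_eq ▸ h.acA _ _

theorem zA : z ∈ AA a c := h.z_eq ▸ h.acA _ _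

theorem TA {g : G} (hT : g ∈ TT R) (hg : g ∈ Cn x) : g ∈ AA a c :=
  zpowers_le.2 (mul_mem (mul_mem h.cA h.cA) (inv_mem h.aA)) (h.CT hT hg)

theorem R_le {H : Subgroup G} (ha : a ∈ H) (hb : b ∈ H) : R ≤ H := fun r hr => by
  obtain ⟨n, rfl | rfl⟩ := (h.hyp.quat.mem r).1 hr
  exacts [zpow_mem ha n, mul_mem (zpow_mem ha n) hb]

theorem inv_eq (u v : ℤ) : (a ^ u * c ^ v)⁻¹ = a ^ (-u) * c ^ (-v) := by
  rw [← zpow_neg_one, h.zpow_eq, mul_neg_one, mul_neg_one]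

theorem A_or (hT : TT R ≤ Cn x) (g : G) : g ∈ AA a c ∨ g * b⁻¹ ∈ AA a c := by
  have := h.A_normal
  have h1 : g ∈ AA a c ⊔ zpowers b := by
    refine (show (⊤ : Subgroup G) ≤ _ from ?_) (mem_top g)
    rw [← h.top]
    exact sup_le (sup_le (h.R_le (mem_sup_left h.aA) (mem_sup_right (mem_zpowers b)))
      fun t ht => mem_sup_left (h.TA ht (hT ht))) (le_sup_right.trans le_sup_left)
  obtain ⟨α, hα, _, ⟨n, rfl⟩, rfl⟩ := mem_sup_of_normal_left.1 h1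
  have h2 : ∀ m : ℤ, b ^ (2 * m) ∈ AA a c := fun m => by
    rw [zpow_mul, zpow_two, h.hyp.toQd.bb]; exact zpow_mem h.zA m
  rcases Int.even_or_odd' n with ⟨m, rfl | rfl⟩
  · exact .inl (mul_mem hα (h2 m))
  · refine .inr ?_
    rw [show α * b ^ (2 * m + 1) * b⁻¹ = α * b ^ (2 * m) by group]
    exact mul_mem hα (h2 m)

theorem wr (hT : TT R ≤ Cn x) : IsWr (⊤ : Subgroup G) (2 ^ (j + 1)) c (c * a⁻¹) (b * x) := by
  have e : ∀ u v : ℤ, wu c (c * a⁻¹) u v = a ^ (-v) * c ^ (u + v) := fun u v => by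
    have h1 : c * a⁻¹ = a ^ (-1 : ℤ) * c ^ (1 : ℤ) := by
      rw [zpow_neg_one, zpow_one]; exact h.A_comm h.cA (inv_mem h.aA)
    have h2 := h.mul_eq 0 u (-1 * v) (1 * v)
    rw [zpow_zero, one_mul] at h2
    rw [wu, h1, h.zpow_eq, h2]
    congr 2 <;> ring
  have e' : ∀ α ∈ AA a c, ∃ u v : ℤ, α = wu c (c * a⁻¹) u v := fun α hα => by
    obtain ⟨u, v, rfl⟩ := h.mem_A.1 hα
    exact ⟨v + u, -u, by rw [e]; congr 2 <;> ring⟩
  have hb := h.hyp.toQd.tyA_b h.tyA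
  refine ⟨⟨_, rfl⟩, by rw [h.ord]; ring, h.A_comm h.cA (mul_mem h.cA (inv_mem h.aA)), ?_, ?_, ?_,
    fun g => ⟨fun _ => ?_, fun _ => mem_top g⟩⟩
  · rw [eq_bot_iff]
    rintro _ ⟨⟨u, rfl⟩, ⟨v, hv⟩⟩
    have h1 := e 0 v
    have h2 := e u 0
    simp only [wu, zpow_zero, one_mul, mul_one] at h1 h2 hv
    have h3 := (h.eq_iff (u := -v) (v := 0 + v) (u' := -0) (v' := u + 0)).1 (by rw [← h1, ← h2, hv])
    rw [mem_bot]
    change c ^ u = 1
    rw [← hv, h1, h.ind]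
    exact ⟨by simpa using h3.1, by simpa using h3.1⟩
  · calc b * x * (b * x) = b * x * b⁻¹ * (b * b) * x := by group
      _ = 1 := by rw [hb, h.hyp.toQd.bb, mul_assoc x, h.hyp.toQd.zz, mul_one, h.xx]
  · rw [← h.bc, mul_assoc b, h.A_comm h.xA h.cA]; group
  · rcases h.A_or hT g with h1 | h1
    · obtain ⟨u, v, e1⟩ := e' _ h1
      exact ⟨u, v, .inl e1⟩
    · have h2 : g * (b * x)⁻¹ ∈ AA a c := by
        rw [show g * (b * x)⁻¹ = g * b⁻¹ * (b * x * b⁻¹)⁻¹ by group, hb]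
        exact mul_mem h1 (inv_mem (mul_mem h.xA h.zA))
      obtain ⟨u, v, e1⟩ := e' _ h2
      exact ⟨u, v, .inr (by rw [← e1, inv_mul_cancel_right])⟩

theorem T_comm (hT : TT R ≤ Cn x) : ∀ t ∈ TT R, ∀ t' ∈ TT R, t * t' = t' * t :=
  fun _ ht _ ht' => h.A_comm (h.TA ht (hT ht)) (h.TA ht' (hT ht'))

/-- An involution `d` fixed by `θ` and an involution `s₁` that swaps. -/
theorem exists_ds (hT : ¬ TT R ≤ Cn x) : ∃ d s : G, d ∈ Cn x ∧ extAut θ d = d ∧ d * d = 1 ∧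
    s * s = 1 ∧ (∀ α ∈ AA a c, d * α * d⁻¹ = α⁻¹) ∧
    (∀ u v : ℤ, s * (a ^ u * c ^ v) * s⁻¹ = a ^ (u + v) * c ^ (-v)) ∧ d * s * b⁻¹ ∈ AA a c ∧
    ∀ t ∈ TT R, t ∈ AA a c ∨ t * s⁻¹ ∈ AA a c := by
  obtain ⟨b', hb', hn⟩ := SetLike.not_le_iff_exists.1 hT
  have q := h.hyp.toQd
  obtain ⟨ba, bb⟩ := q.memT_iff.1 hb'
  have hw := (h.mem_or b').resolve_left hn
  set w := b' * b⁻¹ with ew
  have iw := h.inv_of_a hw (by
    have h1 : b⁻¹ * a * b = a⁻¹ := by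
      have := q.b_zpow (-1)
      rw [neg_neg, zpow_one, zpow_neg_one] at this
      calc b⁻¹ * a * b = b⁻¹ * (b * a⁻¹ * b⁻¹) * b := by rw [this]
        _ = _ := by group
    calc w * a * w⁻¹ = b' * (b⁻¹ * a * b) * b'⁻¹ := by rw [ew]; group
      _ = (b' * a * b'⁻¹)⁻¹ := by rw [h1]; group
      _ = a⁻¹ := by rw [ba, mul_inv_cancel_right])
  obtain ⟨α₀, hα₀, hd⟩ := h.exists_fix hw
  have hdC := mul_mem hw (h.A_le hα₀)
  have id : ∀ α ∈ AA a c, w * α₀ * α * (w * α₀)⁻¹ = α⁻¹ := fun α hα => by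
    rw [← iw α hα, mul_assoc w, h.A_comm hα₀ hα]; group
  have cd : ∀ α ∈ AA a c, w * α₀ * (w * α₀) * α = α * (w * α₀ * (w * α₀)) := fun α hα => by
    have h1 := id _ (inv_mem hα)
    rw [inv_inv, ← id α hα] at h1
    calc _ = w * α₀ * (w * α₀ * α * (w * α₀)⁻¹) * (w * α₀)⁻¹ * (w * α₀ * (w * α₀)) := by group
      _ = _ := by rw [h1]
  have dd : w * α₀ * (w * α₀) = 1 := h.th_fix (h.cent_A (cd _ h.aA) (cd _ h.cA))
    (by rw [h.th.mor.map_mul hdC hdC, hd])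
  have ww : w * w = 1 := by
    have h1 := iw _ hα₀
    calc w * w = (w * α₀ * w⁻¹)⁻¹ * (w * α₀ * (w * α₀)) * α₀⁻¹ := by group
      _ = 1 := by rw [h1, dd]; group
  have b2 : b' * b' = z := by
    have h1 : b⁻¹ * b' = b' * b⁻¹ := by rw [inv_mul_eq_iff_eq_mul, ← mul_assoc, ← bb]; group
    rw [← q.bb, ← mul_inv_eq_one, ← ww, ew, mul_assoc b' b⁻¹, ← mul_assoc b⁻¹, h1]; group
  have ab : ∀ u v : ℤ, b' * (a ^ u * c ^ v) * b'⁻¹ = a ^ (u + v) * c ^ (-v) := fun u v => by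
    calc b' * (a ^ u * c ^ v) * b'⁻¹ = w * (b * (a ^ u * c ^ v) * b⁻¹) * w⁻¹ := by rw [ew]; group
      _ = _ := by rw [h.b_act_A, iw _ (h.acA _ _), h.inv_eq]; congr 2; ring
  have bx : b' * x * b'⁻¹ = x * z := by
    rcases h.norm b' with e | e
    · exact absurd (mem_Cn.2 (mul_inv_eq_iff_eq_mul.1 e)) hn
    · exact e
  refine ⟨w * α₀, b' * x, hdC, hd, dd, ?_, id, fun u v => ?_, ?_, fun t ht => ?_⟩
  · calc b' * x * (b' * x) = b' * x * b'⁻¹ * (b' * b') * x := by group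
      _ = 1 := by rw [bx, b2, mul_assoc x, q.zz, mul_one, h.xx]
  · rw [← ab, mul_assoc b' x, h.A_comm h.xA (h.acA u v)]; group
  · have : w * α₀ * (b' * x) * b⁻¹ = w * (α₀ * (b' * x * b'⁻¹)) * w⁻¹ * (w * w) := by rw [ew]; group
    rw [this, ww, mul_one, bx]
    exact h.A_normal.conj_mem _ (mul_mem hα₀ (mul_mem h.xA h.zA)) w
  · rcases h.mem_or t with h1 | h1
    · exact .inl (h.TA ht h1)
    · have h2 : t * b'⁻¹ ∈ Cn x := by
        have := mul_mem h1 (inv_mem hw)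
        rwa [ew, show t * b⁻¹ * (b' * b⁻¹)⁻¹ = t * b'⁻¹ by group] at this
      refine .inr ?_
      rw [show t * (b' * x)⁻¹ = t * b'⁻¹ * (b' * x * b'⁻¹)⁻¹ by group, bx]
      exact mul_mem (h.TA (mul_mem ht (inv_mem hb')) h2) (inv_mem (mul_mem h.xA h.zA))

/-- The two involutions can be chosen to commute. -/
theorem exists_comm {d s : G} (hd : d ∈ Cn x) (td : extAut θ d = d) (ss : s * s = 1)
    (id : ∀ α ∈ AA a c, d * α * d⁻¹ = α⁻¹)
    (as : ∀ u v : ℤ, s * (a ^ u * c ^ v) * s⁻¹ = a ^ (u + v) * c ^ (-v)) :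
    ∃ β ∈ AA a c, β * s * (β * s) = 1 ∧ β * s * d = d * (β * s) := by
  have hn := h.A_normal
  have hC := h.C_normal
  have id' : ∀ α ∈ AA a c, α * d = d * α⁻¹ := fun α hα => by
    have := id _ (inv_mem hα)
    rw [inv_inv] at this
    calc α * d = d * α⁻¹ * d⁻¹ * d := by rw [this]
      _ = _ := by group
  have c1 : ∀ α ∈ AA a c, d⁻¹ * (s * d * s⁻¹) * α = α * (d⁻¹ * (s * d * s⁻¹)) := fun α hα => by
    have h1 := id _ (hn.conj_mem' α hα s)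
    have h2 := id _ hα
    calc d⁻¹ * (s * d * s⁻¹) * α = d⁻¹ * s * (d * (s⁻¹ * α * s) * d⁻¹) * d * s⁻¹ := by group
      _ = d⁻¹ * α⁻¹ * d * (d⁻¹ * (s * d * s⁻¹)) := by rw [h1]; group
      _ = _ := by rw [← h2]; group
  obtain ⟨u, v, e⟩ := h.mem_A.1 (h.cent_A (c1 _ h.aA) (c1 _ h.cA))
  have e1 : s * d * s⁻¹ = d * (a ^ u * c ^ v) := by rw [← e]; group
  have e2 : (2 ^ (j + 3) : ℤ) ∣ u + (u + v) := by
    have h1 : d * (a ^ u * c ^ v * (s * (a ^ u * c ^ v) * s⁻¹)) = d * 1 := by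
      calc _ = s * d * s⁻¹ * (s * (a ^ u * c ^ v) * s⁻¹) := by rw [e1, mul_assoc d]
        _ = s * (d * (a ^ u * c ^ v)) * s⁻¹ := by group
        _ = s * (s * d * s⁻¹) * s⁻¹ := by rw [e1]
        _ = s * s * d * (s * s)⁻¹ := by group
        _ = _ := by rw [ss]; group
    have h2 := mul_left_cancel h1
    rw [as, h.mul_eq, h.ind] at h2
    exact h2.1
  have m1 : Mor F (Cn x) fun g => s * extAut θ g * s⁻¹ := h.th.mor.conj_left (mem_top s)
  have m2 := m1.comp' m1 fun g hg => hC.conj_mem _ (extAut_mem θ hg) s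
  obtain ⟨β, hβ, eβ⟩ := h.A_fix m2 fun α hα => by
    obtain ⟨p, q, rfl⟩ := h.mem_A.1 hα
    simp only [h.th_A, as]
    congr 2 <;> ring
  obtain ⟨p, q, rfl⟩ := h.mem_A.1 hβ
  have e3 := eβ d hd
  simp only [td, e1, h.th.mor.map_mul hd (h.A_le (h.acA u v)), h.th_A] at e3
  rw [id' _ hβ, show s * (d * (a ^ v * c ^ (-u - v))) * s⁻¹ =
    s * d * s⁻¹ * (s * (a ^ v * c ^ (-u - v)) * s⁻¹) by group, e1, as, mul_assoc d, mul_assoc d,
    h.inv_eq, h.mul_eq, h.mul_eq] at e3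
  obtain ⟨k, hk⟩ := (h.eq_iff.1 (mul_left_cancel e3)).2
  obtain ⟨l, rfl⟩ : ∃ l, u = 2 * l := ⟨2 ^ (j + 2) * k - v - q, by linear_combination hk⟩
  have hl := h.acA l (-2 * l)
  refine ⟨_, hl, ?_, ?_⟩
  · calc _ = a ^ l * c ^ (-2 * l) * (s * (a ^ l * c ^ (-2 * l)) * s⁻¹) * (s * s) := by group
      _ = 1 := by
        rw [ss, mul_one, as, h.mul_eq, h.ind]
        exact ⟨⟨0, by ring⟩, ⟨0, by ring⟩⟩
  · have h1 : (a ^ l * c ^ (-2 * l))⁻¹ * (a ^ (2 * l) * c ^ v) = a ^ l * c ^ (-2 * l) := by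
      rw [h.inv_eq, h.mul_eq, h.eq_iff]
      exact ⟨⟨0, by ring⟩, by convert e2 using 1; ring⟩
    calc _ = a ^ l * c ^ (-2 * l) * (s * d * s⁻¹) * s := by group
      _ = _ := by rw [e1, ← mul_assoc _ d, id' _ hl, mul_assoc d, h1, mul_assoc]

theorem g2 (hT : ¬ TT R ≤ Cn x) : ∃ s d, G2T F R j c (a * c⁻¹) s d := by
  obtain ⟨d, s₁, hd, td, dd, ss₁, id, as₁, hb₁, hT₁⟩ := h.exists_ds hT
  obtain ⟨β, hβ, ss, sd⟩ := h.exists_comm hd td ss₁ id as₁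
  have q := h.hyp.toQd
  have hn := h.A_normal
  have as : ∀ u v : ℤ, β * s₁ * (a ^ u * c ^ v) * (β * s₁)⁻¹ = a ^ (u + v) * c ^ (-v) := fun u v => by
    calc _ = β * (s₁ * (a ^ u * c ^ v) * s₁⁻¹) * β⁻¹ := by group
      _ = _ := by rw [as₁, h.A_comm hβ (h.acA _ _), mul_inv_cancel_right]
  have hb : d * (β * s₁) * b⁻¹ ∈ AA a c := by
    rw [show d * (β * s₁) * b⁻¹ = d * β * d⁻¹ * (d * s₁ * b⁻¹) by group]
    exact mul_mem (hn.conj_mem _ hβ d) hb₁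
  have hT₂ : ∀ t ∈ TT R, t ∈ AA a c ∨ t * (β * s₁)⁻¹ ∈ AA a c := fun t ht =>
    (hT₁ t ht).imp_right fun e => by rw [mul_inv_rev, ← mul_assoc]; exact mul_mem e (inv_mem hβ)
  generalize β * s₁ = s at ss sd as hb hT₂
  have ea : c * (a * c⁻¹) = a := by rw [← mul_assoc, h.ca, mul_inv_cancel_right]
  have ey : a * c⁻¹ = a ^ (1 : ℤ) * c ^ (-1 : ℤ) := by rw [zpow_one, zpow_neg_one]
  refine ⟨s, d, ⟨h.A_comm h.cA (mul_mem h.aA (inv_mem h.cA)), fun u v => ?_, ss, dd, sd, ?_, ?_, ?_⟩,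
    ?_, extAut θ, h.th.mor.mono ?_, h.th_c, ?_, td⟩
  · have h2 := h.mul_eq 0 u (1 * v) (-1 * v)
    rw [zpow_zero, one_mul] at h2
    rw [ey, h.zpow_eq, h2, h.ind]
    refine ⟨fun e => ⟨?_, by simpa using e.1⟩, fun e => ⟨by simpa using e.2, ?_⟩⟩
    · exact (show 0 + 1 * v + (u + -1 * v) = u by ring) ▸ dvd_add e.1 e.2
    · exact (show u - v = u + -1 * v by ring) ▸ dvd_sub e.1 e.2
  · simpa using as 0 1
  · rw [id c h.cA, zero_sub, zpow_neg_one]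
  · set H := closure ({c, a * c⁻¹, s, d} : Set G)
    have h1 : c ∈ H := subset_closure (by simp)
    have h2 : a ∈ H := ea ▸ mul_mem h1 (subset_closure (by simp))
    have h3 : AA a c ≤ H := sup_le (zpowers_le.2 h2) (zpowers_le.2 h1)
    have h4 : s ∈ H := subset_closure (by simp)
    have h5 : d ∈ H := subset_closure (by simp)
    have h6 : b ∈ H := by simpa [mul_assoc] using mul_mem (inv_mem (h3 hb)) (mul_mem h5 h4)
    refine le_antisymm ?_ le_top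
    rw [← h.top]
    refine sup_le (sup_le (h.R_le h2 h6) fun t ht => ?_) (zpowers_le.2 h1)
    rcases hT₂ t ht with e | e
    exacts [h3 e, by simpa using mul_mem (h3 e) h4]
  · rw [ea, h.cx]
    have h1 : d * s * x * b⁻¹ ∈ AA a c := by
      rw [show d * s * x * b⁻¹ = d * s * b⁻¹ * (b * x * b⁻¹) by group]
      exact mul_mem hb (hn.conj_mem _ h.xA b)
    obtain ⟨u, v, e⟩ := h.mem_A.1 h1
    have e1 : d * s * x = a ^ u * c ^ v * b := by rw [← e]; group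
    have h2 : s * x * s⁻¹ = z * x⁻¹ := by
      nth_rewrite 1 [h.x_eq]
      rw [as, zero_add, zpow_neg, q.hz, ← h.cx, ← zpow_natCast, ← zpow_natCast]
      norm_cast
    have h3 : d * s * x * (d * s * x) = z := by
      calc _ = d * (s * x * s⁻¹) * d⁻¹ * (d * (s * d) * s) * x := by group
        _ = z := by
          rw [h2, sd, id _ (mul_mem h.zA (inv_mem h.xA)), ← mul_assoc d d, dd, one_mul, ss, mul_one,
            mul_inv_rev, inv_inv, inv_eq_of_mul_eq_one_right q.zz, q.z_comm, mul_assoc, h.xx, mul_one]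
    rw [e1, show a ^ u * c ^ v * b * (a ^ u * c ^ v * b) =
      a ^ u * c ^ v * (b * (a ^ u * c ^ v) * b⁻¹) * (b * b) by group, h.b_act_A, h.mul_eq, q.bb,
      mul_eq_right, h.ind] at h3
    have h4 : c ^ v = 1 := by
      have := (h.ind (u := 0) (v := v)).2
        ⟨dvd_zero _, (show -(u + (-u - v)) = v by ring) ▸ h3.1.neg_right⟩
      rwa [zpow_zero, one_mul] at this
    rw [e1, h4, mul_one]
    have h5 : a ∈ closure ({a, a ^ u * b} : Set G) := subset_closure (by simp)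
    refine le_antisymm (h.R_le h5 ?_) ?_
    · simpa using mul_mem (inv_mem (zpow_mem h5 u)) (subset_closure (by simp) : a ^ u * b ∈ _)
    · rw [closure_le]
      rintro _ (rfl | rfl)
      exacts [q.a_mem, mul_mem (zpow_mem q.a_mem u) q.b_mem]
  · rw [closure_le]
    rintro _ (rfl | rfl | rfl)
    exacts [h.c_mem, mul_mem h.a_mem (inv_mem h.c_mem), hd]
  · rw [ea, h.th.mor.map_mul h.a_mem (inv_mem h.c_mem), h.th.mor.map_inv h.c_mem, h.th_a, h.th_c]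
    group

end CA

end CfsgLib.WQ
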