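import Mathlib
import Cfsg.Agent.Lib.WQ.Pair
import Cfsg.Agent.Lib.WQ.Gen

/-! Package CC1: case C, the centralizer of an extremal conjugate of `z`. See `plans/WQ.md`. -/

set_option autoImplicit false
set_option linter.unusedSectionVars false

namespace CfsgLib.WQ

open Subgroup Cfsg CfsgLib.Fusion CfsgLib.TwoGrp CfsgLib.QDFus

universe u

variable {G : Type u} [Group G] [Finite G]
variable {F : FusionSystem (⊤ : Subgroup G)} {R : Subgroup G} {j : ℕ} {a b i z : G}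

namespace CC

variable (h : CC F R j a b i z) {P : Subgroup G} {f : G → G} {x g : G}
include h

theorem ns (hf : Mor F P f) (hg : g ∈ P) (h2 : g * g = z) : f z = z := by
  have hz : z ∈ P := h2 ▸ P.mul_mem hg hg
  have c := (cj_of_mor hf hz).symm
  by_contra e
  exact h.hyp.tyC_not_sq (h.hyp.cj_sq c) (h.all _ e c) ⟨f g, by rw [← h2, hf.map_mul hg hg]⟩

theorem exists_ext : ∃ x, Ext F z x := by
  obtain ⟨x, h1, h2⟩ := h.hyp.nz
  obtain ⟨ρ, -, -, h3⟩ := h.hyp.exists_ext h1 h2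
  exact ⟨_, h3⟩

theorem not_sq (hx : Ext F z x) (hg : g ∈ Cn x) : g * g ≠ z := by
  intro e
  obtain ⟨φ, hφ, e'⟩ := h.hyp.exists_phi hx.cj
  exact hx.ne (hφ.inj (self_mem_Cn x) (h.hyp.z_mem_Cn x) (e'.trans (h.ns hφ hg e).symm))

/-- `g` or `g x` centralizes `i` -/
theorem cent_i (hx : Ext F z x) (g : G) : g * i = i * g ∨ g * x * i = i * (g * x) := by
  refine (h.hyp.i_cases g).imp mul_inv_eq_iff_eq_mul.1 fun e => mul_inv_eq_iff_eq_mul.1 ?_
  calc g * x * i * (g * x)⁻¹ = g * (x * i * x⁻¹) * g⁻¹ := by group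
    _ = (g * i * g⁻¹)⁻¹ := by rw [(h.hyp.tyC_i (h.hyp.cj_sq hx.cj) (h.all _ hx.ne hx.cj)).1]; group
    _ = i := by rw [e, inv_inv]

theorem CT_invol (hx : Ext F z x) (hT : g ∈ TT R) (hg : g ∈ Cn x) (h2 : g * g = 1) : g = 1 ∨ g = z := by
  obtain ⟨θ, hθ⟩ := h.hyp.exists_theta hx
  have zx := h.hyp.z_mem_Cn x
  have key : ∀ y ∈ TT R, y ∈ Cn x → y * y = 1 → extAut θ y * i = i * extAut θ y → y = 1 := fun y yT yx y2 e => by
    by_contra y1
    obtain ⟨ρ, hρ, e'⟩ := h.hyp.h3 yT (orderOf_eq_prime (by rwa [sq]) y1) hθ.mor yx zx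
    rw [hθ.hz] at e'
    exact hx.ne (hρ.inj (mem_Cn.2 (mem_Cn.1 (extAut_mem θ yx)).symm) (h.hyp.z_mem_Cn _)
      (e'.trans (h.ns hρ (mem_Cn.2 e.symm) h.hyp.ii).symm))
  refine (h.cent_i hx (extAut θ g)).imp (key g hT hg h2) fun e => ?_
  have := key (g * z) (mul_mem hT h.hyp.z_memT) (mul_mem hg zx)
    (by rw [mul_assoc, ← mul_assoc z, ← h.hyp.z_comm, mul_assoc, h.hyp.zz, mul_one, h2])
    (by rwa [hθ.mor.map_mul hg zx, hθ.hz])
  rw [eq_inv_of_mul_eq_one_left this, inv_eq_of_mul_eq_one_right h.hyp.zz]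

theorem CT (hx : Ext F z x) (hT : g ∈ TT R) (hg : g ∈ Cn x) : g = 1 ∨ g = z := by
  by_cases h2 : g * g = 1
  · exact h.CT_invol hx hT hg h2
  obtain ⟨n, h3, h4⟩ := exists_pow_four h.hyp.two h2
  have m := (Cn x).pow_mem hg n
  have m' := (TT R).pow_mem hT n
  exact absurd ((h.CT_invol hx ((TT R).mul_mem m' m') ((Cn x).mul_mem m m) h4).resolve_left h3) (h.not_sq hx m)

theorem comm (hx : Ext F z x) {g' : G} (hg : g ∈ Cn x) (hg' : g' ∈ Cn x) : g * g' = g' * g := by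
  have key : ∀ g ∈ Cn x, ∀ g' ∈ Cn x, g * g' * g⁻¹ * g'⁻¹ = 1 ∨ g * g' * g⁻¹ * g'⁻¹ = z := fun g hg g' hg' =>
    h.CT hx (h.hyp.comm_memT_C (h.hyp.cj_sq hx.cj) (h.all _ hx.ne hx.cj) hg hg')
      (mul_mem (mul_mem (mul_mem hg hg') (inv_mem hg)) (inv_mem hg'))
  rcases key g hg g' hg' with e | e
  · rwa [mul_inv_eq_one, mul_inv_eq_iff_eq_mul] at e
  obtain ⟨θ, hθ⟩ := h.hyp.exists_theta hx
  have := key _ (extAut_mem θ hg) _ (extAut_mem θ hg')
  rw [← hθ.mor.map_conj hg hg', ← hθ.mor.map_inv hg', ← hθ.mor.map_mul (mul_mem (mul_mem hg hg') (inv_mem hg))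
    (inv_mem hg'), e, hθ.hz] at this
  exact (this.elim (h.hyp.cj_ne hx.cj) hx.ne).elim

theorem sq_U (hx : Ext F z x) (hg : g ∈ Cn x) (h2 : g * g ∈ closure ({x, z} : Set G)) : g * g = 1 := by
  obtain ⟨θ, hθ⟩ := h.hyp.exists_theta hx
  rcases (h.hyp.mem_U hx.cj).1 h2 with e | e | e | e
  · exact e
  · exact absurd e (h.not_sq hx hg)
  · exact absurd ⟨g, e.symm⟩ (h.hyp.tyC_not_sq (h.hyp.cj_sq hx.cj) (h.all _ hx.ne hx.cj))
  · exact absurd (by rw [← hθ.mor.map_mul hg hg, e, h.hyp.th_xz hx.cj hθ]) (h.not_sq hx (extAut_mem θ hg))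

/-- the involutions of `C(x)` outside `U` lie in one coset of `U` -/
theorem invol_U (hx : Ext F z x) (hg : g ∈ Cn x) (h2 : g * g = 1) (hn : g ∉ closure ({x, z} : Set G)) {g' : G}
    (hg' : g' ∈ Cn x) (h2' : g' * g' = 1) (hn' : g' ∉ closure ({x, z} : Set G)) :
    g * g' ∈ closure ({x, z} : Set G) := by
  have xU : x ∈ closure ({x, z} : Set G) := subset_closure (.inl rfl)
  have x2 := h.hyp.cj_sq hx.cj
  have TU : ∀ t ∈ TT R, t ∈ Cn x → t ∈ closure ({x, z} : Set G) := fun t k k' =>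
    (h.hyp.mem_U hx.cj).2 ((h.CT hx k k').imp_right .inl)
  have key : ∀ g ∈ Cn x, g * g = 1 → g ∉ closure ({x, z} : Set G) →
      ∃ u ∈ closure ({x, z} : Set G), u ∈ Cn x ∧ TyA a b z (g * u) := fun g hg h2 hn => by
    rcases h.cent_i hx g with e | e
    · exact ⟨1, one_mem _, one_mem _, by
        simpa using (h.hyp.tyA_of_commC x2 (h.all _ hx.ne hx.cj) h2 hg e).resolve_left fun k => hn (TU _ k hg)⟩
    have m := mul_mem hg (self_mem_Cn x)
    exact ⟨x, xU, self_mem_Cn x, (h.hyp.tyA_of_commC x2 (h.all _ hx.ne hx.cj)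
      (by rw [mul_assoc, ← mul_assoc x, ← mem_Cn.1 hg, mul_assoc, x2, mul_one, h2]) m e).resolve_left fun k =>
        hn ((Subgroup.mul_mem_cancel_right _ xU).1 (TU _ k m))⟩
  obtain ⟨u, u1, u2, u3⟩ := key g hg h2 hn
  obtain ⟨u', u1', u2', u3'⟩ := key g' hg' h2' hn'
  have := TU _ (h.hyp.tyA_mul u3 u3') (mul_mem (mul_mem hg u2) (mul_mem hg' u2'))
  rwa [← mul_assoc, Subgroup.mul_mem_cancel_right _ u1', mul_assoc, h.comm hx u2 hg', ← mul_assoc,
    Subgroup.mul_mem_cancel_right _ u1] at this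

theorem th_mod (hx : Ext F z x) {θ : MulAut (Cn x)} (hθ : Th F z x θ) (hg : g ∈ Cn x) :
    g⁻¹ * extAut θ g ∈ closure ({x, z} : Set G) := by
  have hU : closure ({x, z} : Set G) ≤ Cn x := (closure_le _).2 (by
    rintro _ (rfl | rfl)
    exacts [self_mem_Cn _, h.hyp.z_mem_Cn _])
  have hm := hθ.mor
  have tU : ∀ u ∈ closure ({x, z} : Set G), extAut θ u ∈ closure ({x, z} : Set G) :=
    (hm.mono hU).hom.mem_of_closure (by
      rintro _ (rfl | rfl)
      · rw [hθ.hx]; exact mul_mem (subset_closure (.inl rfl)) (subset_closure (.inr rfl))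
      · rw [hθ.hz]; exact subset_closure (.inl rfl))
  induction' e : orderOf g using Nat.strong_induction_on with n ih generalizing g
  by_cases g1 : g = 1
  · rw [g1, hm.map_one, mul_one]; exact inv_mem (one_mem _)
  have tg := extAut_mem θ hg
  have hv : g⁻¹ * extAut θ g ∈ Cn x := mul_mem (inv_mem hg) tg
  have v2 : g⁻¹ * extAut θ g * (g⁻¹ * extAut θ g) = 1 := by
    refine h.sq_U hx hv ?_
    have lt : orderOf (g * g) < n := by
      obtain ⟨k, hk⟩ := IsPGroup.iff_orderOf.1 h.hyp.two g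
      obtain _ | k := k
      · exact absurd (orderOf_eq_one_iff.1 hk) g1
      rw [← e, ← sq, orderOf_pow_of_dvd two_ne_zero (hk ▸ dvd_pow_self 2 k.succ_ne_zero)]
      exact Nat.div_lt_self (orderOf_pos g) one_lt_two
    have := ih _ lt (mul_mem hg hg) rfl
    rw [hm.map_mul hg hg] at this
    rwa [mul_assoc, ← mul_assoc _ g⁻¹, h.comm hx tg (inv_mem hg), mul_assoc, ← mul_assoc g⁻¹, ← mul_inv_rev]
  by_contra hn
  have h2 : g⁻¹ * extAut (θ * θ) g ∈ closure ({x, z} : Set G) := by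
    have := h.invol_U hx hv v2 hn (extAut_mem θ hv) (by rw [← hm.map_mul hv hv, v2, hm.map_one]) fun k => hn (by
      obtain ⟨u, hu, e⟩ := (hm.mono hU).mem_img.1 (((hm.mono hU).img_eq_self tU).ge k)
      exact hm.inj (hU hu) hv e ▸ hu)
    rwa [hm.map_mul (inv_mem hg) tg, hm.map_inv hg, mul_assoc, mul_inv_cancel_left, ← extAut_mul_apply] at this
  have h3 : ∀ k : ℕ, g⁻¹ * extAut ((θ * θ) ^ k) g ∈ closure ({x, z} : Set G) := fun k => by
    induction k with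
    | zero => rw [pow_zero, extAut_one_apply, inv_mul_cancel]; exact one_mem _
    | succ k ihk =>
      have m := extAut_mem ((θ * θ) ^ k) hg
      have := mul_mem h2 (tU _ (tU _ ihk))
      rwa [← extAut_mul_apply, (isHomOn_extAut _).map_mul (inv_mem hg) m, (isHomOn_extAut _).map_inv hg, mul_assoc,
        mul_inv_cancel_left, ← extAut_mul_apply, ← pow_succ'] at this
  obtain ⟨k, hk⟩ := hθ.odd
  have := h3 (k + 1)
  rw [← sq, ← pow_mul, show 2 * (k + 1) = orderOf θ + 1 by omega, pow_succ, pow_orderOf_eq_one, one_mul] at this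
  exact hn this

theorem gen {N : Subgroup G} (hN : ∀ s x : G, x⁻¹ * (s * x * s⁻¹) ∈ N)
    (hz : ∀ P f, Mor F P f → z ∈ P → f z = z → ∀ g ∈ P, g⁻¹ * f g ∈ N)
    (hx : ∀ x, Cj F x z → x ∈ N) : N = ⊤ := by
  obtain ⟨E, hE⟩ := exists_focSys F hN
  refine h.hyp.eq_top_of_le (fun P f k => ((hE P f).1 k).2) (h.hyp.gen_ext
    (fun P f k h1 h2 => (hE P f).2 ⟨k, hz P f k h1 h2⟩) fun x k => ?_)
  obtain ⟨θ, hθ⟩ := h.hyp.exists_theta k
  have m : Mor F (Cn x) fun g => extAut θ (extAut θ g) := hθ.mor.comp' hθ.mor fun g hg => extAut_mem θ hg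
  have hU : closure ({x, z} : Set G) ≤ N := (closure_le _).2 (by
    rintro _ (rfl | rfl)
    exacts [hx _ k.cj, hx _ (Cj.refl F _)])
  refine ⟨_, m, (hE _ _).2 ⟨m, fun g hg => ?_⟩, by rw [hθ.hx, h.hyp.th_xz k.cj hθ]⟩
  have := N.mul_mem (hU (h.th_mod k hθ hg)) (hU (h.th_mod k hθ (extAut_mem θ hg)))
  rwa [mul_assoc, mul_inv_cancel_left] at this

theorem top (hx : Ext F z x) : R ⊔ TT R ⊔ zpowers x = ⊤ := by
  refine h.gen (fun s g => mem_sup_left (h.hyp.conj_mem_RT s g))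
    (fun P f k h1 h2 g hg => mem_sup_left (h.hyp.foc_z k h1 h2 hg)) fun w hw => ?_
  by_cases e : w = z
  · exact mem_sup_left (mem_sup_left (e ▸ h.hyp.z_mem))
  have := h.hyp.tyC_mul (h.hyp.cj_sq hx.cj) (h.all _ hx.ne hx.cj) (h.hyp.cj_sq hw) (h.all _ e hw)
  simpa using mul_mem (mem_sup_right (inv_mem (mem_zpowers x)) : _ ∈ R ⊔ TT R ⊔ zpowers x) (mem_sup_left this)

end CC

end CfsgLib.WQ
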