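import Mathlib
import Cfsg.Agent.Lib.WQ.CC1

/-! Package CC2: in case C, `G` is quasi-dihedral. See `plans/WQ.md`. -/

set_option autoImplicit false
set_option linter.unusedSectionVars false

namespace CfsgLib.WQ

open Subgroup Cfsg CfsgLib.Fusion CfsgLib.TwoGrp CfsgLib.QDFus

universe u

variable {G : Type u} [Group G] [Finite G]
variable {F : FusionSystem (⊤ : Subgroup G)} {R : Subgroup G} {j : ℕ} {a b i z : G}

namespace C2

theorem zp2 {x g : G} (hx : x * x = 1) (hg : g ∈ zpowers x) : g = 1 ∨ g = x := by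
  obtain ⟨k, rfl⟩ := mem_zpowers_iff.1 hg
  have h2 : x ^ (2 : ℤ) = 1 := by rw [zpow_two, hx]
  obtain ⟨m, rfl | rfl⟩ := Int.even_or_odd' k
  · exact Or.inl (by rw [zpow_mul, h2, one_zpow])
  · exact Or.inr (by rw [zpow_add, zpow_mul, h2, one_zpow, one_mul, zpow_one])

theorem zp4 {t g : G} (hz : z * z = 1) (ht : t * t = z) (hg : g ∈ zpowers t) : g = 1 ∨ g = z ∨ g = t ∨ g = t * z := by
  obtain ⟨k, rfl⟩ := mem_zpowers_iff.1 hg
  have h2 : t ^ (2 : ℤ) = z := by rw [zpow_two, ht]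
  obtain ⟨m, rfl | rfl⟩ := Int.even_or_odd' k
  · rw [zpow_mul, h2]
    rcases zp2 hz (zpow_mem_zpowers z m) with e | e <;> simp [e]
  · rw [add_comm, zpow_add, zpow_mul, h2, zpow_one]
    rcases zp2 hz (zpow_mem_zpowers z m) with e | e <;> simp [e]

theorem mem_sup {K : Subgroup G} [K.Normal] {x g : G} (hx : x * x = 1) (hg : g ∈ K ⊔ zpowers x) :
    g ∈ K ∨ ∃ r ∈ K, g = r * x := by
  obtain ⟨r, hr, s, hs, rfl⟩ := mem_sup_of_normal_left.1 hg
  rcases zp2 hx hs with rfl | rfl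
  exacts [Or.inl (by rwa [mul_one]), Or.inr ⟨r, hr, rfl⟩]

theorem cjw (h : Qd R j a b i z) {w r : G} {m : ℤ} (h1 : w * a * w⁻¹ = a⁻¹) (hm : Odd m) (h2 : w * b * w⁻¹ = a ^ m * b)
    (hr : r ∈ R) (e : r * w * a * (r * w)⁻¹ = a⁻¹) : Cj F w (r * w) := by
  have k1 : ∀ u v : ℤ, a ^ u * (a ^ v * w) * (a ^ u)⁻¹ = a ^ (2 * u + v) * w := fun u v => by
    calc _ = a ^ u * a ^ v * (w * a * w⁻¹) ^ (-u) * w := by rw [conj_zpow]; group
      _ = _ := by rw [h1]; group
  have k2 : b * w * b⁻¹ = a ^ (-m) * w := by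
    calc _ = b * (w * b * w⁻¹)⁻¹ * w := by group
      _ = _ := by rw [h2]; group
  obtain ⟨k, rfl | rfl⟩ := (h.quat.mem r).1 hr
  · obtain ⟨u, rfl | rfl⟩ := Int.even_or_odd' k
    · have := cj_conj F (a ^ u) (a ^ (0 : ℤ) * w)
      rwa [k1, add_zero, zpow_zero, one_mul] at this
    · obtain ⟨v, rfl⟩ := hm
      have := (cj_conj F b w).trans (cj_conj F (a ^ (u + v + 1)) _)
      rwa [k2, k1, show 2 * (u + v + 1) + -(2 * v + 1) = 2 * u + 1 by ring] at this
  · exfalso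
    have e1 : a ^ (1 : ℤ) = a ^ (-1 : ℤ) := by
      calc _ = a ^ k * (b * a * b⁻¹)⁻¹ * (a ^ k)⁻¹ := by rw [h.quat.conj]; group
        _ = a ^ k * b * (w * a * w⁻¹) * (a ^ k * b)⁻¹ := by rw [h1]; group
        _ = _ := by rw [zpow_neg, zpow_one, ← e]; group
    have e2 := Int.le_of_dvd (by norm_num) (h.a_zpow_eq.1 e1)
    have : (0 : ℤ) < 2 ^ j := by positivity
    rw [pow_add] at e2
    omega

theorem card_R (h : Qd R j a b i z) : Nat.card R = 2 ^ (j + 4) := by
  have l : zpowers a ≤ R := zpowers_le.2 h.a_mem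
  have h1 : ((zpowers a).subgroupOf R).index = 2 := index_eq_two_iff_exists_notMem_and.2
    ⟨⟨b, h.b_mem⟩, h.quat.notMem, fun g => by
      obtain ⟨k, e | e⟩ := (h.quat.mem g).1 g.2
      · exact Or.inr (by rw [mem_subgroupOf, e]; exact zpow_mem_zpowers a k)
      · refine Or.inl ?_
        rw [mem_subgroupOf, coe_mul, e, mul_assoc, h.quat.bb]
        exact mul_mem (zpow_mem_zpowers a k) (npow_mem_zpowers a _)⟩
  rw [← ((zpowers a).subgroupOf R).card_mul_index, h1, Nat.card_congr (subgroupOfEquivOfLe l).toEquiv,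
    Nat.card_zpowers, h.ord_a, ← pow_succ]

end C2

open C2

namespace CC

variable (h : CC F R j a b i z)
include h

section
variable {x t : G} (hx : Ext F z x) (hT : t ∈ TT R) (hn : t ∉ zpowers z) (h2 : t * t ∈ zpowers z)
  (hc : ∀ g, g * t * g⁻¹ * t⁻¹ ∈ zpowers z)
include hx hT hn hc

theorem c2_xt : x * t * x⁻¹ = t * z := by
  rcases zp2 h.hyp.zz (hc x) with e | e
  · rw [mul_inv_eq_one, mul_inv_eq_iff_eq_mul] at e
    rcases h.CT hx hT (mem_Cn.2 e.symm) with rfl | rfl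
    exacts [absurd (one_mem _) hn, absurd (mem_zpowers _) hn]
  · rw [h.hyp.z_comm, ← e, inv_mul_cancel_right]

include h2

theorem c2_t : t * t = z ∧ ¬ Cj F (t * x) z := by
  have q := h.hyp.toQd
  have xx := h.hyp.cj_sq hx.cj
  have xC := h.all x hx.ne hx.cj
  obtain ⟨xi, ix⟩ := q.tyC_i xx xC
  obtain ⟨xa, m, hm, xb⟩ := q.tyC_act xx xC
  have it : i * t = t * i := mem_TT.1 hT i q.i_mem
  have ta : a * t = t * a := mem_TT.1 hT a q.a_mem
  have tb : b * t = t * b := mem_TT.1 hT b q.b_mem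
  have iz : i⁻¹ = i * z := by rw [inv_eq_iff_mul_eq_one, ← mul_assoc, q.ii, q.zz]
  have e0 : i * t ∈ Cn x := mem_Cn.2 (mul_inv_eq_iff_eq_mul.1 (by
    rw [← conj_mul, xi, h.c2_xt hx hT hn hc, iz, q.z_comm t, mul_assoc, ← mul_assoc z, q.zz, one_mul])).symm
  refine ⟨(zp2 q.zz h2).resolve_left fun e => h.not_sq hx e0 ?_, fun e => ?_⟩
  · rw [mul_assoc, ← mul_assoc t, ← it, mul_assoc, e, mul_one, q.ii]
  have c1 : Cj F (i * t) (i * t * z) := by
    have := cj_conj F b (i * t)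
    rwa [← conj_mul, q.bi, tb, mul_inv_cancel_right, iz, mul_assoc, ← q.z_comm t, ← mul_assoc] at this
  have c2 : Cj F (i * t * x) (i * t * (x * z)) := by
    have := cj_conj F i (i * t * x)
    rwa [← conj_mul, ix, it, ← mul_assoc i, mul_inv_cancel_right, it, ← it] at this
  have c3 : Cj F (i * t) (i * t * x) := by
    obtain ⟨θ, hθ⟩ := h.hyp.exists_theta hx
    have k1 := cj_of_mor hθ.mor e0
    have k2 := c1.trans (cj_of_mor hθ.mor (mul_mem e0 (q.z_mem_Cn x)))
    rw [hθ.mor.map_mul e0 (q.z_mem_Cn x), hθ.hz] at k2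
    rcases (h.hyp.mem_U hx.cj).1 (h.th_mod hx hθ e0) with l | l | l | l <;> rw [inv_mul_eq_iff_eq_mul] at l <;>
      rw [l] at k1 k2
    · rwa [mul_one] at k2
    · exact (k2.trans (by rw [mul_assoc, ← q.z_comm x]; exact Cj.refl F _)).trans c2.symm
    · exact k1
    · exact k1.trans c2.symm
  have wa : t * x * a * (t * x)⁻¹ = a⁻¹ := by
    calc _ = t * (x * a * x⁻¹) * t⁻¹ := by group
      _ = _ := by rw [xa, conj_inv.symm, ← ta, mul_inv_cancel_right]
  have c4 : Cj F (t * x) (i * (t * x)) := cjw q wa hm (by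
    calc _ = t * (x * b * x⁻¹) * t⁻¹ := by group
      _ = _ := by rw [xb, ← mem_TT.1 hT _ (mul_mem (zpow_mem q.a_mem m) q.b_mem), mul_inv_cancel_right]) q.i_mem (by
    calc _ = i * (t * x * a * (t * x)⁻¹) * i⁻¹ := by group
      _ = _ := by rw [wa, q.hi]; group)
  have c5 : Cj F (i * t) z := (c3.trans (mul_assoc i t x ▸ c4.symm)).trans e
  refine q.not_tyC_of_comm ?_ (h.all _ (fun l => hn ?_) c5)
  · rw [mul_assoc, ← ta, ← mul_assoc, ← mul_assoc, q.hi, pow_mul_comm']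
  · have : t ∈ R := by rw [eq_inv_mul_of_mul_eq l]; exact mul_mem (inv_mem q.i_mem) q.z_mem
    rcases q.inf_T this hT with rfl | rfl
    exacts [one_mem _, mem_zpowers _]

theorem c2_T : TT R ≤ zpowers t := by
  have q := h.hyp.toQd
  obtain ⟨tt, tx⟩ := h.c2_t hx hT hn h2 hc
  have xt := h.c2_xt hx hT hn hc
  have zt : z ∈ zpowers t := tt ▸ mul_mem (mem_zpowers t) (mem_zpowers t)
  have : (zpowers t).Normal := ⟨fun s hs g => by
    obtain ⟨k, rfl⟩ := mem_zpowers_iff.1 hs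
    rw [← conj_zpow]
    exact zpow_mem ((mul_mem_cancel_right (inv_mem (mem_zpowers t))).1 (zpowers_le.2 zt (hc g))) k⟩
  have := q.T_normal
  by_contra hle
  obtain ⟨s, s1, s2, -, s3⟩ := exists_central_mod q.two hle
  have k : ∀ g ∈ TT R, x * g * x⁻¹ = g → g ∈ zpowers t := fun g hg e => by
    rcases h.CT hx hg (mem_Cn.2 (mul_inv_eq_iff_eq_mul.1 e).symm) with rfl | rfl
    exacts [one_mem _, zt]
  have xx := h.hyp.cj_sq hx.cj
  have k2 : ∀ u, x * s * x⁻¹ * s⁻¹ = u → Cj F (x * u * x⁻¹ * x) z := fun u e => by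
    have := cj_conj F s x
    rw [show s * x * s⁻¹ = x * u * x⁻¹ * x by
      rw [← e, inv_eq_of_mul_eq_one_right xx]
      calc _ = x * x * s * x * s⁻¹ * (x * x) := by rw [xx]; group
        _ = _ := by group] at this
    exact this.symm.trans hx.cj
  rcases zp4 q.zz tt (s3 x) with e | e | e | e
  · exact s2 (k s s1 (mul_inv_eq_one.1 e))
  · refine s2 ((mul_mem_cancel_right (mem_zpowers t)).1 (k _ (mul_mem s1 hT) ?_))
    rw [← conj_mul, mul_inv_eq_iff_eq_mul.1 e, xt, ← q.z_comm s, q.z_comm t, mul_assoc, ← mul_assoc z, q.zz, one_mul]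
  · refine tx (Cj.trans ?_ (k2 t e))
    have := cj_conj F i (t * x)
    rwa [← conj_mul, (q.tyC_i xx (h.all x hx.ne hx.cj)).2, mem_TT.1 hT i q.i_mem, mul_inv_cancel_right, q.z_comm x,
      ← mul_assoc, ← xt] at this
  · have := k2 _ e
    rw [← conj_mul, xt, q.z_comm x, mul_inv_cancel_right, mul_assoc t, q.zz, mul_one] at this
    exact tx this

theorem c2_false : False := by
  have q := h.hyp.toQd
  have := q.nrm
  obtain ⟨tt, tx⟩ := h.c2_t hx hT hn h2 hc
  have xx := h.hyp.cj_sq hx.cj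
  have xC := h.all x hx.ne hx.cj
  obtain ⟨xa, m, hm, xb⟩ := q.tyC_act xx xC
  have zR : zpowers z ≤ R := zpowers_le.2 q.z_mem
  have tN : t ∉ R ⊔ zpowers x := fun e => by
    rcases mem_sup xx e with e | ⟨r, hr, e⟩
    · rcases q.inf_T e hT with rfl | rfl
      exacts [hn (one_mem _), hn (mem_zpowers _)]
    · exact q.tyC_notMem xx xC ((mul_mem_cancel_left (mem_sup_left hr)).1 (e ▸ mem_sup_right hT))
  have hN : (R ⊔ zpowers x).Normal := by
    rw [← normalizer_eq_top_iff, eq_top_iff, ← h.top hx]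
    refine sup_le (sup_le (le_sup_left.trans le_normalizer) ((h.c2_T hx hT hn h2 hc).trans (zpowers_le.2 ?_)))
      (le_sup_right.trans le_normalizer)
    refine mem_normalizer_of_conj_mem fun g hg => ?_
    have := mul_mem (inv_mem (mem_sup_left (T := zpowers x) (zR (hc g)))) hg
    convert this using 1
    group
  have all : ∀ g, g ∈ R ⊔ zpowers x ∨ g * t ∈ R ⊔ zpowers x := fun g => by
    have : g ∈ (R ⊔ zpowers x) ⊔ zpowers t := (sup_le (sup_le (le_sup_left.trans le_sup_left)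
      ((h.c2_T hx hT hn h2 hc).trans le_sup_right)) (le_sup_right.trans le_sup_left) : _ ≤ _) (h.top hx ▸ mem_top g)
    obtain ⟨n, nN, s, hs, rfl⟩ := mem_sup_of_normal_left.1 this
    have zN : z ∈ R ⊔ zpowers x := mem_sup_left q.z_mem
    rcases zp4 q.zz tt hs with l | l | l | l <;> rw [l]
    · exact Or.inl (mul_mem nN (one_mem _))
    · exact Or.inl (mul_mem nN zN)
    · exact Or.inr (by rw [mul_assoc, tt]; exact mul_mem nN zN)
    · exact Or.inr (by rw [q.z_comm t, mul_assoc, mul_assoc, tt]; exact mul_mem nN (mul_mem zN zN))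
  have i2 : (R ⊔ zpowers x).index = 2 := index_eq_two_iff_exists_notMem_and.2 ⟨t, tN, fun g => (all g).symm⟩
  have wa : t * x * a * (t * x)⁻¹ = a⁻¹ := by
    calc _ = t * (x * a * x⁻¹) * t⁻¹ := by group
      _ = _ := by rw [xa, conj_inv.symm, ← mem_TT.1 hT a q.a_mem, mul_inv_cancel_right]
  have wb : t * x * b * (t * x)⁻¹ = a ^ m * b := by
    calc _ = t * (x * b * x⁻¹) * t⁻¹ := by group
      _ = _ := by rw [xb, ← mem_TT.1 hT _ (mul_mem (zpow_mem q.a_mem m) q.b_mem), mul_inv_cancel_right]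
  have cz : ∀ y, Cj F y z → y ∈ R ⊔ zpowers x := fun y hy => by
    by_cases e : y = z
    · exact e ▸ mem_sup_left q.z_mem
    refine (all y).elim id fun l => ?_
    have yy := h.hyp.cj_sq hy
    have yC := h.all y e hy
    rcases mem_sup xx l with l | ⟨r, hr, l⟩
    · exact absurd ((mul_mem_cancel_right (mem_sup_right hT)).1 (mem_sup_left l)) (q.tyC_notMem yy yC)
    · have e1 : y = r * (t * x) := by
        rw [eq_mul_inv_of_mul_eq l, show t⁻¹ = t * z by rw [inv_eq_iff_mul_eq_one, ← mul_assoc, tt, q.zz],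
          ← h.c2_xt hx hT hn hc, inv_eq_of_mul_eq_one_right xx]
        calc _ = r * (x * x) * t * x := by group
          _ = _ := by rw [xx]; group
      exact absurd ((cjw q wa hm wb hr (e1 ▸ (q.tyC_act yy yC).1)).trans (e1 ▸ hy)) tx
  have up : ∀ P g, Mor F P g → R ≤ P → ∀ y ∈ P, y ∈ R ⊔ zpowers x → g y ∈ R ⊔ zpowers x := by
    intro P g hg hR y hy l
    rcases mem_sup xx l with l | ⟨r, hr, rfl⟩
    · exact mem_sup_left (h.hyp.mem_R_of_le hg hR l)
    · have xP := (mul_mem_cancel_left (hR hr)).1 hy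
      rw [hg.map_mul (hR hr) xP]
      exact mul_mem (mem_sup_left (h.hyp.mem_R_of_le hg hR hr)) (cz _ ((cj_of_mor hg xP).symm.trans hx.cj))
  refine tN (h.gen (N := R ⊔ zpowers x) (fun s y => ?_) (fun P f hf hz e y hy => ?_) cz ▸ mem_top t)
  · rw [mul_mem_iff_of_index_two i2, inv_mem_iff, hN.mem_comm_iff, inv_mul_cancel_left]
  · obtain ⟨g, hg, l⟩ := h.hyp.lift_z hf hz e
    obtain ⟨g', hg', l', -⟩ := hg.exists_inv
    have y1 : y ∈ P ⊔ R := mem_sup_left hy
    have h3 : y⁻¹ * g y ∈ R ⊔ zpowers x := by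
      rw [mul_mem_iff_of_index_two i2, inv_mem_iff]
      refine ⟨up _ g hg le_sup_right y y1, fun l2 => l' y y1 ▸ up _ g' hg' ?_ _ (mem_img_of_mem g y1) l2⟩
      rw [← (hg.mono le_sup_right).img_eq_self fun r hr => h.hyp.mem_R_of_le hg le_sup_right hr]
      exact img_mono g (by rw [(hg.mono le_sup_right).img_eq_self fun r hr => h.hyp.mem_R_of_le hg le_sup_right hr]
                           exact le_sup_right)
    have := mul_mem h3 (mem_sup_left (l y hy))
    rwa [mul_assoc, mul_inv_cancel_left] at this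

end

theorem T_eq {t : G} (ht : t ∈ TT R) : t = 1 ∨ t = z := by
  have q := h.hyp.toQd
  have : (zpowers z).Normal := ⟨fun s hs g => by
    rcases zp2 q.zz hs with rfl | rfl
    · simp
    · rw [q.z_comm, mul_inv_cancel_right]; exact mem_zpowers _⟩
  have := q.T_normal
  refine zp2 q.zz ((?_ : TT R ≤ zpowers z) ht)
  by_contra hle
  obtain ⟨x, hx⟩ := h.exists_ext
  obtain ⟨s, s1, s2, s3, s4⟩ := exists_central_mod q.two hle
  exact h.c2_false hx s1 s2 s3 s4

theorem qd : IsQuasiDihedral G := by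
  have q := h.hyp.toQd
  have := q.nrm
  obtain ⟨x, hx⟩ := h.exists_ext
  have xx := h.hyp.cj_sq hx.cj
  have xC := h.all x hx.ne hx.cj
  obtain ⟨xa, m, hm, xb⟩ := q.tyC_act xx xC
  have TR : TT R ≤ R := fun t ht => by
    rcases h.T_eq ht with rfl | rfl
    exacts [one_mem _, q.z_mem]
  have i2 : R.index = 2 := index_eq_two_iff_exists_notMem_and.2 ⟨x, fun e => q.tyC_notMem xx xC (mem_sup_left e),
    fun g => by
      rcases mem_sup (K := R) (g := g) xx (by rw [← sup_eq_left.2 TR, h.top hx]; exact mem_top g) with l | ⟨r, hr, rfl⟩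
      exacts [Or.inr l, Or.inl (by rwa [mul_assoc, xx, mul_one])]⟩
  have yy : b * x * (b * x) = a ^ (-m) * z := by
    calc _ = b * (x * b * x⁻¹) * (x * x) := by group
      _ = b * a ^ m * b⁻¹ * (b * b) := by rw [xb, xx]; group
      _ = _ := by rw [q.b_zpow, q.bb]
  have y2 : (b * x) ^ 2 ^ (j + 3) = z := by
    obtain ⟨v, rfl⟩ := hm
    rw [pow_succ', pow_mul, pow_two, yy, q.hz, ← zpow_natCast, ← zpow_natCast, ← zpow_add, ← zpow_mul, q.a_zpow_eq]
    exact ⟨2 ^ (j + 1) - v - 1, by push_cast; ring⟩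
  refine ⟨j + 4, by omega, by rw [← R.card_mul_index, i2, card_R q, ← pow_succ], b * x, x,
    orderOf_eq_prime_pow (by rw [y2]; exact q.z_ne) (by rw [pow_succ, pow_mul, y2, pow_two, q.zz]),
    orderOf_eq_prime (by rw [pow_two, xx]) (h.hyp.cj_ne hx.cj), ?_⟩
  rw [show j + 4 - 1 = j + 3 from rfl, pow_sub _ (Nat.one_le_two_pow), y2, pow_one, eq_mul_inv_iff_mul_eq]
  calc _ = x * b * x⁻¹ * b⁻¹ * (b * x * (b * x)) := by group
    _ = _ := by rw [xb, yy]; group

end CC

end CfsgLib.WQ
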