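import Mathlib
import Cfsg.Agent.Lib.WQ.Aut
import Cfsg.Agent.Lib.Fusion.Grun

/-! Package Q8: automorphisms of odd order that live on a quaternion group of order 8. See `plans/WQ.md`. -/

set_option autoImplicit false
set_option linter.unusedSectionVars false

namespace CfsgLib.WQ

open Subgroup Cfsg CfsgLib.Fusion CfsgLib.TwoGrp CfsgLib.QDFus

universe u

variable {G : Type u} [Group G] [Finite G]

section

variable {X Q : Subgroup G} {j : ℕ} {t b u v w w' g : G}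

omit [Finite G] in
theorem sq_out' (hc : b * t * b⁻¹ = t⁻¹) (l : ℤ) : t ^ l * b * (t ^ l * b) = b * b := by
  calc _ = t ^ l * (b * t * b⁻¹) ^ l * (b * b) := by rw [conj_zpow]; group
    _ = _ := by rw [hc]; group

theorem quat_ze (hX : IsQuat X (2 ^ (j + 2)) t b) {l : ℤ} : t ^ l = 1 ↔ (8 * 2 ^ j : ℤ) ∣ l := by
  rw [← orderOf_dvd_iff_zpow_eq_one, hX.ord, show (8 * 2 ^ j : ℤ) = (2 * 2 ^ (j + 2) : ℕ) by push_cast; ring]

theorem quat_bb (hX : IsQuat X (2 ^ (j + 2)) t b) : b * b = t ^ (4 * 2 ^ j : ℤ) := by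
  rw [hX.bb, ← zpow_natCast]; congr 1; push_cast; ring

theorem quat_z (hX : IsQuat X (2 ^ (j + 2)) t b) : t ^ (4 * 2 ^ j : ℤ) ≠ 1 := fun k => by
  simpa using Qd.even_of (u := 1) (by rw [mul_one]; exact (quat_ze hX).1 k)

theorem quat_two (hX : IsQuat X (2 ^ (j + 2)) t b) : IsPGroup 2 X := fun g => ⟨j + 3, Subtype.ext (by
  rw [coe_pow, ← zpow_natCast, show ((2 ^ (j + 3) : ℕ) : ℤ) = 2 * (4 * 2 ^ j) by push_cast; ring]
  obtain ⟨l, e | e⟩ := (hX.mem _).1 g.2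
  · rw [e, ← zpow_mul]; exact (quat_ze hX).2 ⟨l, by ring⟩
  · rw [e, zpow_mul, zpow_two, sq_out' hX.conj, quat_bb hX, ← zpow_mul]; exact (quat_ze hX).2 ⟨2 * 2 ^ j, by ring⟩)⟩

theorem q8_sq (h : IsQ8 Q u v) (hg : g ∈ Q) (h2 : g * g ≠ 1) : g * g = u * u := by
  have k : ∀ c, c * c = u * u → c⁻¹ * c⁻¹ = u * u := fun c e => by
    rw [← mul_inv_rev, e, inv_eq_of_mul_eq_one_right (sq_sq_of_four h.ord)]
  rcases h.mem_cases hg with rfl | rfl | rfl | rfl | rfl | rfl | rfl | rfl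
  exacts [absurd (mul_one 1) h2, absurd (sq_sq_of_four h.ord) h2, rfl, k _ rfl, h.bb, k _ h.bb, h.abab, k _ h.abab]

theorem q8_of_gens (h : IsQ8 Q u v) (hw : w ∈ Q) (hw' : w' ∈ Q) (h2 : w * w ≠ 1) (n : w' ∉ zpowers w) :
    IsQ8 Q w w' := by
  have e := q8_sq h hw h2
  have k : ∀ g ∈ Q, g ∉ zpowers w → g * g = w * w := fun g hg m => e ▸ q8_sq h hg fun f => m
    ((h.eq_of_mul_self hg f).elim (· ▸ one_mem _) fun f => f ▸ e ▸ mul_mem (mem_zpowers w) (mem_zpowers w))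
  have o := h.ord_of_sq e
  have i2 : (zpowers w).relIndex Q = 2 := by
    have := Tech.card_mul_relIndex' (zpowers_le.2 hw)
    rw [Nat.card_zpowers, o, card_of_isQ8 h] at this
    omega
  refine ⟨o, k _ hw' n, ?_, n, fun g => ⟨fun hg => ?_, ?_⟩⟩
  · calc _ = w⁻¹ * (w * w' * (w * w')) * (w' * w')⁻¹ := by group
      _ = _ := by rw [k _ (mul_mem hw hw') (by rwa [mul_mem_cancel_left (mem_zpowers w)]), k _ hw' n]; group
  · by_cases m : g ∈ zpowers w
    · exact m.imp fun _ e => .inl e.symm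
    · exact ((mul_mem_iff_of_index_two (H := (zpowers w).subgroupOf Q) i2 (a := ⟨g, hg⟩) (b := ⟨w', hw'⟩⁻¹)).2
        (iff_of_false m fun f => n (inv_mem_iff.1 f))).imp fun _ e => .inr (eq_mul_of_mul_inv_eq e.symm)
  · rintro ⟨l, rfl | rfl⟩
    exacts [zpow_mem hw l, mul_mem (zpow_mem hw l) hw']

theorem q8_cen (h : IsQ8 Q u v) (hg : g ∈ Q) (c : g ∈ TT Q) : g = 1 ∨ g = u * u := by
  refine h.eq_of_mul_self hg (by_contra fun f => ?_)
  obtain ⟨w, hw, n⟩ : ∃ w ∈ Q, w ∉ zpowers g := by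
    by_contra! k
    have := Subgroup.card_le_of_le (show Q ≤ _ from k)
    rw [card_of_isQ8 h, Nat.card_zpowers, h.ord_of_sq (q8_sq h hg f)] at this
    omega
  have := (q8_of_gens h hg hw f n).conj
  rw [mem_TT.1 c w hw, mul_inv_cancel_right] at this
  exact f (mul_eq_one_iff_eq_inv.2 this)

omit [Finite G] in
theorem aut_one (hQ : IsPGroup 2 Q) (hu : u ∈ Q) (hv : v ∈ Q) (hm : ∀ g ∈ Q, ∃ l : ℤ, g = u ^ l ∨ g = u ^ l * v)
    {γ : MulAut Q} (ho : Odd (orderOf γ)) (e : extAut γ u ∈ zpowers u) : γ = 1 :=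
  aut_eq_one_of_zpowers hQ (c := ⟨u, hu⟩) (b := ⟨v, hv⟩)
    (fun g => (hm g g.2).imp fun _ => Or.imp Subtype.ext Subtype.ext) ho
    (e.imp fun _ e => Subtype.ext (e.trans (extAut_apply γ hu)))

end

/-- The quaternion subgroups of order 8 of a generalized quaternion group. -/
theorem q8_sub {X Q : Subgroup G} {j : ℕ} {t b u v : G} (hX : IsQuat X (2 ^ (j + 2)) t b)
    (hQ : IsQ8 Q u v) (hle : Q ≤ X) : ∃ l : ℤ, IsQ8 Q (t ^ 2 ^ (j + 1)) (t ^ l * b) := by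
  have k : ∀ p l : ℤ, t ^ p ∈ Q → t ^ p * t ^ p = u * u → t ^ l * b ∈ Q → IsQ8 Q (t ^ 2 ^ (j + 1)) (t ^ l * b) :=
    fun p l hp e hl => by
      have e1 := sq_sq_of_four hQ.ord
      have e2 := sq_ne_one_of_four hQ.ord
      rw [← e, ← zpow_add] at e1 e2
      rw [← zpow_add, quat_ze hX] at e1
      obtain ⟨c, e1⟩ := e1
      obtain rfl : p = 2 * 2 ^ j * c := by linarith
      have e3 : t ^ 2 ^ (j + 1) = t ^ (2 * 2 ^ j : ℤ) := by rw [← zpow_natCast]; congr 1; push_cast; ring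
      rcases Int.even_or_odd' c with ⟨d, rfl | rfl⟩
      · exact absurd ((quat_ze hX).2 ⟨d, by ring⟩) e2
      refine q8_of_gens hQ ?_ hl (by rw [e3, ← zpow_add, show (2 * 2 ^ j + 2 * 2 ^ j : ℤ) = 4 * 2 ^ j by ring]; exact quat_z hX)
        fun m => hX.notMem ((mul_mem_cancel_left (zpow_mem_zpowers t l)).1 (zpowers_le.2 (npow_mem_zpowers t _) m))
      convert zpow_mem hp (2 * d + 1) using 1
      rw [e3, ← zpow_mul, eq_comm, ← mul_inv_eq_one, ← zpow_neg, ← zpow_add, quat_ze hX]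
      exact ⟨d * (d + 1), by ring⟩
  obtain ⟨p, rfl | rfl⟩ := (hX.mem u).1 (hle hQ.a_mem) <;> obtain ⟨q, rfl | rfl⟩ := (hX.mem v).1 (hle hQ.b_mem)
  · exact absurd (mul_eq_one_iff_eq_inv.2 (by rw [← hQ.conj]; group)) (sq_ne_one_of_four hQ.ord)
  · exact ⟨q, k p q hQ.a_mem rfl hQ.b_mem⟩
  · exact ⟨p, k q p hQ.b_mem hQ.bb hQ.a_mem⟩
  · have e : t ^ p * b * (t ^ q * b) = t ^ (p - q + 4 * 2 ^ j) := by
      calc _ = t ^ p * (b * t * b⁻¹) ^ q * (b * b) := by rw [conj_zpow]; group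
        _ = _ := by rw [hX.conj, quat_bb hX]; group
    exact ⟨p, k _ p (e ▸ mul_mem hQ.a_mem hQ.b_mem) (e ▸ hQ.abab) hQ.a_mem⟩

theorem q8_eq {Q Q' : Subgroup G} {u v : G} (h : IsQ8 Q u v) (h' : IsQ8 Q' u v) : Q = Q' := Subgroup.ext fun g => (h.mem g).trans (h'.mem g).symm

theorem q8_map_conj {Q : Subgroup G} {u v : G} (h : IsQ8 Q u v) (s : G) :
    IsQ8 (Q.map (MulAut.conj s).toMonoidHom) (s * u * s⁻¹) (s * v * s⁻¹) := by
  refine ⟨((MulAut.conj s).orderOf_eq u).trans h.ord, by rw [conj_mul, conj_mul, h.bb], ?_, fun ⟨l, e⟩ => h.notMem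
    ⟨l, conj_injective (x := s) ((conj_zpow (i := l)).symm.trans e)⟩, fun g => ⟨?_, ?_⟩⟩
  · rw [conj_inv (a := u), ← h.conj]; group
  · rintro ⟨x, hx, rfl⟩
    refine ((h.mem x).1 hx).imp fun l => Or.imp ?_ ?_ <;> rintro rfl <;> simp
  · rintro ⟨l, rfl | rfl⟩
    exacts [⟨_, zpow_mem h.a_mem l, by simp⟩, ⟨_, mul_mem (zpow_mem h.a_mem l) h.b_mem, by simp⟩]

/-- A subgroup of a generalized quaternion group with a nontrivial automorphism of odd order. -/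
theorem q8_of_odd {X Q : Subgroup G} {j : ℕ} {t b : G} (hX : IsQuat X (2 ^ (j + 2)) t b) (hle : Q ≤ X)
    {γ : MulAut Q} (ho : Odd (orderOf γ)) (h1 : γ ≠ 1) : ∃ u v, IsQ8 Q u v := by
  obtain ⟨n, e⟩ := (le_zpowers_iff t _).1 (inf_le_right : Q ⊓ zpowers t ≤ _)
  have hc : t ^ n ∈ Q := (e.ge (mem_zpowers _)).1
  have k : ∀ l : ℤ, t ^ l ∈ Q → t ^ l ∈ zpowers (t ^ n) := fun l m => e.le ⟨m, zpow_mem_zpowers t l⟩
  have hQ := (quat_two hX).to_le hle
  obtain ⟨l, e1 | e1⟩ := (hX.mem _).1 (hle (extAut_mem γ hc))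
  all_goals have m := extAut_mem γ hc; rw [e1] at m
  · by_cases c : ∃ p : ℤ, t ^ p * b ∈ Q
    · obtain ⟨p, hp⟩ := c
      refine absurd (aut_one hQ hc hp (fun g hg => ?_) ho (e1 ▸ k l m)) h1
      obtain ⟨q, rfl | rfl⟩ := (hX.mem _).1 (hle hg)
      · exact (k q hg).imp fun _ e => .inl e.symm
      · exact (k (q - p) (by convert mul_mem hg (inv_mem hp) using 1; group)).imp fun r e => .inr (by
          rw [show (t ^ n) ^ r = t ^ (q - p) from e]; group)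
    · refine absurd (aut_one hQ hc (one_mem _) (fun g hg => ?_) ho (e1 ▸ k l m)) h1
      obtain ⟨q, rfl | rfl⟩ := (hX.mem _).1 (hle hg)
      exacts [(k q hg).imp fun _ e => .inl e.symm, absurd ⟨q, hg⟩ c]
  have e2 : extAut γ (t ^ n * t ^ n) = t ^ (4 * 2 ^ j : ℤ) := by
    rw [extAut_mul γ hc hc, e1, sq_out' hX.conj, quat_bb hX]
  have e3 : t ^ n * t ^ n ≠ 1 := fun f => quat_z hX (by rw [← e2, f, extAut_one'])
  have e4 : t ^ n * t ^ n * (t ^ n * t ^ n) = 1 := (extAut_eq_one_iff γ).1 (by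
    rw [extAut_mul γ (mul_mem hc hc) (mul_mem hc hc), e2, ← zpow_add, quat_ze hX]; exact ⟨1, by ring⟩)
  have e5 : t ^ n * t ^ n = t ^ (4 * 2 ^ j : ℤ) := by
    rw [← zpow_natCast, ← zpow_add] at e3 e4 ⊢
    rw [← zpow_add, quat_ze hX, ← two_mul] at e4
    obtain ⟨c, e4⟩ := Qd.half e4
    rw [e4] at e3 ⊢
    rcases Int.even_or_odd' c with ⟨d, rfl | rfl⟩
    · exact absurd ((quat_ze hX).2 ⟨d, by ring⟩) e3
    · rw [← mul_inv_eq_one, ← zpow_neg, ← zpow_add, quat_ze hX]; exact ⟨d, by ring⟩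
  refine ⟨t ^ n, t ^ l * b, orderOf_eq_prime_pow (p := 2) (n := 1) (by rwa [pow_one, sq])
    (by rwa [show 2 ^ (1 + 1) = 2 * 2 by norm_num, pow_mul, sq, sq]), by rw [sq_out' hX.conj, quat_bb hX, e5], ?_,
    fun m => hX.notMem ((mul_mem_cancel_left (zpow_mem_zpowers t l)).1 (zpowers_le.2 (npow_mem_zpowers t _) m)),
    fun g => ⟨fun hg => ?_, ?_⟩⟩
  · calc _ = t ^ l * (b * t * b⁻¹) ^ n * (t ^ l)⁻¹ := by rw [conj_pow]; group
      _ = _ := by rw [hX.conj]; group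
  · obtain ⟨q, rfl | rfl⟩ := (hX.mem _).1 (hle hg)
    · exact (k q hg).imp fun _ e => .inl e.symm
    · exact (k (q - l) (by convert mul_mem hg (inv_mem m) using 1; group)).imp fun r e => .inr (by
        rw [show (t ^ n) ^ r = t ^ (q - l) from e]; group)
  · rintro ⟨q, rfl | rfl⟩
    exacts [zpow_mem hc q, mul_mem (zpow_mem hc q) m]

/-- An automorphism of odd order of `P` with `[P, β]` inside a normal quaternion subgroup `X`. -/
theorem qtype (hG : IsPGroup 2 G) {X P : Subgroup G} [X.Normal] {j : ℕ} {t b : G}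
    (hX : IsQuat X (2 ^ (j + 2)) t b) {β : MulAut P} (ho : Odd (orderOf β)) (h1 : β ≠ 1)
    (hβ : ∀ p ∈ P, p⁻¹ * extAut β p ∈ X) :
    ∃ (Q : Subgroup G) (u v : G) (γ : MulAut Q), IsQ8 Q u v ∧ Q ≤ X ∧ Q ≤ P ∧ P ≤ Q ⊔ TT Q ∧
      Odd (orderOf γ) ∧ γ ≠ 1 ∧ (∀ q ∈ Q, extAut γ q = extAut β q) ∧
      ∀ c ∈ P, c ∈ TT Q → extAut β c = c := by
  have hP := hG.to_subgroup P
  have co := Nat.coprime_two_right.2 ho
  have hm : ∀ q ∈ P ⊓ X, extAut β q ∈ P ⊓ X := fun q hq =>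
    ⟨extAut_mem β hq.1, mul_inv_cancel_left q (extAut β q) ▸ X.mul_mem hq.2 (hβ q hq.1)⟩
  have hf := (isHomOn_extAut β).mono (inf_le_left : P ⊓ X ≤ P)
  obtain ⟨γ, e⟩ := hf.exists_aut (injOn_extAut β _) (hf.img_eq_self (injOn_extAut β _) hm)
  have og : Odd (orderOf γ) := ho.of_dvd_nat (orderOf_dvd_of_pow_eq_one (aut_eq_one fun q hq => by
    rw [← extAut_pow_ext (fun q hq => (e q hq).symm) _ q hq, pow_orderOf_eq_one, extAut_one_apply]))
  have md : ∀ p ∈ P, p⁻¹ * extAut β p ∈ P ⊓ X := fun p hp => ⟨P.mul_mem (P.inv_mem hp) (extAut_mem β hp), hβ p hp⟩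
  have g1 : γ ≠ 1 := fun f => h1 (aut_eq_one fun p hp => fix_of_coprime_of_step hP co hp (by
    rw [← e _ (md p hp), f, extAut_one_apply]))
  obtain ⟨u, v, h⟩ := q8_of_odd hX inf_le_right og g1
  have nP : P ≤ normalizer ((P ⊓ X : Subgroup G) : Set G) := fun p hp => Tech.mem_normalizer_of_forall fun q hq =>
    ⟨P.mul_mem (P.mul_mem hp hq.1) (P.inv_mem hp), ‹X.Normal›.conj_mem q hq.2 p⟩
  have uu := mul_mem h.a_mem h.a_mem
  refine ⟨_, u, v, γ, h, inf_le_right, inf_le_left, fun p hp => ?_, og, g1, e, fun c hc hc' =>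
    fix_of_coprime_of_step hP co hc ?_⟩
  · obtain ⟨n, hn⟩ := LAE.exists_iterCommutator_eq_bot_of_isPGroup (hG.to_subgroup _) hP nP
    obtain ⟨w, hw, w1, c⟩ := LAE.exists_mem_not_mem_commutator_mem (U := zpowers (u * u)) nP hn fun f => h.notMem
      (zpowers_le.2 (mul_mem (mem_zpowers u) (mem_zpowers u)) (f h.b_mem))
    have w2 : w * w ≠ 1 := fun f => w1 ((h.eq_of_mul_self hw f).elim (· ▸ one_mem _) (· ▸ mem_zpowers _))
    have w3 := q8_sq h hw w2
    have c' : ∀ p ∈ P, p * w * p⁻¹ = w ∨ p * w * p⁻¹ = w⁻¹ := fun p hp =>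
      eq_or_eq_inv_of_four (h.ord_of_sq w3) (by
        have := (zpowers_le.2 (mul_mem (mem_zpowers w) (mem_zpowers w))) (w3 ▸ c p hp)
        simpa [commutatorElement_def, mul_assoc] using mul_mem (inv_mem this) (mem_zpowers w)) (conj_sq_ne_one w2 p)
    obtain ⟨w', hw', n⟩ : ∃ w' ∈ P ⊓ X, w' ∉ zpowers w := by
      by_contra! k
      have := Subgroup.card_le_of_le (show P ⊓ X ≤ _ from k)
      rw [card_of_isQ8 h, Nat.card_zpowers, h.ord_of_sq w3] at this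
      omega
    have n' : extAut β w ∉ zpowers w := fun f => g1 (aut_one (hG.to_subgroup _) hw hw'
      (fun g => ((q8_of_gens h hw hw' w2 n).mem g).1) og (e w hw ▸ f))
    refine (q8_of_gens h hw (hm w hw) w2 n').mem_sup_centralizer_iff.2 ⟨c' p hp, ?_⟩
    rw [← extAut_apply_inv β p, ← (isHomOn_extAut β).map_conj (extAut_mem _ hp) hw.1, ← extAut_inv β hw.1]
    exact (c' _ (extAut_mem _ hp)).imp (congrArg _) (congrArg _)
  · rcases q8_cen h (md c hc) (mul_mem (inv_mem hc') (mem_TT.2 fun r hr => by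
      rw [← extAut_apply_inv γ r, e _ (extAut_mem _ hr), ← extAut_mul β (extAut_mem _ hr).1 hc,
        mem_TT.1 hc' _ (extAut_mem _ hr), extAut_mul β hc (extAut_mem _ hr).1])) with f | f <;> rw [f]
    · exact extAut_one' β
    · exact (h.eq_of_mul_self (hm _ uu) (by rw [← extAut_mul β uu.1 uu.1, sq_sq_of_four h.ord, extAut_one'])).resolve_left
        fun f => sq_ne_one_of_four h.ord ((extAut_eq_one_iff β).1 f)

/-- A group of automorphisms of `Q₈` that contains the inner ones and one of odd order. -/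
theorem q8_all_odd {Q : Subgroup G} {u v : G} (h : IsQ8 Q u v) {H : Subgroup (MulAut Q)}
    (hI : Inn Q ≤ H) {γ : MulAut Q} (hγ : γ ∈ H) (ho : Odd (orderOf γ)) (h1 : γ ≠ 1)
    {γ' : MulAut Q} (ho' : Odd (orderOf γ')) : γ' ∈ H := by
  have := finite_mulAut Q
  have h24 := card_le_twenty_four (A := ⊤) h le_rfl (fun α _ x hx => extAut_mem α hx)
    fun α _ e1 e2 => aut_eq_one fun g hg => eq_of_isQ8 h le_rfl e1 e2 hg
  have e1 := card_autInducedBy_mul Q Q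
  rw [← Inn_eq_autInducedBy, le_antisymm (normalizerIn_le Q Q) (le_normalizerIn le_rfl), card_of_isQ8 h] at e1
  have e2 := Subgroup.card_le_of_le (show FusionSystem.centralizerIn Q Q ≤ zpowers (u * u) from fun g hg =>
    (q8_cen h hg.1 hg.2).elim (· ▸ one_mem _) (· ▸ mem_zpowers _))
  rw [Nat.card_zpowers, orderOf_eq_prime ((pow_two _).trans (sq_sq_of_four h.ord)) (sq_ne_one_of_four h.ord)] at e2
  have e3 : 2 ^ 2 ∣ Nat.card (Inn Q) := by
    generalize Nat.card (FusionSystem.centralizerIn Q Q) = c at e1 e2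
    interval_cases c <;> omega
  have e4 := Nat.le_of_dvd Nat.card_pos (((Nat.coprime_two_left.2 ho).pow_left 2).mul_dvd_of_dvd_of_dvd
    (e3.trans (card_dvd_of_le hI)) (H.orderOf_dvd_natCard hγ))
  have e5 : 3 ≤ orderOf γ := by
    have := mt orderOf_eq_one_iff.1 h1
    obtain ⟨k, hk⟩ := ho
    omega
  have e6 := H.index_mul_card
  have e7 := FiniteIndex.index_ne_zero (H := H)
  rw [card_top] at h24
  obtain e | e : H.index = 1 ∨ H.index = 2 := by
    have : H.index < 3 := by nlinarith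
    omega
  · rw [index_eq_one.1 e]; trivial
  · obtain ⟨k, hk⟩ := ho'
    have := mul_self_mem_of_index_two e (γ' ^ (k + 1))
    rwa [← pow_add, show k + 1 + (k + 1) = 2 * k + 1 + 1 by ring, ← hk, pow_succ, pow_orderOf_eq_one, one_mul] at this

variable {F : FusionSystem (⊤ : Subgroup G)}

theorem RotMor.maps {Q : Subgroup G} {γ : MulAut Q} {g : G → G} (hg : Mor F (Q ⊔ TT Q) g)
    (e : ∀ q ∈ Q, g q = extAut γ q) (c : ∀ c ∈ TT Q, g c = c) : ∀ x ∈ Q ⊔ TT Q, g x ∈ Q ⊔ TT Q :=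
  hg.hom.mem_of_sup (fun q hq => e q hq ▸ mem_sup_left (extAut_mem γ hq)) fun x hx => (c x hx).symm ▸ mem_sup_right hx

/-- The automorphisms with `RotMor` form a subgroup containing the inner ones. -/
theorem exists_rotGroup (F : FusionSystem (⊤ : Subgroup G)) (Q : Subgroup G) :
    ∃ H : Subgroup (MulAut Q), Inn Q ≤ H ∧ ∀ γ, γ ∈ H ↔ RotMor F Q γ := by
  refine ⟨{ carrier := {γ | RotMor F Q γ}
            one_mem' := ⟨id, Mor.id F le_top, fun q _ => (extAut_one_apply q).symm, fun _ _ => rfl⟩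
            mul_mem' := ?_
            inv_mem' := ?_ }, fun γ hγ => ?_, fun _ => Iff.rfl⟩
  · rintro γ γ' ⟨g, hg, e, c⟩ ⟨g', hg', e', c'⟩
    exact ⟨_, hg'.comp' hg (RotMor.maps hg' e' c'), fun q hq => by
      rw [e' q hq, e _ (extAut_mem _ hq), extAut_mul_apply], fun x hx => by rw [c' x hx, c x hx]⟩
  · rintro γ ⟨g, hg, e, c⟩
    obtain ⟨g', hg', e', -⟩ := hg.exists_inv' (hg.img_eq_self (RotMor.maps hg e c))
    refine ⟨g', hg', fun q hq => ?_, fun x hx => ?_⟩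
    · rw [← e' _ (mem_sup_left (extAut_mem γ⁻¹ hq)), e _ (extAut_mem _ hq), extAut_apply_inv]
    · rw [← c x hx, e' x (mem_sup_right hx), c x hx]
  · obtain ⟨s, hs, e⟩ := mem_Inn.1 hγ
    exact ⟨_, Mor.conj F le_top (mem_top s), fun q hq => (e q hq).symm, fun c hc => by
      rw [mem_TT.1 hc s hs, mul_inv_cancel_right]⟩

theorem RotMor.conj {Q : Subgroup G} {γ : MulAut Q} (h : RotMor F Q γ) (s : G) :
    ∃ γ' : MulAut (Q.map (MulAut.conj s).toMonoidHom), orderOf γ' = orderOf γ ∧ RotMor F _ γ' := by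
  obtain ⟨g, hg, e, c⟩ := h
  have hs := Mor.conj F (le_top : Q ≤ ⊤) (mem_top s)
  have hi := img_coe Q (MulAut.conj s).toMonoidHom
  have m : ∀ x ∈ TT (Q.map (MulAut.conj s).toMonoidHom), s⁻¹ * x * s ∈ TT Q := fun x hx => mem_TT.2 fun r hr => by
    calc _ = s⁻¹ * (s * r * s⁻¹ * x) * s := by group
      _ = _ := by rw [mem_TT.1 hx (s * r * s⁻¹) ⟨r, hr, rfl⟩]; group
  have h1 := Mor.conj' F (le_top : Q.map (MulAut.conj s).toMonoidHom ⊔ TT (Q.map (MulAut.conj s).toMonoidHom) ≤ ⊤)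
    (mem_top s)
  refine ⟨hs.autCongr hi γ, MulEquiv.orderOf_eq _ γ, _, (h1.comp' hg (h1.hom.mem_of_sup ?_
    fun x hx => mem_sup_right (m x hx))).conj_left (mem_top s), ?_, fun x hx => by rw [c _ (m x hx)]; group⟩
  · rintro _ ⟨q, hq, rfl⟩
    simpa [mul_assoc] using mem_sup_left hq
  · rintro _ ⟨q, hq, rfl⟩
    refine Eq.trans ?_ (hs.extAut_autCongr hi γ hq).symm
    simp [mul_assoc, e q hq]

/-- Extension to `Q C(Q)`. -/
theorem rot_ext (hG : IsPGroup 2 G) (hF : F.IsSaturated 2) {P Q : Subgroup G} (hP : F.IsCentric P)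
    (hQP : Q ≤ P) (hPQ : P ≤ Q ⊔ TT Q) {β : MulAut P} (hβ : β ∈ F.autGroup P) (ho : Odd (orderOf β))
    {γ : MulAut Q} (e : ∀ q ∈ Q, extAut γ q = extAut β q) (hc : ∀ c ∈ P, c ∈ TT Q → extAut β c = c) :
    RotMor F Q γ := by
  induction hn : Nat.card G - Nat.card P using Nat.strong_induction_on generalizing P with
  | _ n ih =>
  rcases hPQ.eq_or_lt with rfl | hlt
  · exact ⟨_, (mem_autGroup le_top).1 hβ, fun q hq => (e q hq).symm, fun c h => hc c (mem_sup_right h) h⟩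
  have dec : ∀ x ∈ Q ⊔ TT Q, ∃ q ∈ Q, ∃ c ∈ TT Q, x = q * c := fun x hx => by
    rw [← SetLike.mem_coe, coe_mul_of_right_le_normalizer_left _ _ (centralizer_le_normalizer _)] at hx
    obtain ⟨q, hq, c, hc, rfl⟩ := hx
    exact ⟨q, hq, c, hc, rfl⟩
  obtain ⟨g, hg, gN, gP⟩ := exists_mem_normalizer_notMem (hG.to_subgroup _) hlt
  obtain ⟨q, hq, d, hd, rfl⟩ := dec g hg
  have dN := (mul_mem_cancel_left (le_normalizer (hQP hq))).1 gN
  have dP := mt (mul_mem_cancel_left (hQP hq)).2 gP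
  have cj : ∀ x ∈ P, extAut β (d * x * d⁻¹) = d * extAut β x * d⁻¹ := fun x hx => by
    obtain ⟨q, hq, c, hc', rfl⟩ := dec x (hPQ hx)
    have cP := (mul_mem_cancel_left (hQP hq)).1 hx
    have m := Tech.conj_mem_of_mem_normalizer dN cP
    rw [← mul_assoc, ← mem_TT.1 hd q hq, mul_assoc q, mul_assoc q, extAut_mul β (hQP hq) m, extAut_mul β (hQP hq) cP,
      hc _ cP hc', hc _ m (mul_mem (mul_mem hd hc') (inv_mem hd)), ← e q hq, ← mul_assoc d,
      ← mem_TT.1 hd _ (extAut_mem γ hq)]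
    group
  obtain ⟨ψ, hψ, eψ⟩ := sat_extend_centric (hG.to_subgroup ⊤) hF hP ((mem_autGroup le_top).1 hβ)
  have cen : ∀ f, IsHomOn (P ⊔ zpowers d) f → (∀ x ∈ P, f x = extAut β x) → d⁻¹ * f d ∈ P ⊓ TT P := fun f hf ef => by
    have m : d⁻¹ * f d ∈ TT P := mem_TT.2 fun r hr => by
      have := hf.map_conj (mem_sup_right (mem_zpowers d)) (mem_sup_left (extAut_mem β⁻¹ hr))
      rw [ef _ (Tech.conj_mem_of_mem_normalizer dN (extAut_mem _ hr)), cj _ (extAut_mem _ hr), ef _ (extAut_mem _ hr),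
        extAut_apply_inv] at this
      calc _ = d⁻¹ * (d * r * d⁻¹) * f d := by group
        _ = _ := by rw [this]; group
    exact ⟨hP.2 P (isConj_refl F le_top) ⟨mem_top _, m⟩, m⟩
  replace hψ := hψ.mono (Q := P ⊔ zpowers d) (sup_le ((mem_autGroup le_top).1 hβ).le_Nf
    (zpowers_le.2 ⟨mem_top _, dN, d, mem_top _, cj⟩))
  have md : d ∈ P ⊔ zpowers d := mem_sup_right (mem_zpowers d)
  obtain ⟨α, hα, eα⟩ := hψ.exists_aut_of_mem (hψ.hom.mem_of_sup
    (fun x hx => eψ x hx ▸ mem_sup_left (extAut_mem β hx)) (by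
      rintro _ ⟨l, rfl⟩
      rw [hψ.hom.map_zpow md, ← mul_inv_cancel_left d (ψ d)]
      exact zpow_mem (mul_mem md (mem_sup_left (cen ψ hψ.hom eψ).1)) l))
  obtain ⟨k, co, ek⟩ := exists_pow_coprime_ext (p := 2) (Nat.coprime_two_right.2 ho) (γ := α)
    fun x hx => (eα x (mem_sup_left hx)).trans (eψ x hx)
  have m := cen _ (isHomOn_extAut (α ^ k)) ek
  have fd := fix_of_coprime_of_step (hG.to_subgroup _) co md (by rw [ek _ m.1, hc _ m.1 (centralizer_le hQP m.2)])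
  have l1 : Nat.card P < Nat.card ↥(P ⊔ zpowers d) := lt_of_not_ge fun f =>
    dP ((Subgroup.eq_of_le_of_card_ge le_sup_left f).ge md)
  have l2 := card_le_card_group (P ⊔ zpowers d)
  refine ih _ (by omega) (centric_of_le hP le_sup_left le_top) (hQP.trans le_sup_left)
    (sup_le hPQ (zpowers_le.2 (mem_sup_right hd))) (pow_mem hα k) (Nat.coprime_two_right.1 co)
    (fun q hq => (e q hq).trans (ek q (hQP hq)).symm) (fun c hc' hT => ?_) rfl
  rw [← SetLike.mem_coe, coe_mul_of_right_le_normalizer_left _ _ (zpowers_le.2 dN)] at hc'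
  obtain ⟨x, hx, _, ⟨l, rfl⟩, rfl⟩ := hc'
  beta_reduce at hT ⊢
  rw [extAut_mul _ (mem_sup_left hx) (zpow_mem md l), extAut_zpow _ md, fd, ek x hx,
    hc x hx ((mul_mem_cancel_right (zpow_mem hd l)).1 hT)]

end CfsgLib.WQ
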