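import Mathlib
import Cfsg.Agent.Lib.WQ.Gen
import Cfsg.Agent.Lib.WQ.Q8
import Cfsg.Agent.Lib.Fusion.SubNormal
import Cfsg.Agent.Lib.Fusion.Res

/-! Package FZ: `C_F(z)` is generated by the automorphisms of the groups `Q₈ C(Q₈)`. See `plans/WQ.md`. -/

set_option autoImplicit false
set_option linter.unusedSectionVars false

namespace CfsgLib.WQ

open Subgroup Cfsg Cfsg.FusionSystem CfsgLib.Fusion CfsgLib.TwoGrp CfsgLib.QDFus

universe u

variable {G : Type u} [Group G] [Finite G]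
variable {F : FusionSystem (⊤ : Subgroup G)} {R : Subgroup G} {j : ℕ} {a b i z : G}

/-- An automorphism of odd order of a centric subgroup with `[P, β]` in a quaternion subgroup. -/
theorem fz_star (hG : IsPGroup 2 G) {Z E : FusionSystem (⊤ : Subgroup G)} (hZ : Z.IsSaturated 2)
    {X P : Subgroup G} [X.Normal] {k : ℕ} {t c : G} (hX : IsQuat X (2 ^ (k + 2)) t c)
    (hE : ∀ (Q : Subgroup G) (u v : G), IsQ8 Q u v → Q ≤ X → ∀ γ : MulAut Q,
      Odd (orderOf γ) → γ ≠ 1 → RotMor Z Q γ → RotMor E Q γ)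
    (hP : Z.IsCentric P) {β : MulAut P} (hβ : β ∈ Z.autGroup P) (ho : Nat.Coprime (orderOf β) 2)
    (hβX : β ∈ stabMod P X) : β ∈ E.autGroup P := by
  by_cases h1 : β = 1
  · rw [h1]; exact one_mem _
  have ho' := Nat.coprime_two_right.1 ho
  obtain ⟨Q, u, v, γ, hQ, hQX, hQP, hPQ, hγ, hγ1, e, ec⟩ := qtype hG hX ho' h1 hβX
  obtain ⟨g, hg, e1, e2⟩ := hE Q u v hQ hQX γ hγ hγ1 (rot_ext hG hZ hP hQP hPQ hβ ho' e ec)
  refine ((hg.mono hPQ).congr fun x hx => ?_).mem_autGroup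
  obtain ⟨q, hq, c, hc, rfl⟩ := (Core.mem_sup_of_le_normalizer_left
    (centralizer_le_normalizer (Q : Set G))).1 (hPQ hx)
  have hcP : c ∈ P := by simpa using P.mul_mem (P.inv_mem (hQP hq)) hx
  rw [hg.map_mul (mem_sup_left hq) (mem_sup_right hc), (isHomOn_extAut β).map_mul (hQP hq) hcP,
    e1 q hq, e q hq, e2 c hc, ec c hcP hc]

theorem Qd.fz_stab (h : Qd R j a b i z) {P : Subgroup G} (hRP : R ≤ P) {β : MulAut P}
    (ho : Nat.Coprime (orderOf β) 2) (hm : ∀ r ∈ R, extAut β r ∈ R) : β ∈ stabMod P (TT R) := by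
  have : Fact (Nat.Prime 2) := ⟨Nat.prime_two⟩
  have hk := mem_resK_top_of_mem hRP hm
  have h1 : resHom P R ⟨β, hk⟩ = 1 :=
    eq_one_of_coprime_of_mem_pGroup (h.isPGroup_mulAut.to_subgroup ⊤) (mem_top _)
      (ho.coprime_dvd_left ((orderOf_map_dvd _ _).trans (by rw [orderOf_mk])))
  have h2 : ∀ r ∈ R, extAut β r = r := fun r hr => by
    have := extAut_resHom (⟨β, hk⟩ : resK P R ⊤) hr
    rw [h1, extAut_one_apply] at this
    exact this.symm
  intro x hx
  refine mem_TT.2 fun r hr => ?_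
  have h3 := h2 _ (h.nrm.conj_mem r hr x)
  rw [(isHomOn_extAut β).map_conj hx (hRP hr), h2 r hr] at h3
  calc r * (x⁻¹ * extAut β x) = x⁻¹ * (x * r * x⁻¹) * extAut β x := by group
    _ = x⁻¹ * extAut β x * r := by rw [← h3]; group

theorem Hyp.fz_le (h : Hyp F R j a b i z) {j' : ℕ} {t b' : G} (hT : IsQuat (TT R) (2 ^ (j' + 2)) t b')
    {E : FusionSystem (⊤ : Subgroup G)}
    (hE : ∀ (Q : Subgroup G) (u v : G), IsQ8 Q u v → Q ≤ R ∨ Q ≤ TT R → ∀ γ : MulAut Q,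
      Odd (orderOf γ) → γ ≠ 1 → RotMor F Q γ → RotMor E Q γ) : FzLe F z E := by
  have : Fact (Nat.Prime 2) := ⟨Nat.prime_two⟩
  obtain ⟨Z, hZ, hR, hZF, -, hFZ⟩ := h.exists_Fz
  have hS : IsPGroup 2 (⊤ : Subgroup G) := h.two.to_subgroup ⊤
  suffices H : Z ≤ E from fun P f hf hz e => le_iff_mor.1 H P f (hFZ P f hf hz e)
  have hrot : ∀ {Q : Subgroup G} {γ : MulAut Q}, RotMor Z Q γ → RotMor F Q γ :=
    fun ⟨g, hg, e⟩ => ⟨g, hZF _ _ hg, e⟩
  have := h.nrm
  have := h.T_normal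
  refine sat_le_of_step hS hZ fun P hP ih α hα => ?_
  have hα' := (mem_autGroup hP.1).1 hα
  have hPc := sat_fullyCentralized hS hZ hP
  by_cases hc : centralizerIn ⊤ P ≤ P
  swap
  · obtain ⟨g, hg, e⟩ := sat_extend_centralizer hS hZ hα' (by rwa [img_extAut])
    have hlt : P < P ⊔ centralizerIn ⊤ P :=
      lt_of_le_of_ne le_sup_left fun e => hc (le_sup_right.trans e.ge)
    exact ((ih _ g (card_lt_of_lt hlt) hg).mono le_sup_left).congr e
  have hcen := centric_of_fullyCentralized hPc hc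
  have := finite_mulAut P
  have hsyl := sat_sylIn hS hZ hP
  by_cases hRP : R ≤ P
  · refine (mem_autGroup le_top).1 (hsyl.le_of_opRes (autInducedBy_le_autGroup E le_top)
      (opRes_le_iff.2 fun β hβ ho => ?_) hα)
    exact fz_star h.two hZ hT (fun Q u v hQ hle γ h1 h2 h3 => hE Q u v hQ (Or.inr hle) γ h1 h2 (hrot h3))
      hcen hβ ho (h.fz_stab hRP ho fun r hr =>
        ((mem_autGroup le_top).1 hβ).mem_of_stronglyClosed hR (hRP hr) hr)
  have hK : Z.autGroup P ⊓ stabMod P R ≤ E.autGroup P :=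
    (hsyl.inf_of_le_normalizer (autGroup_le_normalizer_stabMod hR hP.1)).le_of_opRes
      (inf_le_left.trans (autInducedBy_le_autGroup E le_top)) (opRes_le_iff.2 fun β hβ ho =>
        fz_star h.two hZ h.quat
          (fun Q u v hQ hle γ h1 h2 h3 => hE Q u v hQ (Or.inl hle) γ h1 h2 (hrot h3))
          hcen hβ.1 ho hβ.2)
  obtain ⟨y, hyT, hyn, hyP⟩ := exists_mem_normalizer_of_not_le hS hP.1 hR.1
    (hP.1.trans (le_normalizer_of_stronglyClosed hR)) hRP
  obtain ⟨κ, hκ, ψ, hψ, eψ⟩ := sat_frattini_aut hS hZ hP (autGroup_le_normalizer_stabMod hR hP.1)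
    (N := normalizerIn R P) (inf_le_inf_right _ hR.1) (fun β hβ x hx => by
      obtain ⟨u, hu, eu⟩ := mem_autInducedBy.1 hβ
      rw [eu x hx]
      have := R.mul_mem (h.nrm.conj_mem u hu.1 x⁻¹) (R.inv_mem hu.1)
      simpa [mul_assoc] using this) hα
  have hlt : P < P ⊔ normalizerIn R P :=
    lt_of_le_of_ne le_sup_left fun e => hyP (e ▸ mem_sup_right ⟨hyT, hyn⟩)
  have h1 := (ih _ ψ (card_lt_of_lt hlt) hψ).mono le_sup_left
  have h2 : Mor E P (extAut κ⁻¹) := (mem_autGroup le_top).1 (inv_mem (hK hκ))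
  refine (h1.comp h2 fun x hx => by
    rw [eψ x hx]; exact extAut_mem _ (extAut_mem _ hx)).congr fun x hx => ?_
  rw [Function.comp_apply, eψ x hx, extAut_inv_apply]

end CfsgLib.WQ
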