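import Mathlib
import Cfsg.Agent.Lib.Fusion.Factor2
import Cfsg.Agent.Lib.WQ.CA2
import Cfsg.Agent.Lib.WQ.Fz
import Cfsg.Agent.Lib.WQ.Big

/-! Package ROT: the fusion system of type `G₂` is unique. See `plans/WQ.md`. -/

set_option autoImplicit false
set_option linter.unusedSectionVars false

namespace CfsgLib.WQ

open Subgroup Cfsg CfsgLib.Fusion CfsgLib.TwoGrp CfsgLib.QDFus

universe u

variable {G : Type u} [Group G] [Finite G]
variable {F E : FusionSystem (⊤ : Subgroup G)} {R : Subgroup G} {j : ℕ} {a b i z x y s d : G}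

theorem G2T.hyp' (g : G2T F R j x y s d) (h : Hyp F R j a b i z) :
    Hyp F (Q1 j x y s d) j (x * y) (d * s * x ^ 2 ^ (j + 2)) ((x * y) ^ 2 ^ (j + 1))
      ((x * y) ^ 2 ^ (j + 2)) ∧ z = (x * y) ^ 2 ^ (j + 2) := by
  obtain rfl := g.R_eq
  have q := Bg.qd g.big
  obtain rfl := (h.invol q.z_mem q.zz).resolve_left q.z_ne
  exact ⟨⟨q, h.sat, h.wc, h.sc, h.hyp, h.nz⟩, rfl⟩

theorem G2T.exists_CA (g : G2T F R j x y s d) (h : Hyp F R j a b i z) :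
    ∃ θ : MulAut (Cn (x ^ 2 ^ (j + 2))), CA F (Q1 j x y s d) j (x * y) (d * s * x ^ 2 ^ (j + 2))
      ((x * y) ^ 2 ^ (j + 1)) ((x * y) ^ 2 ^ (j + 2)) (x ^ 2 ^ (j + 2)) x θ ∧
      extAut θ x = y ∧ extAut θ y = (x * y)⁻¹ ∧ extAut θ d = d := by
  have B := g.big
  have H := (g.hyp' h).1
  obtain ⟨θ₀, m, e1, e2, e3⟩ := g.th
  have hx : x ∈ closure ({x, y, d} : Set G) := subset_closure (by simp)
  have hy : y ∈ closure ({x, y, d} : Set G) := subset_closure (by simp)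
  have hd : d ∈ closure ({x, y, d} : Set G) := subset_closure (by simp)
  have hm := m.hom.mem_of_closure (R := closure {x, y, d}) (by
    rintro _ (rfl | rfl | rfl)
    exacts [e1 ▸ hy, e2 ▸ inv_mem (mul_mem hx hy), e3.symm ▸ hd])
  have eC := Bg.Cn_eq B
  rw [← eC] at m hm hx hy hd
  obtain ⟨θ, hθ, e⟩ := m.exists_aut_of_mem hm
  rw [← e _ hx] at e1
  rw [← e _ hy] at e2
  rw [← e _ hd] at e3
  have M := (mem_autGroup le_top).1 hθ
  have c : Commute x y := B.xy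
  have e4 : extAut θ (x * y) = x⁻¹ := by rw [M.map_mul hx hy, e1, e2]; group
  have e5 : extAut θ (x * y)⁻¹ = x := by rw [M.map_inv (mul_mem hx hy), e4, inv_inv]
  have uu : x ^ 2 ^ (j + 2) * x ^ 2 ^ (j + 2) = 1 := by
    rw [← pow_add, ← two_mul, ← pow_succ', ← Bg.ord_x B, pow_orderOf_eq_one]
  have M2 : Mor F (Cn (x ^ 2 ^ (j + 2))) fun g => extAut θ (extAut θ g) := M.comp' M fun g hg => extAut_mem θ hg
  have e6 : extAut θ (extAut θ (x ^ 2 ^ (j + 2))) = (x * y) ^ 2 ^ (j + 2) := by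
    rw [M.hom.map_pow hx, e1, M.hom.map_pow hy, e2, inv_pow, inv_eq_of_mul_eq_one_right H.zz]
  refine ⟨θ, ⟨H, ⟨Bg.u_ne B, ⟨_, _, M2, self_mem_Cn _, e6⟩, sat_fullyCentralized (isPGroup_top H.two) H.sat
    (fullyNormalized_of_le_normalizer le_top (have := Bg.U_normal B; le_normalizer_of_normal))⟩,
    Bg.tyA B, le_antisymm (fun w hw => ?_) (zpowers_le.2 ?_), Bg.ord_x B, by rw [mul_assoc, c.eq],
    by simpa using Bg.x_act₁ B 1, rfl, hθ, ?_, ?_, ?_⟩, e1, e2, e3⟩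
  · have k := RX_le _ _ _ _ hw
    obtain ⟨l, hl⟩ := Bg.inf_C B ((H.mem_RX M2 (self_mem_Cn _) e6 k).1 hw) (eC ▸ extAut_mem θ (extAut_mem θ k))
    refine ⟨-l, M2.inj (zpow_mem hx _) k ?_⟩
    rw [← hl, M.hom.map_zpow hx, e1, M.hom.map_zpow hy, e2, inv_zpow', neg_neg]
  · rw [H.mem_RX M2 (self_mem_Cn _) e6 hx, e1, e2]
    exact inv_mem H.a_mem
  · refine (show Odd 3 by decide).of_dvd_nat (orderOf_dvd_of_pow_eq_one (aut_eq_one fun w hw => ?_))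
    refine IsHomOn.eqOn_closure (s := {x, y, d}) (g := id) (eC ▸ isHomOn_extAut _) (isHomOn_id _) ?_ w (eC ▸ hw)
    rintro _ (rfl | rfl | rfl) <;> simp only [pow_succ, pow_zero, one_mul, extAut_mul_apply, e1, e2, e3, e5, id]
  · rw [M.hom.map_pow (mul_mem hx hy), e4, inv_pow, inv_eq_of_mul_eq_one_right uu]
  · rw [M.hom.map_pow hx, e1, c.mul_pow, ← mul_assoc, uu, one_mul]

/-- all quaternion subgroups of order 8 of `X` are conjugate -/
theorem rot_of_one {X : Subgroup G} {t b : G} (hX : IsQuat X (2 ^ (j + 2)) t b) (c : Commute x t)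
    (hb : ∀ l : ℤ, x ^ l * b * (x ^ l)⁻¹ = t ^ l * b)
    (h0 : ∃ (Q : Subgroup G) (u v : G) (γ : MulAut Q), IsQ8 Q u v ∧ Q ≤ X ∧ Odd (orderOf γ) ∧ γ ≠ 1 ∧ RotMor F Q γ)
    {Q : Subgroup G} {u v : G} (hQ : IsQ8 Q u v) (hle : Q ≤ X) {γ : MulAut Q} (ho : Odd (orderOf γ)) :
    RotMor F Q γ := by
  obtain ⟨Q₀, u₀, v₀, γ₀, q₀, l₀, o₀, n₀, r₀⟩ := h0
  obtain ⟨m₀, k₀⟩ := q8_sub hX q₀ l₀
  obtain ⟨m, k⟩ := q8_sub hX hQ hle
  have k₁ := q8_map_conj k₀ (x ^ (m - m₀))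
  have e : x ^ (m - m₀) * (t ^ m₀ * b) * (x ^ (m - m₀))⁻¹ = t ^ m * b := by
    rw [← mul_assoc, (c.zpow_zpow _ _).eq, mul_assoc, mul_assoc, ← mul_assoc _ b, hb, ← mul_assoc, ← zpow_add,
      add_sub_cancel]
  rw [e, ((c.zpow_left _).pow_right _).eq, mul_inv_cancel_right] at k₁
  obtain rfl := q8_eq k k₁
  obtain ⟨γ₁, o₁, r₁⟩ := r₀.conj (x ^ (m - m₀))
  obtain ⟨H, hI, hH⟩ := exists_rotGroup F (Q₀.map (MulAut.conj (x ^ (m - m₀))).toMonoidHom)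
  exact (hH γ).1 (q8_all_odd k hI ((hH _).2 r₁) (o₁ ▸ o₀)
    (fun e => n₀ (orderOf_eq_one_iff.1 (by rw [← o₁, e, orderOf_one]))) ho)

theorem G2T.rot_aux (g : G2T F R j x y s d) (h : Hyp F R j a b i z) {e : G} (he : e = s ∨ e = d * s)
    (k : ∀ (Q : Subgroup G) (u v : G), IsQ8 Q u v → Q ≤ Q1 j x y s d ∨ Q ≤ TT (Q1 j x y s d) → ∀ γ : MulAut Q,
      Odd (orderOf γ) → γ ≠ 1 → RotMor F Q γ → Q ≤ closure {x, y, e}) : False := by
  obtain ⟨θ, C, -⟩ := g.exists_CA h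
  obtain ⟨n1, n2⟩ := Bg.idx g.big e he
  obtain ⟨E, hE⟩ := exists_focSys F (N := closure {x, y, e}) fun s w => n2 w s
  refine n1 (C.hyp.eq_top_of_le (fun P f k => ((hE P f).1 k).2) (C.gen (C.hyp.fz_le (Bg.T_quat g.big)
    fun Q u v hQ hle γ ho h1 hγ => ?_) ((hE _ _).2 ⟨C.th.mor, fun w hw => ?_⟩)))
  · have l := k Q u v hQ hle γ ho h1 hγ
    obtain ⟨f, m, f1, f2⟩ := hγ
    refine ⟨f, (hE _ _).2 ⟨m, fun w hw => ?_⟩, f1, f2⟩
    obtain ⟨q, hq, c, hc, rfl⟩ := (mem_sup_centralizerIn (S := ⊤)).1 (by rwa [centralizerIn_top] : w ∈ Q ⊔ _)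
    rw [centralizerIn_top] at hc
    have m' := Q.mul_mem (Q.inv_mem hq) (extAut_mem γ hq)
    rw [m.map_mul (mem_sup_left hq) (mem_sup_right hc), f1 q hq, f2 c hc, mul_inv_rev, mul_assoc, ← mul_assoc q⁻¹,
      mem_TT.1 hc _ m', inv_mul_cancel_left]
    exact l m'
  · have hx : x ∈ closure ({x, y, e} : Set G) := subset_closure (by simp)
    have hy : y ∈ closure ({x, y, e} : Set G) := subset_closure (by simp)
    exact (sup_le (zpowers_le.2 (mul_mem hx hy)) (zpowers_le.2 hx) :) (C.th_mod hw)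

theorem G2T.rot_all (g : G2T F R j x y s d) (h : Hyp F R j a b i z) {Q : Subgroup G} {u v : G}
    (hQ : IsQ8 Q u v) (hle : Q ≤ R ∨ Q ≤ TT R) {γ : MulAut Q} (ho : Odd (orderOf γ)) :
    RotMor F Q γ := by
  have B := g.big
  have c : Commute x y := B.xy
  obtain rfl := g.R_eq
  rcases hle with hle | hle
  · refine rot_of_one (Bg.qd B).quat ((Commute.refl x).mul_right c) (Bg.x_act₁ B) ?_ hQ hle ho
    by_contra! k
    exact g.rot_aux h (.inl rfl) fun Q u v hQ hle γ ho h1 hγ =>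
      hle.elim (fun hle => (k Q u v γ hQ hle ho h1 hγ).elim) fun hle => hle.trans (Bg.T_le B)
  · refine rot_of_one (Bg.T_quat B) ((Commute.refl x).mul_right c.inv_right) (Bg.x_act₂ B) ?_ hQ hle ho
    by_contra! k
    exact g.rot_aux h (.inr rfl) fun Q u v hQ hle γ ho h1 hγ =>
      hle.elim (fun hle => hle.trans (Bg.R_le B)) fun hle => (k Q u v γ hQ hle ho h1 hγ).elim

theorem G2T.le (g : G2T F R j x y s d) (h : Hyp F R j a b i z) {a' b' i' z' : G}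
    (g' : G2T E R j x y s d) (h' : Hyp E R j a' b' i' z') : F ≤ E := by
  obtain ⟨θ, C, e1, e2, e3⟩ := g.exists_CA h
  refine C.gen (C.hyp.fz_le (Bg.T_quat g.big) fun Q u v hQ hle γ ho _ _ => g'.rot_all h' hQ (g.R_eq ▸ hle) ho) ?_
  obtain ⟨θ', m, f1, f2, f3⟩ := g'.th
  have eC := Bg.Cn_eq g.big
  refine (show Mor E (Cn _) θ' from eC ▸ m).congr fun w hw => ?_
  refine m.hom.eqOn_closure (eC ▸ isHomOn_extAut θ) ?_ w (eC ▸ hw)
  rintro _ (rfl | rfl | rfl)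
  exacts [f1.trans e1.symm, f2.trans e2.symm, f3.trans e3.symm]

end CfsgLib.WQ
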